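import Cfsg.Agent.Omega.NO3b.TheoremL.Tight

/-!
# THEOREM L (#18749, helper344): two noncentral `X`-factors in `U` imply `B ∩ O₂(X) ≠ 1`

`ne_of_two` : if `N ≤ U` is `X`-invariant and the elements of odd order act nontrivially on `N` and on `U / N`, then
`B ∩ O₂(X) ≠ 1`.
-/

set_option autoImplicit false
set_option linter.unusedSectionVars false

namespace Cfsg.Agent.Omega.NO3b.TheoremL.Ne

open Cfsg.Agent.Omega.FF.Basic
open Cfsg.Agent.Omega.NO3b.Exit.TT
open Cfsg.Agent.Omega.NO3b.TheoremL.Act (Q Sec)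
open Cfsg.Agent.Omega.NO3b.TheoremL.Core1 (Hyp)
open Cfsg.Agent.Omega.NO3b.TheoremL.Core3 (Out core VZ)
open Cfsg.Agent.Omega.NO3b.TheoremL.Tight
open Cfsg.Agent.Omega.MinFF (TI)
open Cfsg (pCore)
open scoped Pointwise

variable {X : Type*} [Group X] [Finite X] {U : Type*} [AddCommGroup U] [Finite U] [DistribMulAction X U]
  {S : Sylow 2 X} {V F : AddSubgroup U} {B : Subgroup X}

/-- a normal subgroup which contains a 2-subgroup `B ≰ O₂(X)` contains all elements of odd order -/
theorem odd_mem (h : DatU S V F) {K : Subgroup X} (hK : K.Normal) (hB : IsPGroup 2 B) (hBK : B ≤ K)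
    (hne : ¬ B ≤ pCore 2 X) {x : X} (hx : Odd (orderOf x)) : x ∈ K := by
  classical
  have hf : Fact (Nat.Prime 2) := ⟨Nat.prime_two⟩
  by_cases hKV : K ≤ nf X V
  · exfalso
    apply hne
    have h1 := Lib.SylowNormalInf.normalizer_inf_sup_eq_top S K
    have h2 : (S : Subgroup X) ≤ Subgroup.normalizer (((S : Subgroup X) ⊓ K : Subgroup X) : Set X) := by
      intro s hs
      rw [← cj_eq_iff_mem_normalizer]
      ext z
      rw [mem_cj, Subgroup.mem_inf, Subgroup.mem_inf]
      constructor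
      · rintro ⟨h3, h4⟩
        have h5 := (S : Subgroup X).mul_mem ((S : Subgroup X).mul_mem hs h3) ((S : Subgroup X).inv_mem hs)
        have h6 := hK.conj_mem _ h4 s
        have e : s * (s⁻¹ * z * s) * s⁻¹ = z := by group
        rw [e] at h5 h6
        exact ⟨h5, h6⟩
      · rintro ⟨h3, h4⟩
        have h6 := hK.conj_mem _ h4 s⁻¹
        rw [inv_inv] at h6
        exact ⟨(S : Subgroup X).mul_mem ((S : Subgroup X).mul_mem ((S : Subgroup X).inv_mem hs) h3) hs, h6⟩
    have h3 : Subgroup.normalizer (((S : Subgroup X) ⊓ K : Subgroup X) : Set X) = ⊤ := by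
      by_contra h4
      have h5 := h.uniq _ h2 h4
      apply h.ne
      rw [eq_top_iff, ← h1]
      exact sup_le h5 hKV
    have h4 : ((S : Subgroup X) ⊓ K).Normal := Subgroup.normalizer_eq_top_iff.1 h3
    have h5 : (S : Subgroup X) ⊓ K ≤ pCore 2 X := Lib.Cores.le_pCore h4 (S.isPGroup'.to_le inf_le_left)
    obtain ⟨P, hP⟩ := hB.exists_le_sylow
    obtain ⟨g, hg⟩ := MulAction.exists_smul_eq X P S
    have hg' : ∀ z : X, z ∈ (P : Subgroup X) → g * z * g⁻¹ ∈ (S : Subgroup X) := by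
      intro z hz
      rw [← hg]
      show g * z * g⁻¹ ∈ ((g • P : Sylow 2 X) : Subgroup X)
      rw [MinFF.coe_smul_sylow, MinFF.mem_cj]
      have e : g⁻¹ * (g * z * g⁻¹) * g = z := by group
      rw [e]; exact hz
    intro b hb
    have h6 : g * b * g⁻¹ ∈ (S : Subgroup X) ⊓ K := ⟨hg' b (hP hb), hK.conj_mem b (hBK hb) g⟩
    have h7 := h4.conj_mem _ h6 g⁻¹
    have e : g⁻¹ * (g * b * g⁻¹) * g⁻¹⁻¹ = b := by group
    rw [e] at h7
    exact h5 h7
  · have h1 : (S : Subgroup X) ⊔ K = ⊤ := by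
      by_contra h2
      exact hKV (le_sup_right.trans (h.uniq _ le_sup_left h2))
    -- `X / K` is a 2-group
    have h2 : IsPGroup 2 (X ⧸ K) := by
      intro q
      obtain ⟨z, rfl⟩ := QuotientGroup.mk_surjective q
      have hz : z ∈ (S : Subgroup X) ⊔ K := by rw [h1]; trivial
      obtain ⟨s, hs, k, hk, rfl⟩ := Subgroup.mem_sup_of_normal_right.1 hz
      obtain ⟨n, hn⟩ := S.isPGroup' ⟨s, hs⟩
      refine ⟨n, ?_⟩
      have h3 : (QuotientGroup.mk (s * k) : X ⧸ K) = QuotientGroup.mk s := by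
        rw [QuotientGroup.mk_mul, (QuotientGroup.eq_one_iff k).2 hk, mul_one]
      have h4 : s ^ 2 ^ n = 1 := congrArg Subtype.val hn
      rw [h3, ← QuotientGroup.mk_pow, h4]; rfl
    have h3 : orderOf (QuotientGroup.mk x : X ⧸ K) ∣ orderOf x := orderOf_map_dvd (QuotientGroup.mk' K) x
    obtain ⟨n, hn⟩ := h2 (QuotientGroup.mk x)
    have h4 := orderOf_dvd_of_pow_eq_one hn
    have h5 : orderOf (QuotientGroup.mk x : X ⧸ K) = 1 := by
      have h6 : Nat.Coprime (orderOf x) (2 ^ n) := (Nat.coprime_two_right.2 hx).pow_right n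
      exact Nat.eq_one_of_dvd_coprimes h6 h3 h4
    exact (QuotientGroup.eq_one_iff x).1 (orderOf_eq_one_iff.1 h5)

/-- **two noncentral `X`-factors** in `U` -/
theorem ne_of_two (h : DatU S V F) (m : MBU U B) {N : AddSubgroup U} (hN : ∀ x : X, ∀ v ∈ N, x • v ∈ N)
    (h1 : ∃ x : X, Odd (orderOf x) ∧ ∃ u : U, x • u - u ∉ N) (h2 : ∃ x : X, Odd (orderOf x) ∧ ∃ v ∈ N, x • v ≠ v) :
    B ⊓ pCore 2 X ≠ ⊥ := by
  intro h0
  obtain ⟨Y₀, y, hB, hy⟩ := exists_out h m
  have o := core hy
  have t := tight h m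
  set A := B.subgroupOf Y₀ with hA
  set M := (MulAut.conj y • nf X V).subgroupOf Y₀ with hM
  have memM : ∀ k : Y₀, k ∈ M ↔ (k : X) ∈ nf X (y • V) := by
    intro k
    rw [hM, Subgroup.mem_subgroupOf, MinFF.mem_cj, ← nf_conj]
  obtain ⟨k, hk⟩ := hy.ti.exists_not_mem
  have hx : ¬ B ≤ nf X (((k : X) * y) • V) := by
    intro h0
    apply hk
    apply hy.ti.ti
    intro a ha
    rw [MinFF.mem_cj, memM]
    have h1 := h0 (Subgroup.mem_subgroupOf.1 ha)
    rw [mul_smul, nf_conj] at h1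
    exact h1
  have tx := t.all _ hx
  have hA₁ : A ⊓ pCore 2 Y₀ = ⊥ := by
    rw [← o.nf k hk, Subgroup.eq_bot_iff_forall]
    rintro a ⟨ha, hak⟩
    have h3 := MinFF.mem_cj.1 hak
    rw [memM] at h3
    have h4 : (a : X) ∈ nf X ((k : X) • y • V) := nf_conj.2 h3
    rw [← mul_smul] at h4
    have h5 : (a : X) ∈ B ⊓ nf X (((k : X) * y) • V) := ⟨Subgroup.mem_subgroupOf.1 ha, h4⟩
    rw [tx.nf_eq, h0, Subgroup.mem_bot] at h5
    exact Subtype.ext h5
  set Z := fx U (⊤ : Subgroup Y₀) with hZ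
  have hD : Act.D U A = ⊤ := by
    rw [eq_top_iff, ← o.sup k hk]
    refine sup_le ?_ Q.C_le_D
    exact (AddSubgroup.pointwise_smul_le_pointwise_smul_iff.2 hy.V_le_C).trans (Q.smul_C_le_D k)
  have hP : Sec U A (N ⊔ Z) :=
    { Z_le := le_sup_right
      le_D := by rw [hD]; exact le_top
      inv := fun z v hv => by
        obtain ⟨n, hn, c, hc, rfl⟩ := AddSubgroup.mem_sup.1 hv
        rw [smul_add, Q.Z_smul hc]
        exact add_mem (AddSubgroup.mem_sup_left (hN (z : X) n hn)) (AddSubgroup.mem_sup_right hc) }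
  have hcase : N ≤ Z ∨ N ⊔ Z = ⊤ := by
    by_cases hNZ : N ≤ Z
    · exact Or.inl hNZ
    · right
      have hlt : Z < N ⊔ Z := lt_of_le_of_ne le_sup_right fun h3 => hNZ (by rw [h3]; exact le_sup_left)
      have h3 := hP.index hy.toQ hy.secZ hlt
      rw [← hZ, inf_eq_left.2 (Q.Z_le A), hA₁, Subgroup.card_bot, one_mul] at h3
      have h4 : Nat.card (fx U A) = Nat.card A * Nat.card Z := by rw [o.C_eq]; exact o.card
      have h5 : (N ⊔ Z) ⊓ fx U A = fx U A := eq_of_card_le inf_le_right (by rw [h4]; exact h3)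
      have h6 : fx U A ≤ N ⊔ Z := by rw [← h5]; exact inf_le_left
      rw [eq_top_iff, ← o.sup k hk]
      refine sup_le ?_ h6
      refine (AddSubgroup.pointwise_smul_le_pointwise_smul_iff.2 hy.V_le_C : k • y • V ≤ k • fx U A).trans ?_
      intro v hv
      rw [mem_smul] at hv
      have h7 := hP.inv k _ (h6 hv)
      rwa [smul_inv_smul] at h7
  rcases hcase with hc | hc
  · obtain ⟨x, hxo, v, hv, hne⟩ := h2
    let K : Subgroup X := cf X N
    have hK : K.Normal := by
      constructor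
      intro a ha g n hn
      have h3 := ha _ (hN g⁻¹ n hn)
      rw [mul_smul, mul_smul, h3, smul_inv_smul]
    apply hne
    refine odd_mem h hK m.ea.isPGroup ?_ m.nle hxo v hv
    intro b hb n hn
    exact hc hn ⟨b, hB hb⟩ (Subgroup.mem_top _)
  · obtain ⟨x, hxo, u, hu⟩ := h1
    let K : Subgroup X :=
      { carrier := {x | ∀ u : U, x • u - u ∈ N}
        one_mem' := fun u => by rw [one_smul, sub_self]; exact zero_mem _
        mul_mem' := fun {a b} ha hb u => by
          have e : (a * b) • u - u = (a • (b • u) - b • u) + (b • u - u) := by rw [mul_smul]; abel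
          rw [e]; exact add_mem (ha _) (hb u)
        inv_mem' := fun {a} ha u => by
          have h3 := ha (a⁻¹ • u)
          rw [smul_inv_smul] at h3
          have e : a⁻¹ • u - u = -(u - a⁻¹ • u) := by abel
          rw [e]; exact neg_mem h3 }
    have hK : K.Normal := by
      constructor
      intro a ha g u
      have h3 := hN g _ (ha (g⁻¹ • u))
      have e : (g * a * g⁻¹) • u - u = g • (a • g⁻¹ • u - g⁻¹ • u) := by
        rw [smul_sub, smul_inv_smul, mul_smul, mul_smul]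
      rw [e]; exact h3
    apply hu
    refine odd_mem h hK m.ea.isPGroup ?_ m.nle hxo u
    intro b hb w
    have hw : w ∈ N ⊔ Z := by rw [hc]; trivial
    obtain ⟨n, hn, c, hc', rfl⟩ := AddSubgroup.mem_sup.1 hw
    have h3 : b • c = c := hc' ⟨b, hB hb⟩ (Subgroup.mem_top _)
    have e : b • (n + c) - (n + c) = b • n - n := by rw [smul_add, h3]; abel
    rw [e]
    exact sub_mem (hN b n hn) hn

end Cfsg.Agent.Omega.NO3b.TheoremL.Ne
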