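import Cfsg.Agent.Omega.NO3b.TheoremL.Tight

/-!
# THEOREM L with two lines (#22211 (5), helper16, helper344)

`X` finite acts faithfully on the elementary abelian 2-group `U`, `S` is a Sylow 2-subgroup of `X` and `M` is the unique
maximal subgroup of `X` over `S`; `F ≤ L ≤ V ≤ U`, `F` is centralised by `X`, `V` is normalised by `S`, `L` is normalised
by `M`, `V ∩ V^x ≤ F` for `x ∉ M`, `L ≰ F`.  No elementary abelian subgroup of `S` offends on `V` (`nffV`); no subgroup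
`A ≤ S` with `[V, A] ≤ F` offends on `L` (`nffL`) (`DatW S M V L F`).

* `DatW.exists_mbu` : if `U = ⟨V^X⟩` and some `E ≠ 1` offends on `U`, then `MBU U B` for some `B`.
* `DatW.eq` : `MBU U B` implies `V = L`.
-/

set_option autoImplicit false
set_option linter.unusedSectionVars false
set_option linter.dupNamespace false

namespace Cfsg.Agent.Omega.NO3b.TheoremL.TwoLine

open Cfsg.Agent.Omega.FF.Basic
open Cfsg.Agent.Omega.NO3b.Exit.TT
open Cfsg.Agent.Omega.NO3b.TheoremL.Act (Q)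
open Cfsg.Agent.Omega.NO3b.TheoremL.Core1 (Pre Hyp QQ)
open Cfsg.Agent.Omega.NO3b.TheoremL.Core3 (Out core VZ)
open Cfsg.Agent.Omega.NO3b.TheoremL.Tight (MBU fx_sub card_sub mm_sub map_sub)
open Cfsg.Agent.Omega.MinFF (TI)
open Cfsg (pCore)
open scoped Pointwise

section idx

variable {Y : Type*} [Group Y] {U : Type*} [AddCommGroup U] [DistribMulAction Y U]

/-- two groups inducing the same group on `L` -/
theorem idx {B B' : Subgroup Y} {L : AddSubgroup U} (hB : B ≤ nf Y L) (hB' : B' ≤ nf Y L)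
    (h1 : ∀ b ∈ B, ∃ d ∈ B', ∀ l ∈ L, b • l = d • l) (h2 : ∀ d ∈ B', ∃ b ∈ B, ∀ l ∈ L, d • l = b • l) :
    Nat.card B * Nat.card ↥(B' ⊓ cf Y L) = Nat.card B' * Nat.card ↥(B ⊓ cf Y L) := by
  set N := nf Y L with hN
  set C := (cf Y L).subgroupOf N with hC
  have hCn : C.Normal := by
    constructor
    rintro ⟨c, hc⟩ hcC ⟨n, hn⟩
    rw [hC, Subgroup.mem_subgroupOf] at hcC ⊢
    intro l hl
    show (n * c * n⁻¹) • l = l
    have h3 : n⁻¹ • l ∈ L := nf_smul (N.inv_mem hn) hl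
    rw [mul_smul, mul_smul, hcC _ h3, smul_inv_smul]
  have key : ∀ {P P' : Subgroup Y}, P ≤ N → P' ≤ N → (∀ b ∈ P, ∃ d ∈ P', ∀ l ∈ L, b • l = d • l) →
      P.subgroupOf N ≤ P'.subgroupOf N ⊔ C := by
    intro P P' hP hP' h x hx
    obtain ⟨d, hd, hdl⟩ := h x (Subgroup.mem_subgroupOf.1 hx)
    have hdN : d ∈ N := hP' hd
    have e : x = ⟨d, hdN⟩ * (⟨d, hdN⟩⁻¹ * x) := by group
    rw [e]
    refine mul_mem (Subgroup.mem_sup_left (Subgroup.mem_subgroupOf.2 hd)) (Subgroup.mem_sup_right ?_)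
    rw [hC, Subgroup.mem_subgroupOf]
    intro l hl
    show (d⁻¹ * (x : Y)) • l = l
    rw [mul_smul, hdl l hl, inv_smul_smul]
  have h3 : B.subgroupOf N ⊔ C = B'.subgroupOf N ⊔ C :=
    le_antisymm (sup_le (key hB hB' h1) le_sup_right) (sup_le (key hB' hB h2) le_sup_right)
  have h4 : C.relIndex (B.subgroupOf N) = C.relIndex (B'.subgroupOf N) := by
    rw [← Subgroup.relIndex_sup_right, h3, Subgroup.relIndex_sup_right]
  rw [hC, Subgroup.relIndex_subgroupOf hB, Subgroup.relIndex_subgroupOf hB'] at h4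
  have h5 : ∀ P : Subgroup Y, Nat.card ↥(P ⊓ cf Y L) * (cf Y L).relIndex P = Nat.card P := by
    intro P
    have h6 := Subgroup.relIndex_mul_relIndex (⊥ : Subgroup Y) (P ⊓ cf Y L) P bot_le inf_le_left
    rw [Subgroup.relIndex_bot_left, Subgroup.relIndex_bot_left, Subgroup.inf_relIndex_left] at h6
    exact h6
  rw [← h5 B, ← h5 B', h4]
  ring

end idx

/-- The hypotheses. -/
structure DatW {X : Type*} [Group X] {U : Type*} [AddCommGroup U] [DistribMulAction X U] (S : Sylow 2 X)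
    (M : Subgroup X) (V L F : AddSubgroup U) : Prop where
  two : ∀ u : U, u + u = 0
  faith : ∀ x : X, (∀ u : U, x • u = u) → x = 1
  SM : (S : Subgroup X) ≤ M
  ne : M ≠ ⊤
  uniq : ∀ K : Subgroup X, (S : Subgroup X) ≤ K → K ≠ ⊤ → K ≤ M
  SV : (S : Subgroup X) ≤ nf X V
  ML : M ≤ nf X L
  LV : L ≤ V
  FL : F ≤ L
  Fx : ∀ (x : X), ∀ f ∈ F, x • f = f
  ti : ∀ x : X, x ∉ M → V ⊓ x • V ≤ F
  nz : ¬ L ≤ F
  nffV : ∀ A : Subgroup X, A ≤ S → EA A → ¬ A ≤ cf X V →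
    Nat.card A * Nat.card ↥(V ⊓ fx U A) < Nat.card V * Nat.card ↥(A ⊓ cf X V)
  nffL : ∀ A : Subgroup X, A ≤ S → (∀ a ∈ A, ∀ v ∈ V, a • v - v ∈ F) → ¬ A ≤ cf X L →
    Nat.card A * Nat.card ↥(L ⊓ fx U A) < Nat.card L * Nat.card ↥(A ⊓ cf X L)

variable {X : Type*} [Group X] {U : Type*} [AddCommGroup U] [DistribMulAction X U] {S : Sylow 2 X}
  {M : Subgroup X} {V L F : AddSubgroup U} {B : Subgroup X}

/-- conjugating a not-FF inequality -/
theorem conj_lt (x : X) {A : Subgroup X} {W : AddSubgroup U}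
    (h1 : Nat.card (cj x⁻¹ A) * Nat.card ↥(W ⊓ fx U (cj x⁻¹ A)) < Nat.card W * Nat.card ↥(cj x⁻¹ A ⊓ cf X W)) :
    Nat.card A * Nat.card ↥(x • W ⊓ fx U A) < Nat.card W * Nat.card ↥(A ⊓ cf X (x • W)) := by
  rw [card_cj] at h1
  have e1 : Nat.card ↥(W ⊓ fx U (cj x⁻¹ A)) = Nat.card ↥(x • W ⊓ fx U A) := by
    refine (card_smul x fun v => ?_).symm
    constructor
    · rintro ⟨h2, h3⟩
      exact ⟨mem_smul.1 h2, smul_mem_fx_cj h3⟩
    · rintro ⟨h2, h3⟩
      have h3' := mem_fx_cj.1 h3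
      rw [inv_inv, smul_inv_smul] at h3'
      exact ⟨mem_smul.2 h2, h3'⟩
  have e2 : Nat.card ↥(cj x⁻¹ A ⊓ cf X W) = Nat.card ↥(A ⊓ cf X (x • W)) := by
    have e3 : cj x⁻¹ A ⊓ cf X W = cj x⁻¹ (A ⊓ cf X (x • W)) := by
      ext a
      rw [mem_cj, inv_inv, Subgroup.mem_inf, Subgroup.mem_inf, mem_cj, inv_inv, cf_conj]
      have e : x⁻¹ * (x * a * x⁻¹) * x = a := by group
      rw [e]
    rw [e3, card_cj]
  rw [e1, e2] at h1
  exact h1

namespace DatW

variable (h : DatW S M V L F)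
include h

theorem F_smul (x : X) : x • F = F := by
  ext w
  rw [mem_smul]
  constructor
  · intro hw
    have := h.Fx x _ hw
    rw [smul_inv_smul] at this
    rw [this]; exact hw
  · intro hw
    rw [h.Fx x⁻¹ w hw]; exact hw

theorem F_le (x : X) : F ≤ x • L := by
  rw [← h.F_smul x]
  exact AddSubgroup.pointwise_smul_le_pointwise_smul_iff.2 h.FL

theorem L_le (x : X) : x • L ≤ x • V := AddSubgroup.pointwise_smul_le_pointwise_smul_iff.2 h.LV

theorem L_eq {m : X} (hm : m ∈ M) : m • L = L := h.ML hm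

/-- (TI) for two lines -/
theorem ti' {x y : X} (hne : x⁻¹ * y ∉ M) : x • V ⊓ y • V ≤ F := by
  intro w hw
  have h2 : x⁻¹ • w ∈ F := by
    apply h.ti _ hne
    refine ⟨mem_smul.1 hw.1, ?_⟩
    have h3 : y⁻¹ • w ∈ V := mem_smul.1 hw.2
    have e : ((x⁻¹ * y)⁻¹ • x⁻¹ • w : U) = y⁻¹ • w := by
      rw [smul_smul]; congr 1; group
    exact mem_smul.2 (by rw [e]; exact h3)
  have h3 := h.Fx x _ h2
  rw [smul_inv_smul] at h3
  rw [h3]; exact h2

variable [Finite X] [Finite U]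

/-- a best offender in `S^x` centralises `V^x`. -/
theorem bo_cent {A : Subgroup X} (hA : BO U A) {x : X} (hx : cj x⁻¹ A ≤ (S : Subgroup X)) : A ≤ cf X (x • V) := by
  by_contra hne
  have h1 := conj_lt x (h.nffV (cj x⁻¹ A) hx (fun a ha => by
    rw [mem_cj, inv_inv] at ha
    have h2 := hA.ea _ ha
    have e : x * a * x⁻¹ * (x * a * x⁻¹) = x * (a * a) * x⁻¹ := by group
    rw [e] at h2
    have h3 : x⁻¹ * (x * (a * a) * x⁻¹) * x = x⁻¹ * 1 * x := by rw [h2]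
    have e2 : x⁻¹ * (x * (a * a) * x⁻¹) * x = a * a := by group
    rw [e2, mul_one, inv_mul_cancel] at h3
    exact h3) (fun h0 => hne (fun a ha => by
      rw [cf_conj]
      have h2 := h0 (mem_cj_of (g := x⁻¹) ha)
      rwa [inv_inv] at h2)))
  set E := A ⊓ cf X (x • V) with hE
  have h2 := hA.le E inf_le_left
  have h3 : x • V ⊔ fx U A ≤ fx U E := by
    refine sup_le ?_ (fx_anti inf_le_left)
    exact le_cf.1 inf_le_right
  have h4 := card_sup_inf (x • V) (fx U A)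
  have h5 := card_le h3
  rw [card_smul'] at h4
  rw [mm, mm] at h2
  have h6 : Nat.card V * Nat.card E ≤ Nat.card A * Nat.card ↥(x • V ⊓ fx U A) := by
    have p : 0 < Nat.card (fx U A) := Nat.card_pos
    refine Nat.le_of_mul_le_mul_right ?_ p
    calc Nat.card V * Nat.card E * Nat.card (fx U A) = Nat.card E * (Nat.card V * Nat.card (fx U A)) := by ring
      _ = Nat.card E * (Nat.card ↥(x • V ⊔ fx U A) * Nat.card ↥(x • V ⊓ fx U A)) := by rw [h4]
      _ ≤ Nat.card E * (Nat.card (fx U E) * Nat.card ↥(x • V ⊓ fx U A)) :=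
        Nat.mul_le_mul_left _ (Nat.mul_le_mul_right _ h5)
      _ = Nat.card E * Nat.card (fx U E) * Nat.card ↥(x • V ⊓ fx U A) := by ring
      _ ≤ Nat.card A * Nat.card (fx U A) * Nat.card ↥(x • V ⊓ fx U A) := Nat.mul_le_mul_right _ h2
      _ = _ := by ring
  exact absurd h1 (not_lt.2 h6)

theorem core_S (x : X) {A : Subgroup X} (hA : A ≤ pCore 2 X) : cj x⁻¹ A ≤ (S : Subgroup X) := by
  intro a ha
  rw [mem_cj, inv_inv] at ha
  have hn : (pCore 2 X).Normal := Lib.Cores.pCore_normal 2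
  have h1 := hn.conj_mem _ (hA ha) x⁻¹
  have e : x⁻¹ * (x * a * x⁻¹) * x⁻¹⁻¹ = a := by group
  rw [e] at h1
  exact Lib.Cores.pCore_le_sylow S h1

/-- **`MBU U B` exists** if some `E ≠ 1` offends on `U = ⟨V^X⟩`. -/
theorem exists_mbu (gen : ∀ K : AddSubgroup U, (∀ x : X, x • V ≤ K) → K = ⊤) {E : Subgroup X} (hE : EA E)
    (hE0 : E ≠ ⊥) (hoff : Nat.card U ≤ mm U E) : ∃ B : Subgroup X, MBU U B := by
  classical
  let T : Set (Subgroup X) := {B | EA B ∧ B ≠ ⊥}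
  obtain ⟨B₁, ⟨h1, h2⟩, hmax⟩ := Set.exists_max_image T (fun B => mm U B) (Set.toFinite T) ⟨E, hE, hE0⟩
  let T' : Set (Subgroup X) := {B | EA B ∧ B ≠ ⊥ ∧ mm U B = mm U B₁}
  obtain ⟨B, ⟨h3, h4, h5⟩, hmin⟩ := Set.exists_min_image T' (fun B => Nat.card B) (Set.toFinite T') ⟨B₁, h1, h2, rfl⟩
  have hoffB : Nat.card U ≤ mm U B := by
    rw [h5]; exact hoff.trans (hmax E ⟨hE, hE0⟩)
  have hlt : ∀ E' : Subgroup X, E' < B → E' ≠ ⊥ → mm U E' < mm U B := by
    intro E' hE' hE'0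
    have h6 := hmax E' ⟨h3.mono hE'.le, hE'0⟩
    refine lt_of_le_of_ne (by rw [h5]; exact h6) fun h7 => ?_
    have h8 := hmin E' ⟨h3.mono hE'.le, hE'0, by rw [h7, h5]⟩
    exact absurd (Subgroup.eq_of_le_of_card_ge hE'.le h8) hE'.ne
  have hbo : BO U B :=
    { ea := h3
      le := fun E' hE' => by
        by_cases h0 : E' = ⊥
        · rw [h0, mm_bot]; exact hoffB
        · rcases hE'.eq_or_lt with h6 | h6
          · rw [h6]
          · exact (hlt E' h6 h0).le }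
  refine ⟨B, h3, fun hcore => h4 ?_, hoffB, hlt⟩
  have h6 : fx U B = ⊤ := gen _ fun x => le_cf.1 (h.bo_cent hbo (h.core_S x hcore))
  rw [Subgroup.eq_bot_iff_forall]
  intro b hb
  refine h.faith b fun u => ?_
  have : u ∈ fx U B := by rw [h6]; trivial
  exact this b hb

/-- an elementary abelian 2-subgroup `P` of `M^y` is contained in `S^{y'}` with `M^{y'} = M^y`, `L^{y'} = L^y`. -/
theorem exists_line (y : X) {P : Subgroup X} (hP : IsPGroup 2 P) (hPM : P ≤ MulAut.conj y • M) :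
    ∃ y' : X, MulAut.conj y' • M = MulAut.conj y • M ∧ P ≤ MulAut.conj y' • (S : Subgroup X) := by
  set N := MulAut.conj y • M with hN
  have hSN : ((y • S : Sylow 2 X) : Subgroup X) ≤ N := by
    rw [Sylow.coe_subgroup_smul, hN]
    exact Subgroup.pointwise_smul_le_pointwise_smul_iff.2 h.SM
  have hP' : IsPGroup 2 (P.subgroupOf N) := hP.comap_of_injective N.subtype N.subtype_injective
  obtain ⟨g, hg⟩ := MinFF.exists_cj_le hP' ((y • S).subtype hSN)
  refine ⟨(g : X)⁻¹ * y, ?_, ?_⟩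
  · rw [map_mul, mul_smul, ← hN]
    exact Subgroup.conj_smul_eq_self_of_mem (N.inv_mem g.2)
  · intro p hp
    have hpN := hPM hp
    have h1 : g * ⟨p, hpN⟩ * g⁻¹ ∈ MulAut.conj g • P.subgroupOf N := by
      rw [MinFF.mem_cj]
      have e : g⁻¹ * (g * ⟨p, hpN⟩ * g⁻¹) * g = ⟨p, hpN⟩ := by group
      rw [e]; exact Subgroup.mem_subgroupOf.2 hp
    have h2 := hg h1
    have h3 : (g : X) * p * (g : X)⁻¹ ∈ ((y • S : Sylow 2 X) : Subgroup X) := h2
    rw [Sylow.coe_subgroup_smul] at h3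
    have h4 := MinFF.mem_cj.1 h3
    rw [MinFF.mem_cj]
    have e : ((g : X)⁻¹ * y)⁻¹ * p * ((g : X)⁻¹ * y) = y⁻¹ * ((g : X) * p * (g : X)⁻¹) * y := by group
    rw [e]; exact h4

/-- THEOREM L for `X₁ = ⟨B, B^x⟩` and the lines `L^{x'}` -/
theorem exists_out (m : MBU U B) :
    ∃ (Y₀ : Subgroup X) (y : X), y • V ≤ fx U (B.subgroupOf Y₀) ∧ y • V ⊓ fx U (⊤ : Subgroup Y₀) ≤ F ∧
      Hyp (B.subgroupOf Y₀) ((MulAut.conj y • M).subgroupOf Y₀) (y • L) := by
  obtain ⟨x, y₀, hti⟩ := Lift.exists_ti S M h.SM h.ne h.uniq m.ea.isPGroup m.nle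
  set Y₀ := B ⊔ MulAut.conj x • B with hY₀
  have hB : B ≤ Y₀ := le_sup_left
  have hBm := map_sub hB
  set A := B.subgroupOf Y₀ with hA
  have faith : ∀ z : Y₀, (∀ u : U, z • u = u) → z = 1 := fun z hz => Subtype.ext (h.faith z fun u => hz u)
  have ea : EA A := fun a ha => Subtype.ext (m.ea _ (Subgroup.mem_subgroupOf.1 ha))
  have off : Nat.card U ≤ mm U A := by rw [← mm_sub, hBm]; exact m.off
  have min : ∀ E < A, E ≠ ⊥ → mm U E < mm U A := by
    intro E hE hE0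
    rw [← mm_sub E, ← mm_sub A, hBm]
    refine m.min _ ?_ ?_
    · rw [← hBm]
      exact lt_of_le_of_ne (Subgroup.map_mono hE.le) fun h0 =>
        hE.ne (Subgroup.map_injective Y₀.subtype_injective h0)
    · intro h0
      exact hE0 ((Subgroup.map_eq_bot_iff_of_injective _ Y₀.subtype_injective).1 h0)
  have hAne : A ≠ ⊥ := by
    intro h0
    apply m.ne_bot
    rw [← hBm, h0, Subgroup.map_bot]
  have q₀ : Q U A ((MulAut.conj y₀ • M).subgroupOf Y₀) := ⟨h.two, faith, hti, quad' h.two ea hAne off min⟩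
  have hO2 := Lib.Cores.pCore_isPGroup (G := Y₀) 2
  have hOn : (pCore 2 Y₀).Normal := Lib.Cores.pCore_normal 2
  have hP2 : IsPGroup 2 ((A ⊔ pCore 2 Y₀ : Subgroup Y₀).map Y₀.subtype) :=
    (IsPGroup.to_sup_of_normal_right ea.isPGroup hO2).map _
  have hPM : (A ⊔ pCore 2 Y₀ : Subgroup Y₀).map Y₀.subtype ≤ MulAut.conj y₀ • M := by
    have h1 : A ⊔ pCore 2 Y₀ ≤ (MulAut.conj y₀ • M).subgroupOf Y₀ := sup_le hti.le q₀.core_le
    rintro _ ⟨a, ha, rfl⟩
    exact Subgroup.mem_subgroupOf.1 (h1 ha)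
  obtain ⟨y, hyM, hyP⟩ := h.exists_line y₀ hP2 hPM
  rw [← hyM] at hti q₀
  have hcjS : ∀ P : Subgroup X, P ≤ MulAut.conj y • (S : Subgroup X) → cj y⁻¹ P ≤ (S : Subgroup X) := by
    intro P hP p hp
    rw [mem_cj, inv_inv] at hp
    have h1 := MinFF.mem_cj.1 (hP hp)
    have e : y⁻¹ * (y * p * y⁻¹) * y = p := by group
    rwa [e] at h1
  have hBS : B ≤ MulAut.conj y • (S : Subgroup X) := by
    refine le_trans ?_ hyP
    rw [← hBm]
    exact Subgroup.map_mono le_sup_left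
  have hcent : B ≤ cf X (y • V) := h.bo_cent m.bo (hcjS B hBS)
  -- `M^y` normalises `L^y`
  have hML : ∀ z : Y₀, z ∈ (MulAut.conj y • M).subgroupOf Y₀ → (z : X) ∈ nf X (y • L) := by
    intro z hz
    rw [nf_conj]
    exact h.ML (MinFF.mem_cj.1 (Subgroup.mem_subgroupOf.1 hz))
  -- `O` normalises `V^y`
  have hOV : ∀ t ∈ pCore 2 Y₀, (t : X) ∈ nf X (y • V) := by
    intro t ht
    rw [nf_conj]
    exact h.SV (MinFF.mem_cj.1 (hyP ⟨t, Subgroup.mem_sup_right ht, rfl⟩))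
  have hVA : y • V ≤ fx U A := by
    intro v hv a ha
    exact hcent (Subgroup.mem_subgroupOf.1 ha) v hv
  have hpre : Pre A ((MulAut.conj y • M).subgroupOf Y₀) (y • L) :=
    ⟨h.two, faith, hti, ea, off, min, fun z hz => hML z hz, (h.L_le y).trans hVA⟩
  -- `V^y ∩ V^{zy} ≤ F`
  have hTI : ∀ z : Y₀, z ∉ (MulAut.conj y • M).subgroupOf Y₀ → y • V ⊓ ((z : X) * y) • V ≤ F := by
    intro z hz
    apply h.ti'
    intro h0
    apply hz
    rw [Subgroup.mem_subgroupOf, MinFF.mem_cj]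
    have e : y⁻¹ * (z : X) * y = y⁻¹ * ((z : X) * y) := by group
    rw [e]; exact h0
  obtain ⟨k, hk⟩ := hti.exists_not_mem
  -- `V^y ∩ Z ≤ F`
  have hVZ : y • V ⊓ fx U (⊤ : Subgroup Y₀) ≤ F := by
    rintro v ⟨hv, hvZ⟩
    refine hTI k hk ⟨hv, ?_⟩
    have h2 : (k : X) • v = v := hvZ k (Subgroup.mem_top k)
    rw [← h2, mul_smul]
    exact smul_mem' hv
  refine ⟨Y₀, y, hVA, hVZ, hpre, ?_, ?_⟩
  · intro B' hB' hne
    -- the group of all `t` which act on `L^y` as an element `δ ∈ O` with `[V^y, δ] ≤ F`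
    have hδL : ∀ δ : X, (∀ v ∈ y • V, δ • v - v ∈ F) → ∀ v ∈ y • L, δ • v ∈ y • L := by
      intro δ hδ v hv
      have h1 := h.F_le y (hδ v (h.L_le y hv))
      have e : δ • v = (δ • v - v) + v := by abel
      rw [e]; exact add_mem h1 hv
    have hdm : ∀ δ ε : X, (∀ v ∈ y • V, δ • v - v ∈ F) → (∀ v ∈ y • V, ε • v - v ∈ F) →
        ∀ v ∈ y • V, (δ * ε) • v - v ∈ F := by
      intro δ ε hδ hε v hv
      have e : (δ * ε) • v - v = (δ • (ε • v - v)) + (δ • v - v) := by rw [mul_smul, smul_sub]; abel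
      rw [e, h.Fx δ _ (hε v hv)]
      exact add_mem (hε v hv) (hδ v hv)
    have hdi : ∀ δ : X, (∀ v ∈ y • V, δ • v - v ∈ F) → ∀ v ∈ y • V, δ⁻¹ • v - v ∈ F := by
      intro δ hδ v hv
      have h1 := hδ v hv
      have h2 := h.Fx δ⁻¹ _ h1
      rw [smul_sub, inv_smul_smul] at h2
      have e : δ⁻¹ • v - v = -(v - δ⁻¹ • v) := by abel
      rw [e, h2]; exact neg_mem h1
    let K₁ : Subgroup Y₀ :=
      { carrier := {t | ∃ δ ∈ pCore 2 Y₀, (∀ v ∈ y • V, (δ : X) • v - v ∈ F) ∧ ∀ v ∈ y • L, (t : X) • v = (δ : X) • v}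
        one_mem' := ⟨1, one_mem _, fun v _ => by
          rw [OneMemClass.coe_one, one_smul, sub_self]; exact zero_mem _, fun v _ => rfl⟩
        mul_mem' := by
          rintro s t ⟨δ, hδ, h1, h2⟩ ⟨ε, hε, h3, h4⟩
          refine ⟨δ * ε, mul_mem hδ hε, hdm _ _ h1 h3, fun v hv => ?_⟩
          rw [Subgroup.coe_mul, Subgroup.coe_mul, mul_smul, mul_smul, h4 v hv, h2 _ (hδL _ h3 v hv)]
        inv_mem' := by
          rintro s ⟨δ, hδ, h1, h2⟩
          refine ⟨δ⁻¹, inv_mem hδ, hdi _ h1, fun v hv => ?_⟩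
          rw [Subgroup.coe_inv, Subgroup.coe_inv, inv_smul_eq_iff, h2 _ (hδL _ (hdi _ h1) v hv), smul_inv_smul] }
    have hK : QQ A ≤ K₁ := by
      rw [QQ, Subgroup.normalClosure, Subgroup.closure_le]
      rintro c hc
      obtain ⟨t, ht, hc⟩ := Group.mem_conjugatesOfSet_iff.1 hc
      obtain ⟨z, rfl⟩ := isConj_iff.1 hc
      by_cases hz : z ∈ (MulAut.conj y • M).subgroupOf Y₀
      · refine ⟨1, one_mem _, fun v _ => by rw [OneMemClass.coe_one, one_smul, sub_self]; exact zero_mem _,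
          fun v hv => ?_⟩
        have h1 : (z : X)⁻¹ • v ∈ y • L := nf_smul (inv_mem (hML z hz)) hv
        have h2 : (t : X) • (z : X)⁻¹ • v = (z : X)⁻¹ • v := hVA (h.L_le y h1) t ht.1
        rw [Subgroup.coe_mul, Subgroup.coe_mul, Subgroup.coe_inv, mul_smul, mul_smul, h2, smul_inv_smul,
          OneMemClass.coe_one, one_smul]
      · have htO : z * t * z⁻¹ ∈ pCore 2 Y₀ := hOn.conj_mem t ht.2 z
        refine ⟨z * t * z⁻¹, htO, fun v hv => ?_, fun v _ => rfl⟩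
        apply hVZ
        have h1 : ((z * t * z⁻¹ : Y₀) : X) • v ∈ y • V := nf_smul (hOV _ htO) hv
        have h2 : ((z * t * z⁻¹ : Y₀) : X) • v - v ∈ y • V := sub_mem h1 hv
        refine ⟨h2, ?_⟩
        refine q₀.inf_le (g := z) hz (hVA h2) ?_
        · intro a ha
          have e : z⁻¹ • (((z * t * z⁻¹ : Y₀) : X) • v - v) = t • (z⁻¹ • v) - z⁻¹ • v := by
            show z⁻¹ • ((z * t * z⁻¹ : Y₀) • v - v) = _
            rw [smul_sub, smul_smul]
            congr 1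
            rw [smul_smul]; congr 1; group
          rw [e]
          exact q₀.quad t ht.1 a ha _
    -- the subgroup `B₂ ≤ O` which induces the group `B'` on `L^y`
    let B₂ : Subgroup X :=
      { carrier := {δ | δ ∈ (pCore 2 Y₀).map Y₀.subtype ∧ (∀ v ∈ y • V, δ • v - v ∈ F) ∧
          ∃ b ∈ B', ∀ v ∈ y • L, δ • v = (b : X) • v}
        one_mem' := ⟨one_mem _, fun v _ => by rw [one_smul, sub_self]; exact zero_mem _, 1, one_mem _, fun v _ => rfl⟩
        mul_mem' := by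
          rintro s t ⟨h1, h2, b, hb, h3⟩ ⟨h4, h5, c, hc, h6⟩
          refine ⟨mul_mem h1 h4, hdm _ _ h2 h5, b * c, mul_mem hb hc, fun v hv => ?_⟩
          have h7 := hδL _ h5 v hv
          rw [mul_smul, h3 _ h7, h6 v hv, Subgroup.coe_mul, mul_smul]
        inv_mem' := by
          rintro s ⟨h1, h2, b, hb, h3⟩
          refine ⟨inv_mem h1, hdi _ h2, b⁻¹, inv_mem hb, fun v hv => ?_⟩
          have h7 := hδL _ (hdi _ h2) v hv
          have h8 := h3 _ h7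
          rw [smul_inv_smul] at h8
          rw [Subgroup.coe_inv, eq_inv_smul_iff, ← h8] }
    have hB₂S : B₂ ≤ MulAut.conj y • (S : Subgroup X) := fun δ hδ =>
      hyP (Subgroup.map_mono le_sup_right hδ.1)
    have memB₂ : ∀ b ∈ B', ∃ δ ∈ B₂, ∀ l ∈ y • L, (b : X) • l = δ • l := by
      intro b hb
      obtain ⟨δ, hδ, h1, h2⟩ := hK (hB' hb)
      exact ⟨δ, ⟨⟨δ, hδ, rfl⟩, h1, b, hb, fun v hv => (h2 v hv).symm⟩, h2⟩
    have hB₂n : B₂ ≤ nf X (y • L) := by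
      intro δ hδ
      rw [nf_conj]
      exact (h.SM.trans h.ML) (MinFF.mem_cj.1 (hB₂S hδ))
    have hB'n : B'.map Y₀.subtype ≤ nf X (y • L) := by
      rintro _ ⟨b, hb, rfl⟩
      exact hML b (q₀.core_le (Core1.Pre.QQ_le (hB' hb)))
    have hi := idx hB'n hB₂n (by
      rintro _ ⟨b, hb, rfl⟩
      exact memB₂ b hb) (by
      rintro δ ⟨-, -, b, hb, h3⟩
      exact ⟨b, ⟨b, hb, rfl⟩, h3⟩)
    have hfx : y • L ⊓ fx U B₂ = y • L ⊓ fx U B' := by
      ext v
      constructor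
      · rintro ⟨hv, h1⟩
        refine ⟨hv, fun b hb => ?_⟩
        obtain ⟨δ, hδ, h2⟩ := memB₂ b hb
        show (b : X) • v = v
        rw [h2 v hv]; exact h1 δ hδ
      · rintro ⟨hv, h1⟩
        refine ⟨hv, fun δ hδ => ?_⟩
        obtain ⟨-, -, b, hb, h3⟩ := hδ
        rw [h3 v hv]; exact h1 b hb
    have hcf : Nat.card ↥(B'.map Y₀.subtype ⊓ cf X (y • L)) = Nat.card ↥(B' ⊓ cf Y₀ (y • L)) := by
      rw [← card_sub (Y₀ := Y₀)]
      congr 2
      ext z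
      constructor
      · rintro ⟨⟨a, ha, rfl⟩, hz⟩
        exact ⟨a, ⟨ha, hz⟩, rfl⟩
      · rintro ⟨a, ⟨ha, hz⟩, rfl⟩
        exact ⟨⟨a, ha, rfl⟩, hz⟩
    rw [card_sub, hcf] at hi
    have hne₂ : ¬ cj y⁻¹ B₂ ≤ cf X L := by
      intro h0
      apply hne
      intro b hb v hv
      obtain ⟨δ, hδ, h2⟩ := memB₂ b hb
      show (b : X) • v = v
      rw [h2 v hv]
      have h3 := h0 (mem_cj_of (g := y⁻¹) hδ)
      rw [inv_inv, ← cf_conj] at h3
      exact h3 v hv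
    have h1 := conj_lt y (h.nffL (cj y⁻¹ B₂) (hcjS _ hB₂S) (by
      intro a ha v hv
      rw [mem_cj, inv_inv] at ha
      have h2 := ha.2.1 (y • v) (smul_mem' hv)
      have h3 := h.Fx y⁻¹ _ h2
      have e : y⁻¹ • ((y * a * y⁻¹) • y • v - y • v) = a • v - v := by
        rw [smul_sub, inv_smul_smul, smul_smul, smul_smul]
        congr 2; group
      rw [← e, h3]; exact h2) hne₂)
    rw [hfx] at h1
    rw [card_smul']
    have p₁ : 0 < Nat.card ↥(B₂ ⊓ cf X (y • L)) := Nat.card_pos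
    have p₂ : 0 < Nat.card ↥(B' ⊓ cf Y₀ (y • L)) := Nat.card_pos
    refine Nat.lt_of_mul_lt_mul_right (a := Nat.card ↥(B₂ ⊓ cf X (y • L))) ?_
    calc Nat.card B' * Nat.card ↥(y • L ⊓ fx U B') * Nat.card ↥(B₂ ⊓ cf X (y • L))
        = (Nat.card B' * Nat.card ↥(B₂ ⊓ cf X (y • L))) * Nat.card ↥(y • L ⊓ fx U B') := by ring
      _ = Nat.card B₂ * Nat.card ↥(y • L ⊓ fx U B') * Nat.card ↥(B' ⊓ cf Y₀ (y • L)) := by rw [hi]; ring
      _ < Nat.card L * Nat.card ↥(B₂ ⊓ cf X (y • L)) * Nat.card ↥(B' ⊓ cf Y₀ (y • L)) :=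
        Nat.mul_lt_mul_of_pos_right h1 p₂
      _ = _ := by ring
  · intro h0
    apply h.nz
    intro l hl
    have h1 : y • l ∈ y • L := smul_mem' hl
    have h2 := hVZ ⟨h.L_le y h1, h0 h1⟩
    have h3 := h.Fx y⁻¹ _ h2
    rw [inv_smul_smul] at h3
    rw [h3]; exact h2

/-- **`V = L`** -/
theorem eq (m : MBU U B) : V = L := by
  obtain ⟨Y₀, y, hVA, hVZ, hy⟩ := h.exists_out m
  have o := core hy
  refine le_antisymm ?_ h.LV
  rw [← AddSubgroup.pointwise_smul_le_pointwise_smul_iff (a := y)]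
  intro v hv
  have h1 := hVA hv
  rw [o.C_eq] at h1
  obtain ⟨l, hl, z, hz, rfl⟩ := AddSubgroup.mem_sup.1 h1
  have h2 : l + z - l ∈ y • V := sub_mem hv (h.L_le y hl)
  rw [add_sub_cancel_left] at h2
  exact add_mem hl (h.F_le y (hVZ ⟨h2, hz⟩))

end DatW

end Cfsg.Agent.Omega.NO3b.TheoremL.TwoLine
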