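import Cfsg.Agent.Omega.MinFF.Quad
import Cfsg.Agent.Lib.Cores

/-!
# THEOREM L (#18749, helper344), (0): the `L`-lemma, lifted

`S` a Sylow 2-subgroup of the finite group `X`, `N` the unique maximal subgroup of `X` over `S`, `A` a 2-subgroup which
is not contained in `O₂(X)`.  Then there are `x`, `y` such that, in `X₁ = ⟨A, A^x⟩`, `X₁ ∩ N^y` is the unique maximal
subgroup over `A`, with the TI property.
-/

set_option autoImplicit false

open Subgroup
open scoped Pointwise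

namespace Cfsg.Agent.Omega.NO3b.TheoremL.Lift

open Cfsg.Agent.Omega Cfsg.Agent.Omega.MinFF

variable {X : Type*} [Group X]

theorem map_cj {H : Type*} [Group H] (f : X →* H) (g : X) (A : Subgroup X) :
    (MulAut.conj g • A).map f = MulAut.conj (f g) • A.map f := by
  ext h
  rw [mem_cj, mem_map, mem_map]
  constructor
  · rintro ⟨x, hx, rfl⟩
    rw [mem_cj] at hx
    exact ⟨_, hx, by simp⟩
  · rintro ⟨x, hx, he⟩
    refine ⟨g * x * g⁻¹, conj_mem_cj hx, ?_⟩
    rw [map_mul, map_mul, he, map_inv]; group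

theorem exists_pre [Finite X] (S : Sylow 2 X) (N : Subgroup X) (hS : (S : Subgroup X) ≤ N) (hN : N ≠ ⊤)
    (uniq : ∀ K : Subgroup X, (S : Subgroup X) ≤ K → K ≠ ⊤ → K ≤ N) {A : Subgroup X} (hA : IsPGroup 2 A)
    (hQ : ¬ A ≤ Cfsg.pCore 2 X) : ∃ (y : X) (L : Subgroup X), A ≤ L ∧ A ≤ MulAut.conj y • N ∧
      ¬ L ≤ MulAut.conj y • N ∧ ∀ l ∈ L, A ≤ MulAut.conj l • (L ⊓ MulAut.conj y • N) → l ∈ MulAut.conj y • N := by
  have hf : Fact (Nat.Prime 2) := ⟨Nat.prime_two⟩
  have hn : (Cfsg.pCore 2 X).Normal := Lib.Cores.pCore_normal 2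
  set Q := Cfsg.pCore 2 X with hQd
  set f := QuotientGroup.mk' Q with hfd
  have hfs : Function.Surjective f := QuotientGroup.mk'_surjective Q
  have hker : f.ker = Q := QuotientGroup.ker_mk' Q
  have hQS : Q ≤ (S : Subgroup X) := Lib.Cores.pCore_le_sylow S
  have hQN : ∀ y : X, Q ≤ MulAut.conj y • N := by
    intro y q hq
    rw [mem_cj]
    apply hS
    apply hQS
    have := hn.conj_mem q hq y⁻¹
    rwa [inv_inv] at this
  have hex : ∀ P : Sylow 2 (X ⧸ Q), ∃ z : X, (MulAut.conj z • (S : Subgroup X)).map f = P := by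
    intro P
    let P0 : Sylow 2 (X ⧸ Q) := S.mapSurjective hfs
    obtain ⟨g, hg⟩ := MulAction.exists_smul_eq (X ⧸ Q) P0 P
    obtain ⟨z, rfl⟩ := hfs g
    refine ⟨z, ?_⟩
    rw [map_cj, ← hg, coe_smul_sylow]
    rfl
  choose z hz using hex
  let M : Sylow 2 (X ⧸ Q) → Subgroup (X ⧸ Q) := fun P => (MulAut.conj (z P) • N).map f
  have hcomap : ∀ y : X, ((MulAut.conj y • N).map f).comap f = MulAut.conj y • N := by
    intro y
    rw [comap_map_eq, hker]
    exact sup_eq_left.2 (hQN y)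
  have hM : UM M := by
    refine ⟨fun P => ?_, fun P => ?_, fun P K hK hne => ?_⟩
    · conv_lhs => rw [← hz P]
      exact map_mono (cj_mono hS)
    · intro h
      have h1 := hcomap (z P)
      have h2 : (MulAut.conj (z P) • N).map f = ⊤ := h
      rw [h2, comap_top] at h1
      apply hN
      apply cj_inj (g := z P)
      rw [← h1, cj_top]
    · have h1 : MulAut.conj (z P) • (S : Subgroup X) ≤ K.comap f := by
        rw [← map_le_iff_le_comap, hz P]; exact hK
      have h2 : MulAut.conj (z P)⁻¹ • K.comap f ≠ ⊤ := by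
        intro h3
        apply hne
        have h4 : K.comap f = ⊤ := by
          apply cj_inj (g := (z P)⁻¹)
          rw [h3, cj_top]
        rw [← map_comap_eq_self_of_surjective hfs K, h4]
        exact map_top_of_surjective f hfs
      have h3 := uniq _ (by
        have := cj_mono (g := (z P)⁻¹) h1
        rwa [cj_cj, inv_mul_cancel, cj_one] at this) h2
      have h4 := cj_mono (g := z P) h3
      rw [cj_cj, mul_inv_cancel, cj_one] at h4
      rw [← map_comap_eq_self_of_surjective hfs K]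
      exact map_mono h4
  have hO : Cfsg.pCore 2 (X ⧸ Q) = ⊥ := Lib.Cores.pCore_quotient_pCore 2
  have hA' : IsPGroup 2 (A.map f) := hA.map f
  have hA1 : A.map f ≠ ⊥ := by
    intro h
    rw [Subgroup.map_eq_bot_iff, hker] at h
    exact hQ h
  obtain ⟨J, hJ⟩ := exists_J hM hO hA' hA1
  obtain ⟨a, b, P, P', ha, hb, hP, hP', hne⟩ := hJ.exists_members hM hO hA' hA1
  obtain ⟨a, b, P, P', ha, hb, hP, hP', hne, -, hL⟩ := hJ.exists_L hM hO hA' hA1 (K := ⊤) ha hb hP hP' hne le_top le_top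
  set L := MulAut.conj a • A.map f ⊔ MulAut.conj b • A.map f with hLd
  obtain ⟨g, rfl⟩ := hfs a
  have hmap : (MulAut.conj (g⁻¹ * z P) • N).map f = MulAut.conj (f g)⁻¹ • M P := by
    rw [← cj_cj, map_cj, map_inv]
  refine ⟨g⁻¹ * z P, (MulAut.conj (f g)⁻¹ • L).comap f, ?_, ?_, ?_, ?_⟩
  · intro x hx
    rw [mem_comap, mem_cj, inv_inv]
    exact (le_sup_left : _ ≤ L) (conj_mem_cj (mem_map_of_mem f hx))
  · have h1 : A.map f ≤ (MulAut.conj (g⁻¹ * z P) • N).map f := by
      rw [hmap, ← cj_le_iff]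
      exact hL.A_le.trans inf_le_right
    rw [map_le_iff_le_comap, hcomap] at h1
    exact h1
  · intro h
    have h1 := map_mono (f := f) h
    rw [map_comap_eq_self_of_surjective hfs, hmap] at h1
    have h2 := cj_mono (g := f g) h1
    rw [cj_cj, mul_inv_cancel, cj_one, cj_cj, mul_inv_cancel, cj_one] at h2
    exact hL.ne (inf_eq_left.2 h2)
  · intro l hl hle
    rw [mem_comap, mem_cj, inv_inv] at hl
    have h1 : f g * f l * (f g)⁻¹ ∈ L ⊓ M P := by
      apply hL.ti _ hl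
      intro y hy
      rw [mem_cj] at hy
      obtain ⟨x, hx, hxy⟩ := hy
      have h2 := hle hx
      rw [mem_cj] at h2
      obtain ⟨h3, h4⟩ := mem_inf.1 h2
      rw [mem_comap, mem_cj, inv_inv] at h3
      have h5 : f (l⁻¹ * x * l) ∈ (MulAut.conj (g⁻¹ * z P) • N).map f := mem_map_of_mem f h4
      rw [hmap, mem_cj, inv_inv] at h5
      rw [mem_cj]
      have e : (f g * f l * (f g)⁻¹)⁻¹ * y * (f g * f l * (f g)⁻¹) = f g * f (l⁻¹ * x * l) * (f g)⁻¹ := by
        rw [map_mul, map_mul, map_inv, hxy]; group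
      rw [e]
      exact ⟨h3, h5⟩
    rw [← hcomap, mem_comap, hmap, mem_cj, inv_inv]
    exact h1.2

theorem exists_ti [Finite X] (S : Sylow 2 X) (N : Subgroup X) (hS : (S : Subgroup X) ≤ N) (hN : N ≠ ⊤)
    (uniq : ∀ K : Subgroup X, (S : Subgroup X) ≤ K → K ≠ ⊤ → K ≤ N) {A : Subgroup X} (hA : IsPGroup 2 A)
    (hQ : ¬ A ≤ Cfsg.pCore 2 X) : ∃ x y : X, MinFF.TI (A.subgroupOf (A ⊔ MulAut.conj x • A))
      ((MulAut.conj y • N).subgroupOf (A ⊔ MulAut.conj x • A)) := by
  obtain ⟨y, L, hAL, hAN, hLN, hti⟩ := exists_pre S N hS hN uniq hA hQ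
  set N₁ := MulAut.conj y • N with hN₁
  let T : Set X := {x | x ∈ L ∧ x ∉ N₁}
  have hT : T.Nonempty := by
    obtain ⟨x, h1, h2⟩ := SetLike.not_le_iff_exists.1 hLN
    exact ⟨x, h1, h2⟩
  obtain ⟨x, ⟨hxL, hxN⟩, hmin⟩ := Set.exists_min_image T (fun x => Nat.card (A ⊔ MulAut.conj x • A : Subgroup X))
    (Set.toFinite T) hT
  refine ⟨x, y, ?_⟩
  set X₁ := A ⊔ MulAut.conj x • A with hX₁
  have hX₁L : X₁ ≤ L := by
    refine sup_le hAL ?_
    rw [← cj_of_mem hxL]
    exact cj_mono hAL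
  refine ⟨?_, ?_, ?_, ?_⟩
  · intro a ha
    exact hAN ha
  · intro h
    rw [subgroupOf_eq_top] at h
    apply hxN
    apply inv_mem_iff.1
    apply hti _ (inv_mem hxL)
    rw [← cj_le_iff]
    exact le_inf (le_sup_right.trans hX₁L) (le_sup_right.trans h)
  · intro K hAK hne k hk
    rw [mem_subgroupOf]
    by_contra hkN
    have hkL : (k : X) ∈ L := hX₁L k.2
    have h1 := hmin (k : X) ⟨hkL, hkN⟩
    have h2 : A ⊔ MulAut.conj (k : X) • A ≤ K.map X₁.subtype := by
      have h3 : A ≤ K.map X₁.subtype := by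
        intro a ha
        exact ⟨⟨a, (le_sup_left : A ≤ X₁) ha⟩, hAK ha, rfl⟩
      refine sup_le h3 ?_
      have h4 : (k : X) ∈ K.map X₁.subtype := ⟨k, hk, rfl⟩
      rw [← cj_of_mem h4]
      exact cj_mono h3
    have h3 : Nat.card (A ⊔ MulAut.conj (k : X) • A : Subgroup X) ≤ Nat.card (K.map X₁.subtype) :=
      Subgroup.card_le_of_le h2
    have h4 : Nat.card (K.map X₁.subtype) = Nat.card K :=
      Nat.card_congr (K.equivMapOfInjective _ X₁.subtype_injective).symm.toEquiv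
    have h5 : Nat.card K < Nat.card X₁ := by
      refine lt_of_le_of_ne (Subgroup.card_le_card_group K) fun h6 => hne ?_
      exact Subgroup.eq_top_of_card_eq K h6
    omega
  · intro g hg
    rw [mem_subgroupOf]
    apply hti _ (hX₁L g.2)
    intro a ha
    have h1 : (⟨a, (le_sup_left : A ≤ X₁) ha⟩ : X₁) ∈ MulAut.conj g • N₁.subgroupOf X₁ := hg ha
    rw [mem_cj, mem_subgroupOf] at h1
    rw [mem_cj]
    refine ⟨?_, h1⟩
    exact L.mul_mem (L.mul_mem (L.inv_mem (hX₁L g.2)) (hAL ha)) (hX₁L g.2)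

end Cfsg.Agent.Omega.NO3b.TheoremL.Lift
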