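import Cfsg.Agent.Omega.NO3b.TheoremL.Core3
import Cfsg.Agent.Omega.NO3b.TheoremL.Lift
import Cfsg.Agent.Omega.NO3b.Exit.TypeTwo

/-!
# THEOREM L (#18749, helper344): TIGHT, for every `q`, every `X`, every `T ≤ S`

`X` finite acts faithfully on the elementary abelian 2-group `U`, `N_X(V)` is the unique maximal subgroup of `X` over the
Sylow 2-subgroup `S`; `F ≤ V ≤ U` is centralised by `X`, `V ∩ V^x ≤ F` for `V^x ≠ V`; `V` is not FF for `N_X(V)`
(`DatU S V F`).  `B` is an elementary abelian 2-subgroup, `B ≰ O₂(X)`, `|U| ≤ f(B)`, `f(E) < f(B)` for `1 ≠ E < B`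
(`MBU`), `f(E) = |E| |C_U(E)|`.  Then (`tight`): `f(B) = |U|`, `|V : F| = |B|`, and for every line `V^x` which is not
`B`-invariant `U = V^x C_U(B)`, `V^x ∩ C_U(B) = F`, `N_B(V^x) = B ∩ O₂(X)` acts faithfully on `V^x`; `[U, B ∩ O₂(X)] ≤ F`;
`C_U(B ∩ O₂(X)) = C_U(B)` if `B ∩ O₂(X) ≠ 1`.  `noover`: no `E` with `C_U(E) ≥ C_U(B)` is an over-offender.
-/

set_option autoImplicit false
set_option linter.unusedSectionVars false
set_option linter.dupNamespace false

namespace Cfsg.Agent.Omega.NO3b.TheoremL.Tight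

open Cfsg.Agent.Omega.FF.Basic
open Cfsg.Agent.Omega.NO3b.Exit.TT
open Cfsg.Agent.Omega.NO3b.TheoremL.Act (Q)
open Cfsg.Agent.Omega.NO3b.TheoremL.Core1 (Hyp)
open Cfsg.Agent.Omega.NO3b.TheoremL.Core3 (Out core VZ)
open Cfsg.Agent.Omega.MinFF (TI)
open Cfsg (pCore)
open scoped Pointwise

/-- The hypotheses. -/
structure DatU {X : Type*} [Group X] {U : Type*} [AddCommGroup U] [DistribMulAction X U] (S : Sylow 2 X)
    (V F : AddSubgroup U) : Prop where
  two : ∀ u : U, u + u = 0
  faith : ∀ x : X, (∀ u : U, x • u = u) → x = 1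
  SV : (S : Subgroup X) ≤ nf X V
  ne : nf X V ≠ ⊤
  uniq : ∀ K : Subgroup X, (S : Subgroup X) ≤ K → K ≠ ⊤ → K ≤ nf X V
  FV : F ≤ V
  Fx : ∀ (x : X), ∀ f ∈ F, x • f = f
  ti : ∀ x : X, x • V ≠ V → V ⊓ x • V ≤ F
  nff : ∀ A : Subgroup X, IsPGroup 2 A → A ≤ nf X V → (∀ a ∈ A, ∀ v ∈ V, a • a • v = v) → ¬ A ≤ cf X V →
    Nat.card A * Nat.card ↥(V ⊓ fx U A) < Nat.card V * Nat.card ↥(A ⊓ cf X V)

/-- a best offender, minimal in itself, which is not contained in `O₂(X)` -/
structure MBU {X : Type*} [Group X] (U : Type*) [AddCommGroup U] [DistribMulAction X U] (B : Subgroup X) : Prop where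
  ea : EA B
  nle : ¬ B ≤ pCore 2 X
  off : Nat.card U ≤ mm U B
  min : ∀ E : Subgroup X, E < B → E ≠ ⊥ → mm U E < mm U B

variable {X : Type*} [Group X] {U : Type*} [AddCommGroup U] [DistribMulAction X U] {S : Sylow 2 X}
  {V F : AddSubgroup U} {B : Subgroup X}

/-- the conclusions for the line `V^x` -/
structure TightAt (B : Subgroup X) (V F : AddSubgroup U) (x : X) : Prop where
  sup : x • V ⊔ fx U B = ⊤
  inf : x • V ⊓ fx U B = F
  nf_eq : B ⊓ nf X (x • V) = B ⊓ pCore 2 X
  cf_eq : B ⊓ pCore 2 X ⊓ cf X (x • V) = ⊥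

/-- the conclusions -/
structure Tight (B : Subgroup X) (V F : AddSubgroup U) : Prop where
  mm_eq : mm U B = Nat.card U
  card : Nat.card B * Nat.card F = Nat.card V
  fx_eq : B ⊓ pCore 2 X ≠ ⊥ → fx U (B ⊓ pCore 2 X) = fx U B
  comm : ∀ b ∈ B ⊓ pCore 2 X, ∀ u : U, b • u - u ∈ F
  ex : ∃ x : X, ¬ B ≤ nf X (x • V)
  all : ∀ x : X, ¬ B ≤ nf X (x • V) → TightAt B V F x

namespace DatU

variable (h : DatU S V F)
include h

theorem F_smul (x : X) : x • F = F := by
  ext w
  rw [mem_smul]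
  constructor
  · intro hw
    have := h.Fx x _ hw
    rw [smul_inv_smul] at this
    rw [this]; exact hw
  · intro hw
    rw [h.Fx x⁻¹ w hw]; exact hw

theorem F_le (x : X) : F ≤ x • V := by
  rw [← h.F_smul x]
  exact AddSubgroup.pointwise_smul_le_pointwise_smul_iff.2 h.FV

theorem F_fx (A : Subgroup X) : F ≤ fx U A := fun f hf a _ => h.Fx a f hf

/-- (TI) for two lines -/
theorem ti' {x y : X} (hne : x • V ≠ y • V) : x • V ⊓ y • V ≤ F := by
  have h1 : (x⁻¹ * y) • V ≠ V := by
    intro h0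
    apply hne
    have := congrArg (fun U : AddSubgroup U => x • U) h0
    simp only [smul_smul, mul_inv_cancel_left] at this
    exact this.symm
  intro w hw
  have h2 : x⁻¹ • w ∈ F := by
    apply h.ti _ h1
    refine ⟨mem_smul.1 hw.1, ?_⟩
    have h3 : y⁻¹ • w ∈ V := mem_smul.1 hw.2
    have e : ((x⁻¹ * y)⁻¹ • x⁻¹ • w : U) = y⁻¹ • w := by
      rw [smul_smul]; congr 1; group
    exact mem_smul.2 (by rw [e]; exact h3)
  have h3 := h.Fx x _ h2
  rw [smul_inv_smul] at h3
  rw [h3]; exact h2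

/-- NF for the line `V^x` -/
theorem nff' (x : X) {A : Subgroup X} (hA : IsPGroup 2 A) (hAn : A ≤ nf X (x • V))
    (hsq : ∀ a ∈ A, ∀ v ∈ x • V, a • a • v = v) (hne : ¬ A ≤ cf X (x • V)) :
    Nat.card A * Nat.card ↥(x • V ⊓ fx U A) < Nat.card V * Nat.card ↥(A ⊓ cf X (x • V)) := by
  have h1 := h.nff (cj x⁻¹ A) (isPGroup_cj _ hA) (fun a ha => by
      rw [mem_cj, inv_inv] at ha
      have h2 := hAn ha
      rw [nf_conj] at h2
      have e : x⁻¹ * (x * a * x⁻¹) * x = a := by group
      rwa [e] at h2) (fun a ha v hv => by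
      rw [mem_cj, inv_inv] at ha
      have h2 := hsq _ ha _ (smul_mem' (x := x) hv)
      rw [smul_smul, smul_smul] at h2
      have e : x * a * x⁻¹ * (x * a * x⁻¹) * x = x * (a * a) := by group
      rw [e, mul_smul] at h2
      rw [smul_smul]
      exact smul_left_cancel x h2) (fun h0 => hne (fun a ha => by
      rw [cf_conj]
      have h2 := h0 (mem_cj_of (g := x⁻¹) ha)
      rwa [inv_inv] at h2))
  rw [card_cj] at h1
  have e1 : Nat.card ↥(V ⊓ fx U (cj x⁻¹ A)) = Nat.card ↥(x • V ⊓ fx U A) := by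
    refine (card_smul x fun v => ?_).symm
    constructor
    · rintro ⟨h2, h3⟩
      exact ⟨mem_smul.1 h2, smul_mem_fx_cj h3⟩
    · rintro ⟨h2, h3⟩
      have h3' := mem_fx_cj.1 h3
      rw [inv_inv, smul_inv_smul] at h3'
      exact ⟨mem_smul.2 h2, h3'⟩
  have e2 : Nat.card ↥(cj x⁻¹ A ⊓ cf X V) = Nat.card ↥(A ⊓ cf X (x • V)) := by
    have e3 : cj x⁻¹ A ⊓ cf X V = cj x⁻¹ (A ⊓ cf X (x • V)) := by
      ext a
      rw [mem_cj, inv_inv, Subgroup.mem_inf, Subgroup.mem_inf, mem_cj, inv_inv, cf_conj]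
      have e : x⁻¹ * (x * a * x⁻¹) * x = a := by group
      rw [e]
    rw [e3, card_cj]
  rw [e1, e2] at h1
  exact h1

/-- `C_{V^g}(b) ≤ F` if `b` moves the line `V^g` -/
theorem fe_inf {g b : X} (hb : b ∉ nf X (g • V)) : g • V ⊓ fe U b ≤ F := by
  rintro v ⟨h1, h2⟩
  refine h.ti' (x := g) (y := b * g) ?_ ⟨h1, ?_⟩
  · intro h0
    apply hb
    rw [mem_nf, ← mul_smul]
    exact h0.symm
  · rw [mul_smul]
    have h3 := smul_mem' (x := b) h1
    have h4 : b • v = v := h2
    rwa [h4] at h3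

/-- `C_{V^g}(B) = F` -/
theorem fx_inf {g : X} (hg : ¬ B ≤ nf X (g • V)) : g • V ⊓ fx U B = F := by
  refine le_antisymm ?_ (le_inf (h.F_le g) (h.F_fx B))
  rw [SetLike.not_le_iff_exists] at hg
  obtain ⟨b, hb, hbn⟩ := hg
  exact (inf_le_inf_left _ (fx_le_fe hb)).trans (fe_inf h hbn)

variable [Finite X]

theorem core_nf (x : X) : pCore 2 X ≤ nf X (x • V) := by
  intro q hq
  rw [nf_conj]
  have hn : (pCore 2 X).Normal := Lib.Cores.pCore_normal 2
  have h1 : x⁻¹ * q * x ∈ pCore 2 X := by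
    have := hn.conj_mem q hq x⁻¹
    rwa [inv_inv] at this
  exact h.SV (Lib.Cores.pCore_le_sylow S h1)

variable [Finite U]

/-- a best offender which normalises a line centralises it. -/
theorem bo_cent {A : Subgroup X} (hA : BO U A) {x : X} (hx : A ≤ nf X (x • V)) : A ≤ cf X (x • V) := by
  by_contra hne
  have h1 := h.nff' x hA.ea.isPGroup hx (fun a ha v _ => by rw [smul_smul, hA.ea a ha, one_smul]) hne
  set E := A ⊓ cf X (x • V) with hE
  have h2 := hA.le E inf_le_left
  have h3 : x • V ⊔ fx U A ≤ fx U E := by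
    refine sup_le ?_ (fx_anti inf_le_left)
    exact le_cf.1 inf_le_right
  have h4 := card_sup_inf (x • V) (fx U A)
  have h5 := card_le h3
  rw [card_smul'] at h4
  rw [mm, mm] at h2
  have h6 : Nat.card V * Nat.card E ≤ Nat.card A * Nat.card ↥(x • V ⊓ fx U A) := by
    have p : 0 < Nat.card (fx U A) := Nat.card_pos
    refine Nat.le_of_mul_le_mul_right ?_ p
    calc Nat.card V * Nat.card E * Nat.card (fx U A) = Nat.card E * (Nat.card V * Nat.card (fx U A)) := by ring
      _ = Nat.card E * (Nat.card ↥(x • V ⊔ fx U A) * Nat.card ↥(x • V ⊓ fx U A)) := by rw [h4]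
      _ ≤ Nat.card E * (Nat.card (fx U E) * Nat.card ↥(x • V ⊓ fx U A)) :=
        Nat.mul_le_mul_left _ (Nat.mul_le_mul_right _ h5)
      _ = Nat.card E * Nat.card (fx U E) * Nat.card ↥(x • V ⊓ fx U A) := by ring
      _ ≤ Nat.card A * Nat.card (fx U A) * Nat.card ↥(x • V ⊓ fx U A) := Nat.mul_le_mul_right _ h2
      _ = _ := by ring
  exact absurd h1 (not_lt.2 h6)

end DatU

theorem MBU.bo [Finite X] [Finite U] (m : MBU U B) : BO U B where
  ea := m.ea
  le := fun E hE => by
    by_cases h0 : E = ⊥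
    · rw [h0, mm_bot]; exact m.off
    · rcases hE.eq_or_lt with h1 | h1
      · rw [h1]
      · exact (m.min E h1 h0).le

theorem MBU.ne_bot (m : MBU U B) : B ≠ ⊥ := fun h0 => m.nle (h0 ▸ bot_le)

section sub

variable {Y₀ : Subgroup X}

theorem fx_sub {E : Subgroup Y₀} : fx U (E.map Y₀.subtype) = fx U E := by
  ext u
  constructor
  · intro hu e he
    exact hu e ⟨e, he, rfl⟩
  · rintro hu _ ⟨e, he, rfl⟩
    exact hu e he

theorem card_sub (E : Subgroup Y₀) : Nat.card (E.map Y₀.subtype) = Nat.card E :=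
  (Nat.card_congr (Subgroup.equivMapOfInjective _ _ Y₀.subtype_injective).toEquiv).symm

theorem mm_sub (E : Subgroup Y₀) : mm U (E.map Y₀.subtype) = mm U E := by
  rw [mm, mm, fx_sub, card_sub]

theorem map_sub {E : Subgroup X} (hE : E ≤ Y₀) : (E.subgroupOf Y₀).map Y₀.subtype = E := by
  rw [Subgroup.subgroupOf_map_subtype, inf_eq_left.2 hE]

end sub

/-- THEOREM L for `X₁ = ⟨B, B^x⟩` -/
theorem exists_out [Finite X] [Finite U] (h : DatU S V F) (m : MBU U B) :
    ∃ (Y₀ : Subgroup X) (y : X), B ≤ Y₀ ∧ Hyp (B.subgroupOf Y₀) ((MulAut.conj y • nf X V).subgroupOf Y₀) (y • V) := by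
  obtain ⟨x, y, hti⟩ := Lift.exists_ti S (nf X V) h.SV h.ne h.uniq m.ea.isPGroup m.nle
  set Y₀ := B ⊔ MulAut.conj x • B with hY₀
  have hB : B ≤ Y₀ := le_sup_left
  have hBm := map_sub hB
  refine ⟨Y₀, y, hB, Hyp.of_nff h.two (fun z hz => Subtype.ext (h.faith z fun u => hz u)) hti ?_ ?_ ?_ ?_ ?_ ?_⟩
  · intro a ha
    exact Subtype.ext (m.ea _ (Subgroup.mem_subgroupOf.1 ha))
  · rw [← mm_sub, hBm]; exact m.off
  · intro E hE hE0
    rw [← mm_sub E, ← mm_sub (B.subgroupOf Y₀), hBm]
    refine m.min _ ?_ ?_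
    · rw [← hBm]
      exact lt_of_le_of_ne (Subgroup.map_mono hE.le) fun h0 =>
        hE.ne (Subgroup.map_injective Y₀.subtype_injective h0)
    · intro h0
      exact hE0 ((Subgroup.map_eq_bot_iff_of_injective _ Y₀.subtype_injective).1 h0)
  · intro z hz
    have h1 := MinFF.mem_cj.1 (Subgroup.mem_subgroupOf.1 hz)
    rw [← nf_conj] at h1
    exact h1
  · intro A hA hAM hsq hne
    have hAn : A.map Y₀.subtype ≤ nf X (y • V) := by
      rintro _ ⟨a, ha, rfl⟩
      have h1 := MinFF.mem_cj.1 (Subgroup.mem_subgroupOf.1 (hAM ha))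
      rw [← nf_conj] at h1
      exact h1
    have h1 := h.nff' y (hA.map Y₀.subtype) hAn (by
      rintro _ ⟨a, ha, rfl⟩ v hv
      exact hsq a ha v hv) (fun h0 => hne fun a ha => h0 ⟨a, ha, rfl⟩)
    rw [card_sub, fx_sub] at h1
    have h2 : A.map Y₀.subtype ⊓ cf X (y • V) = (A ⊓ cf Y₀ (y • V)).map Y₀.subtype := by
      ext z
      constructor
      · rintro ⟨⟨a, ha, rfl⟩, hz⟩
        exact ⟨a, ⟨ha, hz⟩, rfl⟩
      · rintro ⟨a, ⟨ha, hz⟩, rfl⟩
        exact ⟨⟨a, ha, rfl⟩, hz⟩
    rw [h2, card_sub] at h1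
    rw [card_smul']
    exact h1
  · intro h0
    apply hti.ne
    rw [eq_top_iff]
    intro z _
    rw [Subgroup.mem_subgroupOf, MinFF.mem_cj, ← nf_conj]
    refine cf_le_nf (y • V) ?_
    intro v hv
    exact h0 hv z (Subgroup.mem_top z)

/-- **TIGHT** -/
theorem tight [Finite X] [Finite U] (h : DatU S V F) (m : MBU U B) : Tight B V F := by
  obtain ⟨Y₀, y, hB, hy⟩ := exists_out h m
  have o := core hy
  have hBm := map_sub hB
  set A := B.subgroupOf Y₀ with hA
  set M := (MulAut.conj y • nf X V).subgroupOf Y₀ with hM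
  have memM : ∀ k : Y₀, k ∈ M ↔ (k : X) ∈ nf X (y • V) := by
    intro k
    rw [hM, Subgroup.mem_subgroupOf, MinFF.mem_cj, ← nf_conj]
  have mmB : mm U B = Nat.card U := by rw [← hBm, mm_sub]; exact o.mm_eq
  obtain ⟨k, hk⟩ := hy.ti.exists_not_mem
  have pF : 0 < Nat.card F := Nat.card_pos
  have pZ : 0 < Nat.card (fx U (⊤ : Subgroup Y₀)) := Nat.card_pos
  -- `V^y ∩ Z = F`
  have hVZ : (y • V) ⊓ fx U (⊤ : Subgroup Y₀) = F := by
    apply le_antisymm
    · rintro v ⟨hv, hvZ⟩
      have hne : y • V ≠ ((k : X) * y) • V := by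
        intro h0
        apply hk
        rw [memM, mem_nf, ← mul_smul]
        exact h0.symm
      refine h.ti' hne ⟨hv, ?_⟩
      have h2 : (k : X) • v = v := hvZ k (Subgroup.mem_top k)
      rw [← h2, mul_smul]
      exact smul_mem' hv
    · exact le_inf (h.F_le y) fun f hf k _ => h.Fx (k : X) f hf
  have hcardA : Nat.card A = Nat.card B := by rw [← card_sub, hBm]
  have hcard : Nat.card B * Nat.card F = Nat.card V := by
    have h1 := card_sup_inf (y • V) (fx U (⊤ : Subgroup Y₀))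
    rw [hVZ, card_smul'] at h1
    have h2 := o.card
    rw [hcardA] at h2
    refine Nat.eq_of_mul_eq_mul_right pZ ?_
    rw [← h1, h2]; ring
  have hall : ∀ x : X, ¬ B ≤ nf X (x • V) → TightAt B V F x := by
    intro x hx
    have hinf := h.fx_inf hx
    have hsup : x • V ⊔ fx U B = ⊤ := by
      refine eq_of_card_le le_top ?_
      have h1 := card_sup_inf (x • V) (fx U B)
      rw [hinf, card_smul', ← hcard] at h1
      rw [card_top, ← mmB, mm]
      refine Nat.le_of_mul_le_mul_right ?_ pF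
      rw [h1]
      exact le_of_eq (by ring)
    have hcomm : ∀ b ∈ B, b ∈ nf X (x • V) → ∀ u : U, b • u - u ∈ F := by
      intro b hb hbn u
      have hu : u ∈ x • V ⊔ fx U B := by rw [hsup]; trivial
      obtain ⟨v, hv, c, hc, rfl⟩ := mem_sup hu
      have e : b • (v + c) - (v + c) = (b • v - v) + (b • c - c) := by rw [smul_add]; abel
      rw [e, hc b hb, sub_self, add_zero, ← hinf]
      exact AddSubgroup.mem_inf.2 ⟨sub_mem (nf_smul hbn hv) hv, fun c hc =>
        quad' h.two m.ea m.ne_bot m.off m.min b hb c hc v⟩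
    have hKF : ∀ b : X, (∀ u : U, b • u - u ∈ F) → b ∈ pCore 2 X := by
      have h1 : KF X F h.Fx ≤ pCore 2 X := by
        refine Lib.Cores.le_pCore ⟨fun a ha g => ?_⟩ ?_
        · intro w
          have h1 := ha (g⁻¹ • w)
          have h2 := h.Fx g _ h1
          have e : (g * a * g⁻¹) • w - w = g • (a • g⁻¹ • w - g⁻¹ • w) := by
            rw [smul_sub, smul_inv_smul, mul_smul, mul_smul]
          rw [e, h2]; exact h1
        · intro a
          refine ⟨1, Subtype.ext ?_⟩
          have h3 : (a : X) * a = 1 := by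
            apply h.faith
            intro u
            have h4 := h.Fx a _ (a.2 u)
            have e : ((a : X) * a) • u = (a : X) • ((a : X) • u - u) + (a : X) • u := by
              rw [mul_smul, smul_sub]; abel
            rw [e, h4]
            have e2 : (a : X) • u - u + (a : X) • u = ((a : X) • u + (a : X) • u) - u := by abel
            rw [e2, h.two, zero_sub]
            exact neg_eq_of_add_eq_zero_left (h.two u)
          simpa [pow_two] using h3
      intro b hb
      exact h1 hb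
    refine ⟨hsup, hinf, ?_, ?_⟩
    · apply le_antisymm
      · rintro b ⟨hb, hbn⟩
        exact ⟨hb, hKF b (hcomm b hb hbn)⟩
      · exact inf_le_inf_left _ (h.core_nf x)
    · rw [Subgroup.eq_bot_iff_forall]
      rintro b ⟨⟨hb, -⟩, hbc⟩
      apply h.faith
      intro u
      have hu : u ∈ x • V ⊔ fx U B := by rw [hsup]; trivial
      obtain ⟨v, hv, c, hc, rfl⟩ := mem_sup hu
      rw [smul_add, hbc v hv, hc b hb]
  -- a moved line
  have hx : ¬ B ≤ nf X (((k : X) * y) • V) := by
    intro h0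
    apply hk
    apply hy.ti.ti
    intro a ha
    rw [MinFF.mem_cj, memM]
    have h1 := h0 (Subgroup.mem_subgroupOf.1 ha)
    rw [mul_smul, nf_conj] at h1
    exact h1
  have tx := hall _ hx
  refine ⟨mmB, hcard, ?_, ?_, ⟨_, hx⟩, hall⟩
  · -- `C_U(B ∩ O₂(X)) = C_U(B)`
    intro hne
    have h1 := o.nf k hk
    have h2 : (A ⊓ pCore 2 Y₀).map Y₀.subtype = B ⊓ pCore 2 X := by
      rw [← h1, ← tx.nf_eq]
      ext b
      constructor
      · rintro ⟨a, ⟨ha, hak⟩, rfl⟩
        refine ⟨Subgroup.mem_subgroupOf.1 ha, ?_⟩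
        have h3 := MinFF.mem_cj.1 hak
        rw [memM] at h3
        have h4 : (a : X) ∈ nf X ((k : X) • y • V) := nf_conj.2 h3
        rw [← mul_smul] at h4
        exact h4
      · rintro ⟨hb, hbn⟩
        refine ⟨⟨b, hB hb⟩, ⟨Subgroup.mem_subgroupOf.2 hb, ?_⟩, rfl⟩
        refine MinFF.mem_cj.2 ?_
        rw [memM]
        have h4 : b ∈ nf X ((k : X) • y • V) := by rw [← mul_smul]; exact hbn
        exact nf_conj.1 h4
    have h3 : A ⊓ pCore 2 Y₀ ≠ ⊥ := by
      intro h0
      rw [h0, Subgroup.map_bot] at h2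
      exact hne h2.symm
    have h4 := o.fx_eq h3
    rw [← h2, fx_sub, h4, ← fx_sub, hBm]
  · intro b hb u
    have hbn := h.core_nf ((k : X) * y) hb.2
    have hu : u ∈ ((k : X) * y) • V ⊔ fx U B := by rw [tx.sup]; trivial
    obtain ⟨v, hv, c, hc, rfl⟩ := mem_sup hu
    have e : b • (v + c) - (v + c) = (b • v - v) + (b • c - c) := by rw [smul_add]; abel
    rw [e, hc b hb.1, sub_self, add_zero, ← tx.inf]
    exact AddSubgroup.mem_inf.2 ⟨sub_mem (nf_smul hbn hv) hv, fun c hc => quad' h.two m.ea m.ne_bot m.off m.min b hb.1 c hc v⟩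

/-- **no over-offenders** with `C_U(E) ≥ C_U(B)` -/
theorem noover [Finite X] [Finite U] (h : DatU S V F) (m : MBU U B) {E : Subgroup X} (hE : EA E)
    (hle : fx U B ≤ fx U E) : mm U E ≤ Nat.card U := by
  classical
  by_contra hcon
  push Not at hcon
  obtain ⟨E₁, hE₁, hmax⟩ := Set.exists_max_image {E' : Subgroup X | E' ≤ E} (fun E' => mm U E') (Set.toFinite _) ⟨E, le_refl E⟩
  obtain ⟨E₂, ⟨hE₂, hE₂m⟩, hmin⟩ := Set.exists_min_image {E' : Subgroup X | E' ≤ E ∧ mm U E' = mm U E₁}
    (fun E' => Nat.card E') (Set.toFinite _) ⟨E₁, hE₁, rfl⟩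
  have h1 : Nat.card U < mm U E₂ := by
    rw [hE₂m]; exact lt_of_lt_of_le hcon (hmax E (le_refl E))
  have hbo : BO U E₂ := ⟨hE.mono hE₂, fun E' h' => by rw [hE₂m]; exact hmax E' (h'.trans hE₂)⟩
  by_cases hQ : E₂ ≤ pCore 2 X
  · obtain ⟨x, hx⟩ := (tight h m).ex
    have t := (tight h m).all x hx
    have h2 := h.bo_cent hbo (x := x) (hQ.trans (h.core_nf x))
    have h3 : E₂ = ⊥ := by
      rw [Subgroup.eq_bot_iff_forall]
      intro e he
      apply h.faith
      intro u
      have hu : u ∈ x • V ⊔ fx U B := by rw [t.sup]; trivial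
      obtain ⟨v, hv, c, hc, rfl⟩ := mem_sup hu
      rw [smul_add, h2 he v hv, hle hc e (hE₂ he)]
    rw [h3, mm_bot] at h1
    exact lt_irrefl _ h1
  · have m₂ : MBU U E₂ :=
      { ea := hE.mono hE₂
        nle := hQ
        off := h1.le
        min := fun E' h' h0 => by
          refine lt_of_le_of_ne (hbo.le E' h'.le) fun heq => ?_
          have h2 := hmin E' ⟨h'.le.trans hE₂, heq.trans hE₂m⟩
          exact h'.ne (Subgroup.eq_of_le_of_card_ge h'.le h2) }
    have h2 := (tight h m₂).mm_eq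
    omega

/-- FULL: `κ ∈ O₂(X)`, `[C_U(B), κ] = 1`, `[U, κ] ≤ F` imply `κ ∈ B` -/
theorem full [Finite X] [Finite U] (h : DatU S V F) (m : MBU U B) {κ : X} (hB : ∀ u ∈ fx U B, κ • u = u)
    (hF : ∀ u : U, κ • u - u ∈ F) : κ ∈ B := by
  have hF' : ∀ u : U, κ • (κ • u - u) = κ • u - u := fun u => h.Fx κ _ (hF u)
  have hsq : κ * κ = 1 := by
    apply h.faith
    intro u
    have e : (κ * κ) • u = κ • (κ • u - u) + κ • u := by rw [mul_smul, smul_sub]; abel
    rw [e, hF' u]
    have e2 : κ • u - u + κ • u = (κ • u + κ • u) - u := by abel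
    rw [e2, h.two, zero_sub]
    exact neg_eq_of_add_eq_zero_left (h.two u)
  have hcomm : ∀ b ∈ B, b * κ = κ * b := by
    intro b hb
    have h1 : (κ * b)⁻¹ * (b * κ) = 1 := by
      apply h.faith
      intro u
      rw [mul_smul, inv_smul_eq_iff, mul_smul, mul_smul]
      have h2 : b • (κ • u - u) = κ • u - u := h.Fx b _ (hF u)
      have h3 : κ • (b • u - u) = b • u - u := hB _ fun c hc =>
        quad' h.two m.ea m.ne_bot m.off m.min b hb c hc u
      rw [smul_sub] at h2 h3
      have e1 : b • κ • u = κ • u - u + b • u := by rw [← h2]; abel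
      have e2 : κ • b • u = b • u - u + κ • u := by rw [← h3]; abel
      rw [e1, e2]; abel
    exact (inv_mul_eq_one.1 h1).symm
  -- `E = B ⟨κ⟩`
  let E : Subgroup X :=
    { carrier := {x | x ∈ B ∨ κ * x ∈ B}
      one_mem' := Or.inl B.one_mem
      mul_mem' := by
        intro x y hx hy
        rcases hx with hx | hx <;> rcases hy with hy | hy
        · exact Or.inl (B.mul_mem hx hy)
        · right
          have e : κ * (x * y) = x * (κ * y) := by rw [← mul_assoc, ← hcomm x hx, mul_assoc]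
          rw [e]; exact B.mul_mem hx hy
        · right
          rw [← mul_assoc]; exact B.mul_mem hx hy
        · left
          have h1 := B.mul_mem hx hy
          have e : κ * x * (κ * y) = x * y := by
            have h2 : κ * x * κ = x := by
              have := hcomm _ hx
              rw [← mul_assoc, hsq, one_mul] at this
              exact this
            rw [← mul_assoc, h2]
          rw [e] at h1; exact h1
      inv_mem' := by
        intro x hx
        rcases hx with hx | hx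
        · exact Or.inl (B.inv_mem hx)
        · right
          have h1 := hcomm _ hx
          have hκ : κ⁻¹ = κ := inv_eq_of_mul_eq_one_left hsq
          have h2 : κ * x⁻¹ = (κ * x)⁻¹ := by
            rw [mul_inv_rev, hκ]
            have h3 : κ * x * κ = x := by
              have := h1
              rw [← mul_assoc, hsq, one_mul] at this
              exact this
            have h4 : x = κ * x * κ := h3.symm
            have h5 : x⁻¹ = κ * x⁻¹ * κ := by
              calc x⁻¹ = (κ * x * κ)⁻¹ := by rw [h3]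
                _ = κ * x⁻¹ * κ := by rw [mul_inv_rev, mul_inv_rev, hκ, mul_assoc]
            calc κ * x⁻¹ = κ * (κ * x⁻¹ * κ) := by rw [← h5]
              _ = (κ * κ) * x⁻¹ * κ := by group
              _ = x⁻¹ * κ := by rw [hsq, one_mul]
          rw [h2]; exact B.inv_mem hx }
  have hBE : B ≤ E := fun b hb => Or.inl hb
  have hκE : κ ∈ E := Or.inr (by rw [hsq]; exact B.one_mem)
  have hEA : EA E := by
    intro x hx
    rcases hx with hx | hx
    · exact m.ea x hx
    · have h1 := hcomm _ hx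
      have h3 : κ * x * κ = x := by
        have := h1
        rw [← mul_assoc, hsq, one_mul] at this
        exact this
      have h4 := m.ea _ hx
      have e : κ * x * (κ * x) = x * x := by rw [← mul_assoc, h3]
      rw [e] at h4; exact h4
  have hfx : fx U B ≤ fx U E := by
    intro u hu x hx
    rcases hx with hx | hx
    · exact hu x hx
    · have h1 := hu _ hx
      rw [mul_smul] at h1
      have h2 : κ • (x • u) = κ • u := by rw [h1, hB u hu]
      exact smul_left_cancel κ h2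
  have h1 := noover h m hEA hfx
  have h2 := (tight h m).mm_eq
  have h3 : fx U E = fx U B := le_antisymm (fx_anti hBE) hfx
  rw [← h2, mm, mm, h3] at h1
  have h4 := Nat.le_of_mul_le_mul_right h1 Nat.card_pos
  have h5 := Subgroup.eq_of_le_of_card_ge hBE h4
  rw [h5]; exact hκE

/-! ### the setting of `Exit/BO.lean` -/

theorem DatU.of_dat (h : Dat S V F) : DatU S V F where
  two := h.two
  faith := h.faith
  SV := h.SV
  ne := h.ne
  uniq := h.uniq
  FV := h.FV
  Fx := h.Fx
  ti := h.ti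
  nff := h.nff

theorem MBU.of_mb [Finite X] [Finite U] (m : MB U B) (h : Dat S V F) : MBU U B where
  ea := m.bo.ea
  nle := m.nle
  off := m.card_le_mm
  min := fun E hE hne => by
    have h1 := m.two_mul h hE hne
    have h2 : 0 < mm U E := Nat.mul_pos Nat.card_pos Nat.card_pos
    omega

end Cfsg.Agent.Omega.NO3b.TheoremL.Tight
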