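import Cfsg.Agent.Omega.NO3b.TheoremL.Ring
import Cfsg.Agent.Omega.NO3b.Exit.BO

/-!
# THEOREM L (#18749, helper344), part 1: the ring trick for a group action

`Z ≤ W ≤ U`, `Q` acts on `U`, `[W, Q] ≤ Z`, `[Z, Q] = 0`, `C_W(Q) ≤ Z`, no subgroup of `Q` offends on `W`.  `I P`: `P / Z`
is invariant under the ring of all adjoint pairs of the pairing `W / Z × Q / C_Q(W) → Z`.  `ring_rel`: for every
`I`-simple section `P / P'` of `W / Z` : `|P / P'| |Q / C_Q(W)| ≤ |W / Z|`.
-/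

set_option autoImplicit false
set_option linter.unusedSectionVars false

namespace Cfsg.Agent.Omega.NO3b.TheoremL.RingRel

open Cfsg.Agent.Omega.FF.Basic
open Cfsg.Agent.Omega.NO3b.Exit.TT (cf mem_cf nf mem_nf)
open Cfsg.Agent.Omega.NO3b.TheoremL.Ring

section gen

variable {A B : Type*}

theorem card_comap_add [AddCommGroup A] [AddCommGroup B] [Finite A] [Finite B] (f : A →+ B)
    (hf : Function.Surjective f) (P : AddSubgroup B) :
    Nat.card (P.comap f) = Nat.card P * Nat.card f.ker := by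
  have h1 := AddSubgroup.index_comap_of_surjective P hf
  have h2 := (P.comap f).card_mul_index
  have h3 := f.ker.card_mul_index
  have h4 : f.ker.index = Nat.card B := by
    rw [AddSubgroup.index_ker, AddMonoidHom.range_eq_top.2 hf]
    exact Nat.card_congr (Equiv.Set.univ B)
  have h5 := P.card_mul_index
  rw [h1] at h2
  rw [h4] at h3
  have p : 0 < P.index := Nat.pos_of_ne_zero AddSubgroup.index_ne_zero_of_finite
  refine Nat.eq_of_mul_eq_mul_right p ?_
  rw [h2, ← h3, ← h5]; ring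

theorem card_comap_mul [Group A] [Group B] [Finite A] [Finite B] (f : A →* B) (hf : Function.Surjective f)
    (P : Subgroup B) : Nat.card (P.comap f) = Nat.card P * Nat.card f.ker := by
  have h1 := Subgroup.index_comap_of_surjective P hf
  have h2 := (P.comap f).card_mul_index
  have h3 := f.ker.card_mul_index
  have h4 : f.ker.index = Nat.card B := by
    rw [Subgroup.index_ker, MonoidHom.range_eq_top.2 hf]
    exact Nat.card_congr (Equiv.Set.univ B)
  have h5 := P.card_mul_index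
  rw [h1] at h2
  rw [h4] at h3
  have p : 0 < P.index := Nat.pos_of_ne_zero Subgroup.index_ne_zero_of_finite
  refine Nat.eq_of_mul_eq_mul_right p ?_
  rw [h2, ← h3, ← h5]; ring

end gen

variable {Y : Type*} [Group Y] [Finite Y] {U : Type*} [AddCommGroup U] [Finite U] [DistribMulAction Y U]

section

variable {W Z : AddSubgroup U} {Q : Subgroup Y}

/-- `t ↦ (w ↦ t w - w)` -/
def tau (hQW : ∀ t ∈ Q, ∀ w ∈ W, t • w - w ∈ Z) (t : Q) : W →+ Z where
  toFun w := ⟨(t : Y) • (w : U) - w, hQW t t.2 w w.2⟩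
  map_zero' := by
    apply Subtype.ext
    simp
  map_add' v w := by
    apply Subtype.ext
    show (t : Y) • ((v : U) + w) - (v + w) = ((t : Y) • (v : U) - v) + ((t : Y) • (w : U) - w)
    rw [smul_add]; abel

theorem tau_apply (hQW : ∀ t ∈ Q, ∀ w ∈ W, t • w - w ∈ Z) (t : Q) (w : W) :
    ((tau hQW t w : Z) : U) = (t : Y) • (w : U) - w := rfl

theorem tau_mul (hQW : ∀ t ∈ Q, ∀ w ∈ W, t • w - w ∈ Z) (hQZ : ∀ t ∈ Q, ∀ z ∈ Z, t • z = z) (s t : Q) :
    tau hQW (s * t) = tau hQW s + tau hQW t := by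
  ext w
  show ((s : Y) * t) • (w : U) - w = ((s : Y) • (w : U) - w) + ((t : Y) • (w : U) - w)
  have h1 := hQZ s s.2 _ (hQW t t.2 w w.2)
  rw [smul_sub] at h1
  rw [mul_smul]
  have e : (s : Y) • (t : Y) • (w : U) = (t : Y) • (w : U) - w + (s : Y) • (w : U) := by rw [← h1]; abel
  rw [e]; abel

theorem tau_one (hQW : ∀ t ∈ Q, ∀ w ∈ W, t • w - w ∈ Z) : tau hQW 1 = 0 := by
  ext w
  show (1 : Y) • (w : U) - w = 0
  rw [one_smul, sub_self]

/-- the image of `Q` -/
def TH (hQW : ∀ t ∈ Q, ∀ w ∈ W, t • w - w ∈ Z) (hQZ : ∀ t ∈ Q, ∀ z ∈ Z, t • z = z) : AddSubgroup (W →+ Z) where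
  carrier := Set.range (tau hQW)
  zero_mem' := ⟨1, tau_one hQW⟩
  add_mem' := by
    rintro _ _ ⟨s, rfl⟩ ⟨t, rfl⟩
    exact ⟨s * t, tau_mul hQW hQZ s t⟩
  neg_mem' := by
    rintro _ ⟨s, rfl⟩
    refine ⟨s⁻¹, ?_⟩
    have h1 := tau_mul hQW hQZ s⁻¹ s
    rw [inv_mul_cancel, tau_one] at h1
    exact (neg_eq_of_add_eq_zero_left h1.symm).symm

variable (hQW : ∀ t ∈ Q, ∀ w ∈ W, t • w - w ∈ Z) (hQZ : ∀ t ∈ Q, ∀ z ∈ Z, t • z = z)

/-- `tau` as a homomorphism -/
def tauH : Q →* Multiplicative (TH hQW hQZ) where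
  toFun t := Multiplicative.ofAdd ⟨tau hQW t, ⟨t, rfl⟩⟩
  map_one' := by
    apply Multiplicative.toAdd.injective
    exact Subtype.ext (tau_one hQW)
  map_mul' s t := by
    apply Multiplicative.toAdd.injective
    exact Subtype.ext (tau_mul hQW hQZ s t)

theorem tauH_surj : Function.Surjective (tauH hQW hQZ) := by
  rintro ⟨θ, t, ht⟩
  exact ⟨t, congrArg Multiplicative.ofAdd (Subtype.ext ht)⟩

theorem mem_ker_tauH {t : Q} : t ∈ (tauH hQW hQZ).ker ↔ (t : Y) ∈ cf Y W := by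
  rw [MonoidHom.mem_ker]
  constructor
  · intro h w hw
    have h1 : tau hQW t = 0 := congrArg Subtype.val (congrArg Multiplicative.toAdd h)
    have h2 := DFunLike.congr_fun h1 ⟨w, hw⟩
    have h3 : (t : Y) • w - w = 0 := congrArg Subtype.val h2
    exact sub_eq_zero.1 h3
  · intro h
    apply Multiplicative.toAdd.injective
    apply Subtype.ext
    show tau hQW t = 0
    ext w
    show (t : Y) • (w : U) - w = 0
    rw [h w w.2, sub_self]

theorem card_ker_tauH : Nat.card (tauH hQW hQZ).ker = Nat.card ↥(Q ⊓ cf Y W) := by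
  refine Nat.card_congr ⟨fun t => ⟨t.1.1, t.1.2, (mem_ker_tauH hQW hQZ).1 t.2⟩,
    fun t => ⟨⟨t.1, t.2.1⟩, (mem_ker_tauH hQW hQZ).2 t.2.2⟩, fun t => rfl, fun t => rfl⟩

/-- the preimage in `Q` of a subgroup of `TH` -/
def pre (E : AddSubgroup (TH hQW hQZ)) : Subgroup Y := (E.toSubgroup.comap (tauH hQW hQZ)).map Q.subtype

theorem mem_pre {E : AddSubgroup (TH hQW hQZ)} {t : Y} :
    t ∈ pre hQW hQZ E ↔ ∃ h : t ∈ Q, (⟨tau hQW ⟨t, h⟩, ⟨⟨t, h⟩, rfl⟩⟩ : TH hQW hQZ) ∈ E := by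
  constructor
  · rintro ⟨t, ht, rfl⟩
    exact ⟨t.2, ht⟩
  · rintro ⟨h, h1⟩
    exact ⟨⟨t, h⟩, h1, rfl⟩

theorem pre_le (E : AddSubgroup (TH hQW hQZ)) : pre hQW hQZ E ≤ Q := fun _ h => ((mem_pre hQW hQZ).1 h).1

theorem card_TH [Finite (TH hQW hQZ)] : Nat.card Q = Nat.card (TH hQW hQZ) * Nat.card ↥(Q ⊓ cf Y W) := by
  have h1 := card_comap_mul (tauH hQW hQZ) (tauH_surj hQW hQZ) ⊤
  rw [card_ker_tauH, Subgroup.comap_top] at h1
  have h2 : Nat.card (⊤ : Subgroup Q) = Nat.card Q := Subgroup.card_top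
  have h3 : Nat.card (⊤ : Subgroup (Multiplicative (TH hQW hQZ))) = Nat.card (TH hQW hQZ) := Subgroup.card_top
  rw [← h2, h1, h3]

theorem card_pre [Finite (TH hQW hQZ)] (E : AddSubgroup (TH hQW hQZ)) :
    Nat.card (pre hQW hQZ E) = Nat.card E * Nat.card ↥(Q ⊓ cf Y W) := by
  have h1 := card_comap_mul (tauH hQW hQZ) (tauH_surj hQW hQZ) E.toSubgroup
  rw [card_ker_tauH] at h1
  have h2 : Nat.card (pre hQW hQZ E) = Nat.card (E.toSubgroup.comap (tauH hQW hQZ)) :=
    (Nat.card_congr (Subgroup.equivMapOfInjective _ _ Q.subtype_injective).toEquiv).symm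
  have h3 : Nat.card E.toSubgroup = Nat.card E := rfl
  rw [h2, h1, h3]

/-- the pairing, second variable first -/
def bb' : TH hQW hQZ →+ (W ⧸ Z.addSubgroupOf W) →+ Z where
  toFun θ := QuotientAddGroup.lift (Z.addSubgroupOf W) θ.1 (by
    obtain ⟨_, t, rfl⟩ := θ
    intro w hw
    apply Subtype.ext
    show (t : Y) • (w : U) - w = 0
    rw [hQZ t t.2 _ (AddSubgroup.mem_addSubgroupOf.1 hw), sub_self])
  map_zero' := by
    ext w
    rfl
  map_add' θ θ' := by
    ext w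
    rfl

/-- the pairing -/
def bb : (W ⧸ Z.addSubgroupOf W) →+ TH hQW hQZ →+ Z := (bb' hQW hQZ).flip

theorem bb_mk (w : W) (θ : TH hQW hQZ) :
    bb hQW hQZ (QuotientAddGroup.mk w) θ = θ.1 w := rfl

/-- the subgroup of `U` belonging to a subgroup of `W / Z` -/
def up (P : AddSubgroup (W ⧸ Z.addSubgroupOf W)) : AddSubgroup U :=
  (P.comap (QuotientAddGroup.mk' (Z.addSubgroupOf W))).map W.subtype

theorem mem_up {P : AddSubgroup (W ⧸ Z.addSubgroupOf W)} {u : U} :
    u ∈ up P ↔ ∃ h : u ∈ W, (QuotientAddGroup.mk ⟨u, h⟩ : W ⧸ Z.addSubgroupOf W) ∈ P := by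
  constructor
  · rintro ⟨w, hw, rfl⟩
    exact ⟨w.2, hw⟩
  · rintro ⟨h, h1⟩
    exact ⟨⟨u, h⟩, h1, rfl⟩

theorem up_le (P : AddSubgroup (W ⧸ Z.addSubgroupOf W)) : up P ≤ W := fun _ h => (mem_up.1 h).1

theorem le_up (hZW : Z ≤ W) (P : AddSubgroup (W ⧸ Z.addSubgroupOf W)) : Z ≤ up P := by
  intro z hz
  refine mem_up.2 ⟨hZW hz, ?_⟩
  have : (QuotientAddGroup.mk ⟨z, hZW hz⟩ : W ⧸ Z.addSubgroupOf W) = 0 :=
    (QuotientAddGroup.eq_zero_iff _).2 (AddSubgroup.mem_addSubgroupOf.2 hz)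
  rw [this]; exact P.zero_mem

theorem up_le_up {P P' : AddSubgroup (W ⧸ Z.addSubgroupOf W)} : up P ≤ up P' ↔ P ≤ P' := by
  constructor
  · intro h x hx
    induction x using QuotientAddGroup.induction_on with
    | H w =>
      obtain ⟨h1, h2⟩ := mem_up.1 (h (mem_up.2 ⟨w.2, hx⟩ : (w : U) ∈ up P))
      exact h2
  · intro h u hu
    obtain ⟨h1, h2⟩ := mem_up.1 hu
    exact mem_up.2 ⟨h1, h h2⟩

theorem up_inj {P P' : AddSubgroup (W ⧸ Z.addSubgroupOf W)} (h : up P = up P') : P = P' :=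
  le_antisymm (up_le_up.1 h.le) (up_le_up.1 h.ge)

theorem up_top : up (⊤ : AddSubgroup (W ⧸ Z.addSubgroupOf W)) = W := by
  apply le_antisymm (up_le _)
  intro w hw
  exact mem_up.2 ⟨hw, trivial⟩

theorem up_bot (hZW : Z ≤ W) : up (⊥ : AddSubgroup (W ⧸ Z.addSubgroupOf W)) = Z := by
  apply le_antisymm _ (le_up hZW _)
  intro w hw
  obtain ⟨h1, h2⟩ := mem_up.1 hw
  have := (QuotientAddGroup.eq_zero_iff _).1 (AddSubgroup.mem_bot.1 h2)
  exact AddSubgroup.mem_addSubgroupOf.1 this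

theorem card_up (hZW : Z ≤ W) (P : AddSubgroup (W ⧸ Z.addSubgroupOf W)) :
    Nat.card (up P) = Nat.card P * Nat.card Z := by
  have h1 := card_comap_add (QuotientAddGroup.mk' (Z.addSubgroupOf W)) (QuotientAddGroup.mk'_surjective _) P
  rw [QuotientAddGroup.ker_mk'] at h1
  have h2 : Nat.card (up P) = Nat.card (P.comap (QuotientAddGroup.mk' (Z.addSubgroupOf W))) :=
    (Nat.card_congr (AddSubgroup.equivMapOfInjective _ _ W.subtype_injective).toEquiv).symm
  have h3 : Nat.card (Z.addSubgroupOf W) = Nat.card Z :=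
    Nat.card_congr (AddSubgroup.addSubgroupOfEquivOfLe hZW).toEquiv
  rw [h2, h1, h3]

end

/-- **the ring trick**, relative form -/
theorem ring_rel {W Z : AddSubgroup U} {Q : Subgroup Y} (two : ∀ u : U, u + u = 0) (hZW : Z ≤ W)
    (hQW : ∀ t ∈ Q, ∀ w ∈ W, t • w - w ∈ Z) (hQZ : ∀ t ∈ Q, ∀ z ∈ Z, t • z = z)
    (hL : ∀ w ∈ W, (∀ t ∈ Q, t • w = w) → w ∈ Z)
    (nf : ∀ B ≤ Q, ¬ B ≤ cf Y W →
      2 * (Nat.card B * Nat.card ↥(W ⊓ fx U B)) ≤ Nat.card W * Nat.card ↥(B ⊓ cf Y W)) :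
    ∃ I : AddSubgroup U → Prop, I W ∧ I Z ∧ (∀ P, I P → Z ≤ P ∧ P ≤ W) ∧
      (∀ P, I P → ∀ y : Y, (∀ w ∈ W, y • w ∈ W) → (∀ z ∈ Z, y • z = z) → (∀ t ∈ Q, y⁻¹ * t * y ∈ Q) →
        ∀ v ∈ P, y • v ∈ P) ∧
      (∀ P' P, I P' → I P → P' < P → (∀ R, I R → P' ≤ R → R ≤ P → R = P' ∨ R = P) →
        Nat.card P * (Nat.card Q * Nat.card Z) ≤ Nat.card P' * (Nat.card W * Nat.card ↥(Q ⊓ cf Y W))) := by
  classical
  have hfin : Finite (W →+ Z) := Finite.of_injective (fun f : W →+ Z => (f : W → Z)) DFunLike.coe_injective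
  have pZ : 0 < Nat.card Z := Nat.card_pos
  have pQ : 0 < Nat.card ↥(Q ⊓ cf Y W) := Nat.card_pos
  refine ⟨fun P => ∃ P' : AddSubgroup (W ⧸ Z.addSubgroupOf W), Inv (bb hQW hQZ) P' ∧ P = up P', ⟨⊤, ?_, up_top.symm⟩,
    ⟨⊥, ?_, (up_bot hZW).symm⟩, ?_, ?_, ?_⟩
  · intro f g _ w _; trivial
  · intro f g _ w hw
    rw [AddSubgroup.mem_bot] at hw ⊢
    rw [hw, map_zero]
  · rintro _ ⟨P, -, rfl⟩
    exact ⟨le_up hZW P, up_le P⟩
  · rintro _ ⟨P, hP, rfl⟩ y hyW hyZ hyQ v hv
    obtain ⟨hvW, hvP⟩ := mem_up.1 hv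
    let yW : W →+ W :=
      { toFun := fun w => ⟨y • (w : U), hyW w w.2⟩
        map_zero' := Subtype.ext (smul_zero y)
        map_add' := fun a b => Subtype.ext (smul_add y (a : U) b) }
    let f : (W ⧸ Z.addSubgroupOf W) →+ (W ⧸ Z.addSubgroupOf W) :=
      QuotientAddGroup.map _ _ yW (by
        intro w hw
        rw [AddSubgroup.mem_comap, AddSubgroup.mem_addSubgroupOf]
        have h1 := AddSubgroup.mem_addSubgroupOf.1 hw
        show y • (w : U) ∈ Z
        rw [hyZ _ h1]; exact h1)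
    have key : ∀ θ : TH hQW hQZ, θ.1.comp yW ∈ TH hQW hQZ := by
      rintro ⟨_, t, rfl⟩
      refine ⟨⟨y⁻¹ * t * y, hyQ t t.2⟩, ?_⟩
      ext w
      show (y⁻¹ * (t : Y) * y) • (w : U) - w = (t : Y) • (y • (w : U)) - y • (w : U)
      have h1 := hyZ _ (hQW t t.2 _ (hyW w w.2))
      have h2 : y⁻¹ • ((t : Y) • y • (w : U) - y • (w : U)) = (t : Y) • y • (w : U) - y • (w : U) := by
        rw [inv_smul_eq_iff, h1]
      rw [← h2, smul_sub, inv_smul_smul, mul_smul, mul_smul]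
    let g : TH hQW hQZ →+ TH hQW hQZ :=
      { toFun := fun θ => ⟨θ.1.comp yW, key θ⟩
        map_zero' := by
          apply Subtype.ext
          ext w
          rfl
        map_add' := fun θ θ' => by
          apply Subtype.ext
          ext w
          rfl }
    have hfg : ∀ w θ, bb hQW hQZ (f w) θ = bb hQW hQZ w (g θ) := by
      intro w θ
      induction w using QuotientAddGroup.induction_on with
      | H w => rfl
    have h1 := hP f g hfg _ hvP
    exact mem_up.2 ⟨hyW v hvW, h1⟩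
  · rintro _ _ ⟨P', hP', rfl⟩ ⟨P, hP, rfl⟩ hlt hmax
    have hlt' : P' < P := lt_of_le_of_ne (up_le_up.1 hlt.le) fun h => hlt.ne (congrArg up h)
    have hTH := card_TH hQW hQZ
    have hW : Nat.card W = Nat.card (W ⧸ Z.addSubgroupOf W) * Nat.card Z := by
      have h1 := card_up hZW (⊤ : AddSubgroup (W ⧸ Z.addSubgroupOf W))
      rw [up_top, card_top] at h1
      exact h1
    have h := ring_trick (bb hQW hQZ) (fun w => by
        induction w using QuotientAddGroup.induction_on with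
        | H w =>
          have : w + w = 0 := Subtype.ext (two w)
          rw [← QuotientAddGroup.mk_add, this]; rfl)
      (fun θ => by
        apply Subtype.ext
        ext w
        show ((θ.1 w : Z) : U) + θ.1 w = 0
        exact two _)
      (fun w hw => by
        induction w using QuotientAddGroup.induction_on with
        | H w =>
          refine (QuotientAddGroup.eq_zero_iff _).2 (AddSubgroup.mem_addSubgroupOf.2 (hL w w.2 fun t ht => ?_))
          have h1 := hw ⟨tau hQW ⟨t, ht⟩, ⟨⟨t, ht⟩, rfl⟩⟩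
          have h2 : t • (w : U) - w = 0 := congrArg Subtype.val h1
          exact sub_eq_zero.1 h2)
      (fun θ hθ => by
        apply Subtype.ext
        ext w
        exact congrArg Subtype.val (hθ (QuotientAddGroup.mk w)))
      (fun E hE => by
        set B := pre hQW hQZ E with hB
        have hBQ : B ≤ Q := pre_le hQW hQZ E
        have hBc : ¬ B ≤ cf Y W := by
          intro h1
          apply hE
          rw [AddSubgroup.eq_bot_iff_forall]
          rintro ⟨_, t, rfl⟩ ht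
          have h2 : (t : Y) ∈ B := (mem_pre hQW hQZ).2 ⟨t.2, ht⟩
          apply Subtype.ext
          show tau hQW t = 0
          ext w
          show (t : Y) • (w : U) - w = 0
          rw [h1 h2 w w.2, sub_self]
        have h1 := nf B hBQ hBc
        have h2 : Nat.card B = Nat.card E * Nat.card ↥(Q ⊓ cf Y W) := card_pre hQW hQZ E
        have h3 : B ⊓ cf Y W = Q ⊓ cf Y W := by
          apply le_antisymm (inf_le_inf_right _ hBQ)
          rintro t ⟨ht, htc⟩
          refine ⟨(mem_pre hQW hQZ).2 ⟨ht, ?_⟩, htc⟩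
          have : (⟨tau hQW ⟨t, ht⟩, ⟨⟨t, ht⟩, rfl⟩⟩ : TH hQW hQZ) = 0 := by
            apply Subtype.ext
            show tau hQW ⟨t, ht⟩ = 0
            ext w
            show t • (w : U) - w = 0
            rw [htc w w.2, sub_self]
          rw [this]; exact E.zero_mem
        have h4 : W ⊓ fx U B = up (ann (bb hQW hQZ) E) := by
          ext u
          rw [mem_up]
          constructor
          · rintro ⟨hu, huB⟩
            refine ⟨hu, ?_⟩
            rintro ⟨_, t, rfl⟩ ht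
            apply Subtype.ext
            show (t : Y) • u - u = 0
            rw [huB t ((mem_pre hQW hQZ).2 ⟨t.2, ht⟩), sub_self]
          · rintro ⟨hu, h5⟩
            refine ⟨hu, fun t ht => ?_⟩
            obtain ⟨h6, h7⟩ := (mem_pre hQW hQZ).1 ht
            have h8 := h5 _ h7
            have h9 : t • u - u = 0 := congrArg Subtype.val h8
            exact sub_eq_zero.1 h9
        rw [h4, card_up hZW, h3, h2, hW] at h1
        refine Nat.le_of_mul_le_mul_right ?_ (Nat.mul_pos pQ pZ)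
        calc 2 * (Nat.card E * Nat.card (ann (bb hQW hQZ) E)) * (Nat.card ↥(Q ⊓ cf Y W) * Nat.card Z)
            = 2 * (Nat.card E * Nat.card ↥(Q ⊓ cf Y W) * (Nat.card (ann (bb hQW hQZ) E) * Nat.card Z)) := by ring
          _ ≤ _ := h1
          _ = _ := by ring)
      hP hP' hlt' (fun R hR h1 h2 => by
        rcases hmax (up R) ⟨R, hR, rfl⟩ (up_le_up.2 h1) (up_le_up.2 h2) with h3 | h3
        · exact Or.inl (up_inj h3)
        · exact Or.inr (up_inj h3))
    rw [card_up hZW, card_up hZW, hTH, hW]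
    calc Nat.card P * Nat.card Z * (Nat.card (TH hQW hQZ) * Nat.card ↥(Q ⊓ cf Y W) * Nat.card Z)
        = (Nat.card P * Nat.card (TH hQW hQZ)) * (Nat.card Z * (Nat.card ↥(Q ⊓ cf Y W) * Nat.card Z)) := by ring
      _ ≤ (Nat.card P' * Nat.card (W ⧸ Z.addSubgroupOf W)) * (Nat.card Z * (Nat.card ↥(Q ⊓ cf Y W) * Nat.card Z)) :=
        Nat.mul_le_mul_right _ h
      _ = _ := by ring

end Cfsg.Agent.Omega.NO3b.TheoremL.RingRel
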