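import Cfsg.Agent.Omega.NO3b.Exit.BO
import Cfsg.Agent.Omega.MinFF.FFStep
import Cfsg.Agent.Omega.FF.SpreadEnd

/-!
# THEOREM L (#18749, helper344), part 2: a TI group `A` acting quadratically

`TI A M`, `Y` faithful on the elementary abelian 2-group `U`, `A` quadratic, `Z = C_U(Y)`, `C = C_U(A)`, `O = O₂(Y)`,
`D = ⟨C^Y⟩`.  For `g ∉ M` : `C ∩ C^g = Z`, `D = C C^g`, `A ∩ M^g ≤ O`; `a ∈ A - O`, `v ∈ D`, `[v, a] ∈ Z` imply `v ∈ C`.
`Sec P` : `Z ≤ P ≤ D` is `Y`-invariant.  `Sec.card` : `|P| |Z| = |P ∩ C|²`;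
`Sec.index` : `P' < P` implies `|A : A ∩ O| ≤ |P ∩ C : P' ∩ C|`.
-/

set_option autoImplicit false
set_option linter.unusedSectionVars false

namespace Cfsg.Agent.Omega.NO3b.TheoremL.Act

open Cfsg.Agent.Omega.FF.Basic (fx mem_fx fx_anti card_sup_inf card_le eq_of_card_le card_fib EA)
open Cfsg.Agent.Omega.NO3b.Exit.TT (cf mem_cf nf mem_nf mem_smul smul_mem' nf_smul le_cf card_smul')
open Cfsg.Agent.Omega.MinFF (TI)
open Cfsg (pCore)
open scoped Pointwise

section gen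

variable {U : Type*} [AddCommGroup U] [Finite U]

/-- counting by fibres -/
theorem add_fib (f : U →+ U) {P K T Z : AddSubgroup U} (hZT : Z ≤ T) (hf : ∀ v ∈ P, f v ∈ T)
    (hK : ∀ v ∈ P, f v ∈ Z → v ∈ K) : Nat.card P * Nat.card Z ≤ Nat.card K * Nat.card T := by
  classical
  let φ : P →+ T ⧸ Z.addSubgroupOf T :=
    (QuotientAddGroup.mk' (Z.addSubgroupOf T)).comp
      { toFun := fun v : P => (⟨f (v : U), hf v v.2⟩ : T)
        map_zero' := Subtype.ext (map_zero f)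
        map_add' := fun v w => Subtype.ext (map_add f (v : U) w) }
  have h1 : Nat.card P = Nat.card φ.ker * Nat.card φ.range := by
    rw [← AddSubgroup.index_ker]
    exact φ.ker.card_mul_index.symm
  have h2 : Nat.card φ.range ≤ Nat.card (T ⧸ Z.addSubgroupOf T) :=
    Nat.card_le_card_of_injective (fun x => (x : T ⧸ Z.addSubgroupOf T)) Subtype.coe_injective
  have h3 : Nat.card (T ⧸ Z.addSubgroupOf T) * Nat.card Z = Nat.card T := by
    have h4 := AddSubgroup.card_eq_card_quotient_mul_card_addSubgroup (Z.addSubgroupOf T)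
    rw [h4, Nat.card_congr (AddSubgroup.addSubgroupOfEquivOfLe hZT).toEquiv]
  have h4 : Nat.card φ.ker ≤ Nat.card K := by
    refine Nat.card_le_card_of_injective (fun x : φ.ker => (⟨x.1.1, hK _ x.1.2 ?_⟩ : K)) ?_
    · have h5 : φ x.1 = 0 := x.2
      have h6 := (QuotientAddGroup.eq_zero_iff _).1 h5
      exact AddSubgroup.mem_addSubgroupOf.1 h6
    · intro x y hxy
      have h6 : ((x : P) : U) = ((y : P) : U) := congrArg (fun k : K => (k : U)) hxy
      exact Subtype.ext (Subtype.ext h6)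
  calc Nat.card P * Nat.card Z = Nat.card φ.ker * Nat.card φ.range * Nat.card Z := by rw [h1]
    _ ≤ Nat.card K * Nat.card (T ⧸ Z.addSubgroupOf T) * Nat.card Z :=
      Nat.mul_le_mul_right _ (Nat.mul_le_mul h4 h2)
    _ = Nat.card K * Nat.card T := by rw [mul_assoc, h3]

end gen

variable {Y : Type*} [Group Y] {U : Type*} [AddCommGroup U] [DistribMulAction Y U]

theorem two_smul_sub (two : ∀ u : U, u + u = 0) (u v : U) : u - v = u + v := by
  rw [sub_eq_add_neg, neg_eq_of_add_eq_zero_left (two v)]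

/-- `TI A M`, `A` quadratic -/
structure Q (U : Type*) [AddCommGroup U] [DistribMulAction Y U] (A M : Subgroup Y) : Prop where
  two : ∀ u : U, u + u = 0
  faith : ∀ y : Y, (∀ u : U, y • u = u) → y = 1
  ti : TI A M
  quad : ∀ a ∈ A, ∀ b ∈ A, ∀ u : U, b • (a • u - u) = a • u - u

/-- `⟨C_U(A)^Y⟩` -/
def D (U : Type*) [AddCommGroup U] [DistribMulAction Y U] (A : Subgroup Y) : AddSubgroup U := ⨆ k : Y, k • fx U A

namespace Q

variable {A M : Subgroup Y} (h : Q U A M)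
include h

theorem inf_le {g : Y} (hg : g ∉ M) {v : U} (hv : v ∈ fx U A) (hv' : g⁻¹ • v ∈ fx U A) : v ∈ fx U (⊤ : Subgroup Y) := by
  have h1 : A ⊔ MulAut.conj g • A ≤ MulAction.stabilizer Y v := by
    refine sup_le (fun a ha => hv a ha) fun a ha => ?_
    have h2 := hv' _ (MinFF.mem_cj.1 ha)
    rw [MulAction.mem_stabilizer_iff]
    have e : a • v = g • (g⁻¹ * a * g) • g⁻¹ • v := by
      rw [smul_smul, smul_smul]; congr 1; group
    rw [e, h2, smul_inv_smul]
  rw [h.ti.sup_eq_top hg] at h1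
  intro y _
  exact h1 (Subgroup.mem_top y)

theorem inf_le' {g : Y} (hg : g ∉ M) : fx U A ⊓ g • fx U A ≤ fx U (⊤ : Subgroup Y) :=
  fun _ hv => h.inf_le hg hv.1 (mem_smul.1 hv.2)

omit h in
theorem Z_le (B : Subgroup Y) : fx U (⊤ : Subgroup Y) ≤ fx U B := fx_anti le_top

omit h in
theorem Z_smul {z : U} (hz : z ∈ fx U (⊤ : Subgroup Y)) (y : Y) : y • z = z := hz y (Subgroup.mem_top y)

/-- `A` is quadratic in the multiplicative notation -/
theorem quad' : ∀ a ∈ A, ∀ b ∈ A, ∀ u : U, b • (a • u + u) = a • u + u := by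
  intro a ha b hb u
  have := h.quad a ha b hb u
  rwa [two_smul_sub h.two] at this

theorem comm_mem {g : Y} (hg : g ∉ M) (y : Y) (v : U) : y • v - v ∈ fx U A ⊔ g • fx U A := by
  let K : Subgroup Y :=
    { carrier := {y | ∀ v : U, y • v - v ∈ fx U A ⊔ g • fx U A}
      mul_mem' := by
        intro x y hx hy v
        have e : (x * y) • v - v = (x • (y • v) - y • v) + (y • v - v) := by rw [mul_smul]; abel
        rw [e]; exact add_mem (hx _) (hy _)
      one_mem' := by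
        intro v
        rw [one_smul, sub_self]; exact zero_mem _
      inv_mem' := by
        intro x hx v
        have e : x⁻¹ • v - v = -(x • (x⁻¹ • v) - x⁻¹ • v) := by rw [smul_inv_smul]; abel
        rw [e]; exact neg_mem (hx _) }
  have h1 : A ≤ K := fun a ha v => AddSubgroup.mem_sup_left (fun b hb => h.quad a ha b hb v)
  have h2 : MulAut.conj g • A ≤ K := by
    intro a ha v
    apply AddSubgroup.mem_sup_right
    rw [mem_smul]
    have h3 : g⁻¹ * a * g ∈ A := MinFF.mem_cj.1 ha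
    have e : g⁻¹ • (a • v - v) = (g⁻¹ * a * g) • (g⁻¹ • v) - g⁻¹ • v := by
      rw [smul_sub, smul_smul, smul_smul, mul_assoc, mul_inv_cancel, mul_one]
    rw [e]
    exact fun b hb => h.quad _ h3 b hb _
  have h3 := sup_le h1 h2
  rw [h.ti.sup_eq_top hg] at h3
  exact h3 (Subgroup.mem_top y) v

theorem D_eq {g : Y} (hg : g ∉ M) : D U A = fx U A ⊔ g • fx U A := by
  apply le_antisymm
  · refine iSup_le fun k => ?_
    intro v hv
    rw [mem_smul] at hv
    have e : v = (k • (k⁻¹ • v) - k⁻¹ • v) + k⁻¹ • v := by rw [smul_inv_smul]; abel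
    rw [e]
    exact add_mem (h.comm_mem hg _ _) (AddSubgroup.mem_sup_left hv)
  · refine sup_le ?_ (le_iSup (fun k : Y => k • fx U A) g)
    have := le_iSup (fun k : Y => k • fx U A) (1 : Y)
    rwa [one_smul] at this

omit h in
theorem C_le_D : fx U A ≤ D U A := by
  have := le_iSup (fun k : Y => k • fx U A) (1 : Y)
  rwa [one_smul] at this

omit h in
theorem smul_C_le_D (g : Y) : g • fx U A ≤ D U A := le_iSup (fun k : Y => k • fx U A) g

theorem comm_D (y : Y) (v : U) : y • v - v ∈ D U A := by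
  obtain ⟨g, hg⟩ := h.ti.exists_not_mem
  rw [h.D_eq hg]; exact h.comm_mem hg y v

/-- (2) of the `L`-lemma -/
theorem mem_of_comm {g b : Y} {v : U} (hv : g⁻¹ • v ∈ fx U A) (hvZ : v ∉ fx U (⊤ : Subgroup Y))
    (hb : b • v - v ∈ fx U (⊤ : Subgroup Y)) : b ∈ MulAut.conj g • M := by
  let _ : MulDistribMulAction Y (Multiplicative U) := FF.SpreadEnd.mulAct Y U
  refine h.ti.mem_of_d_mem (V := Multiplicative U) (fun v => h.two v.toAdd) (v := Multiplicative.ofAdd v)
    (MinFF.mem_cv_cj.2 fun a ha => hv a ha) (fun hcon => hvZ fun y _ => hcon y trivial) ?_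
  intro y _
  show y • (b • v + v) = b • v + v
  rw [← two_smul_sub h.two]
  exact hb y (Subgroup.mem_top y)

variable [Finite Y]

theorem core_le : pCore 2 Y ≤ M := by
  have hO : (pCore 2 Y).Normal := Lib.Cores.pCore_normal 2
  obtain ⟨S, hS⟩ := (Lib.Cores.pCore_isPGroup (G := Y) 2).exists_le_sylow
  have hA : ∃ S : Sylow 2 Y, A ≤ S := by
    have hA2 : IsPGroup 2 A := by
      intro a
      refine ⟨1, Subtype.ext ?_⟩
      have h1 : (a : Y) * a = 1 := by
        apply h.faith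
        intro u
        have h2 := h.quad a a.2 a a.2 u
        have e : ((a : Y) * a) • u = (a : Y) • ((a : Y) • u - u) + (a : Y) • u := by
          rw [mul_smul, smul_sub]; abel
        rw [e, h2]
        have e2 : (a : Y) • u - u + (a : Y) • u = ((a : Y) • u + (a : Y) • u) - u := by abel
        rw [e2, h.two, zero_sub]
        exact neg_eq_of_add_eq_zero_left (h.two u)
      simpa [pow_two] using h1
    exact hA2.exists_le_sylow
  obtain ⟨S, hS⟩ := hA
  exact (Lib.Cores.pCore_le_sylow S).trans (h.ti.sylow_le hS)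

theorem isPGroup_A : IsPGroup 2 A := by
  intro a
  refine ⟨1, Subtype.ext ?_⟩
  have h1 : (a : Y) * a = 1 := by
    apply h.faith
    intro u
    have h2 := h.quad a a.2 a a.2 u
    have e : ((a : Y) * a) • u = (a : Y) • ((a : Y) • u - u) + (a : Y) • u := by
      rw [mul_smul, smul_sub]; abel
    rw [e, h2]
    have e2 : (a : Y) • u - u + (a : Y) • u = ((a : Y) • u + (a : Y) • u) - u := by abel
    rw [e2, h.two, zero_sub]
    exact neg_eq_of_add_eq_zero_left (h.two u)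
  simpa [pow_two] using h1

/-- `a ∈ A - O`, `v ∈ D`, `[v, a] ∈ Z` imply `v ∈ C` -/
theorem mem_C {a : Y} (ha : a ∈ A) (haO : a ∉ pCore 2 Y) {v : U} (hv : v ∈ D U A)
    (hd : a • v - v ∈ fx U (⊤ : Subgroup Y)) : v ∈ fx U A := by
  obtain ⟨g, hg, hga⟩ := h.ti.exists_good h.isPGroup_A ha haO
  rw [h.D_eq hg] at hv
  obtain ⟨v₁, h₁, v₂, h₂, rfl⟩ := AddSubgroup.mem_sup.1 hv
  rw [mem_smul] at h₂
  have e : a • (v₁ + v₂) - (v₁ + v₂) = a • v₂ - v₂ := by
    rw [smul_add, h₁ a ha]; abel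
  rw [e] at hd
  have h3 : v₂ ∈ fx U (⊤ : Subgroup Y) := by
    by_contra hne
    exact hga (h.mem_of_comm h₂ hne hd)
  exact add_mem h₁ (Z_le A h3)

variable [Finite U]

theorem inf_core {g : Y} (hg : g ∉ M) : A ⊓ MulAut.conj g • M ≤ pCore 2 Y := by
  let _ : MulDistribMulAction Y (Multiplicative U) := FF.SpreadEnd.mulAct Y U
  have hfin : Finite (Multiplicative U) := inferInstanceAs (Finite U)
  exact h.ti.inf_le_pCore (V := Multiplicative U) (fun v => h.two v.toAdd)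
    (fun x hx => h.faith x fun u => congrArg Multiplicative.toAdd (hx (Multiplicative.ofAdd u)))
    (fun a ha b hb v => congrArg Multiplicative.ofAdd (h.quad' a ha b hb v.toAdd)) hg

end Q

/-- `Z ≤ P ≤ D` is `Y`-invariant -/
structure Sec (U : Type*) [AddCommGroup U] [DistribMulAction Y U] (A : Subgroup Y) (P : AddSubgroup U) : Prop where
  Z_le : fx U (⊤ : Subgroup Y) ≤ P
  le_D : P ≤ D U A
  inv : ∀ (y : Y), ∀ v ∈ P, y • v ∈ P

namespace Sec

variable {A M : Subgroup Y} {P P' : AddSubgroup U} [Finite Y] [Finite U] (h : Q U A M) (s : Sec U A P)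
include h s

omit [Finite Y] in
theorem smul_inf_le {g : Y} : g • (P ⊓ fx U A) ≤ P := by
  intro v hv
  rw [mem_smul] at hv
  have := s.inv g _ hv.1
  rwa [smul_inv_smul] at this

omit [Finite Y] in
theorem inf_smul {g : Y} (hg : g ∉ M) : (P ⊓ fx U A) ⊓ g • (P ⊓ fx U A) = fx U (⊤ : Subgroup Y) := by
  apply le_antisymm
  · intro v hv
    exact h.inf_le hg hv.1.2 (mem_smul.1 hv.2).2
  · intro v hv
    have h1 : v ∈ P ⊓ fx U A := ⟨s.Z_le hv, Q.Z_le A hv⟩
    refine AddSubgroup.mem_inf.2 ⟨h1, mem_smul.2 ?_⟩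
    rw [Q.Z_smul hv]
    exact h1

theorem card_le : Nat.card P * Nat.card (fx U (⊤ : Subgroup Y)) ≤ Nat.card ↥(P ⊓ fx U A) * Nat.card ↥(P ⊓ fx U A) := by
  obtain ⟨a, ha, haO⟩ := SetLike.not_le_iff_exists.1 h.ti.not_le_pCore
  let f : U →+ U :=
    { toFun := fun v => a • v - v
      map_zero' := by rw [smul_zero, sub_zero]
      map_add' := fun v w => by rw [smul_add]; abel }
  refine add_fib f (P := P) (K := P ⊓ fx U A) (T := P ⊓ fx U A) (le_inf s.Z_le (Q.Z_le A)) ?_ ?_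
  · intro v hv
    exact AddSubgroup.mem_inf.2 ⟨sub_mem (s.inv a v hv) hv, fun b hb => h.quad a ha b hb v⟩
  · intro v hv hz
    exact ⟨hv, h.mem_C ha haO (s.le_D hv) hz⟩

theorem card : Nat.card P * Nat.card (fx U (⊤ : Subgroup Y)) = Nat.card ↥(P ⊓ fx U A) * Nat.card ↥(P ⊓ fx U A) := by
  apply le_antisymm (s.card_le h)
  obtain ⟨g, hg⟩ := h.ti.exists_not_mem
  have h1 := card_sup_inf (P ⊓ fx U A) (g • (P ⊓ fx U A))
  rw [s.inf_smul h hg, card_smul'] at h1
  rw [← h1]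
  exact Nat.mul_le_mul_right _ (FF.Basic.card_le (sup_le inf_le_left (s.smul_inf_le h)))

theorem sup_eq {g : Y} (hg : g ∉ M) : (P ⊓ fx U A) ⊔ g • (P ⊓ fx U A) = P := by
  refine eq_of_card_le (sup_le inf_le_left (s.smul_inf_le h)) ?_
  have h1 := card_sup_inf (P ⊓ fx U A) (g • (P ⊓ fx U A))
  rw [s.inf_smul h hg, card_smul'] at h1
  refine Nat.le_of_mul_le_mul_right ?_ (Nat.card_pos (α := fx U (⊤ : Subgroup Y)))
  rw [h1]; exact s.card_le h

/-- `[P ∩ C^g, a] Z = P ∩ C` for `a ∈ A - O` -/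
theorem surj {g : Y} (hg : g ∉ M) {a : Y} (ha : a ∈ A) (haO : a ∉ pCore 2 Y) {c : U} (hc : c ∈ P ⊓ fx U A) :
    ∃ v ∈ P, g⁻¹ • v ∈ fx U A ∧ (a • v - v) - c ∈ fx U (⊤ : Subgroup Y) := by
  let H : AddSubgroup U :=
    { carrier := {c | c ∈ P ⊓ fx U A ∧ ∃ v ∈ P, g⁻¹ • v ∈ fx U A ∧ (a • v - v) - c ∈ fx U (⊤ : Subgroup Y)}
      zero_mem' := ⟨zero_mem _, 0, zero_mem _, by rw [smul_zero]; exact zero_mem _, by
        rw [smul_zero, sub_zero, sub_zero]; exact zero_mem _⟩
      add_mem' := by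
        rintro c c' ⟨hc, v, hv, hvg, h1⟩ ⟨hc', v', hv', hvg', h1'⟩
        refine ⟨add_mem hc hc', v + v', add_mem hv hv', by rw [smul_add]; exact add_mem hvg hvg', ?_⟩
        have e : (a • (v + v') - (v + v')) - (c + c') = ((a • v - v) - c) + ((a • v' - v') - c') := by
          rw [smul_add]; abel
        rw [e]; exact add_mem h1 h1'
      neg_mem' := by
        rintro c ⟨hc, v, hv, hvg, h1⟩
        refine ⟨neg_mem hc, -v, neg_mem hv, by rw [smul_neg]; exact neg_mem hvg, ?_⟩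
        have e : (a • (-v) - (-v)) - (-c) = -((a • v - v) - c) := by rw [smul_neg]; abel
        rw [e]; exact neg_mem h1 }
  let f : U →+ U :=
    { toFun := fun v => a • v - v
      map_zero' := by rw [smul_zero, sub_zero]
      map_add' := fun v w => by rw [smul_add]; abel }
  have h1 := add_fib f (P := g • (P ⊓ fx U A)) (K := fx U (⊤ : Subgroup Y)) (T := H) (Z := fx U (⊤ : Subgroup Y))
    (by
      intro z hz
      refine ⟨⟨s.Z_le hz, Q.Z_le A hz⟩, 0, zero_mem _, by rw [smul_zero]; exact zero_mem _, ?_⟩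
      rw [smul_zero, sub_zero, zero_sub]; exact neg_mem hz)
    (by
      intro v hv
      have hvP := s.smul_inf_le h hv
      refine ⟨AddSubgroup.mem_inf.2 ⟨sub_mem (s.inv a v hvP) hvP, fun b hb => h.quad a ha b hb v⟩, v, hvP,
        (mem_smul.1 hv).2, ?_⟩
      show (a • v - v) - (a • v - v) ∈ _
      rw [sub_self]; exact zero_mem _)
    (by
      intro v hv hz
      have hvP := s.smul_inf_le h hv
      exact h.inf_le hg (h.mem_C ha haO (s.le_D hvP) hz) (mem_smul.1 hv).2)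
  rw [card_smul', mul_comm] at h1
  have h2 := Nat.le_of_mul_le_mul_left h1 Nat.card_pos
  have h3 : H = P ⊓ fx U A := eq_of_card_le (fun c hc => hc.1) h2
  rw [← h3] at hc
  exact hc.2

/-- `|A : A ∩ O| ≤ |P ∩ C : P' ∩ C|` -/
theorem fib (s' : Sec U A P') {g : Y} (hg : g ∉ M) {v : U} (hv : v ∈ P) (hvg : g⁻¹ • v ∈ fx U A)
    (hv' : v ∉ P') {H : AddSubgroup U} (hH : P' ⊓ fx U A ≤ H) (hf : ∀ a ∈ A, a • v - v ∈ H) :
    Nat.card A * Nat.card ↥(P' ⊓ fx U A) ≤ Nat.card ↥(A ⊓ pCore 2 Y) * Nat.card H := by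
  refine card_fib hH (fun a => a • v - v) hf ?_
  intro a ha b hb hab
  have hab' : (a • v - v) - (b • v - v) ∈ P' ⊓ fx U A := hab
  have ht : b⁻¹ * a ∈ A := A.mul_mem (A.inv_mem hb) ha
  refine ⟨ht, ?_⟩
  by_contra hO
  have e1 : (a • v - v) - (b • v - v) = a • v - b • v := by abel
  rw [e1] at hab'
  have h1 : (b⁻¹ * a) • v - v = a • v - b • v := by
    have h2 := hab'.2 _ (A.inv_mem hb)
    rw [smul_sub, inv_smul_smul, smul_smul] at h2
    exact h2
  rw [← h1] at hab'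
  obtain ⟨v', hv'P, hv'g, h3⟩ := s'.surj h hg ht hO hab'
  have h4 : (b⁻¹ * a) • (v' - v) - (v' - v) ∈ fx U (⊤ : Subgroup Y) := by
    have e : (b⁻¹ * a) • (v' - v) - (v' - v) = ((b⁻¹ * a) • v' - v') - ((b⁻¹ * a) • v - v) := by
      rw [smul_sub]; abel
    rw [e]; exact h3
  have h5 : v' - v ∈ fx U A := h.mem_C ht hO (sub_mem (s'.le_D hv'P) (s.le_D hv)) h4
  have h6 : v' - v ∈ fx U (⊤ : Subgroup Y) := h.inf_le hg h5 (by rw [smul_sub]; exact sub_mem hv'g hvg)
  apply hv'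
  have e : v = v' - (v' - v) := by abel
  rw [e]; exact sub_mem hv'P (s'.Z_le h6)

omit [Finite Y] in
theorem exists_smul (s' : Sec U A P') (hlt : P' < P) {g : Y} (hP : (P ⊓ fx U A) ⊔ g • (P ⊓ fx U A) = P) :
    ∃ v ∈ P, g⁻¹ • v ∈ fx U A ∧ v ∉ P' := by
  by_contra hcon
  push Not at hcon
  apply hlt.not_ge
  rw [← hP]
  have h1 : g • (P ⊓ fx U A) ≤ P' := fun v hv => hcon v (s.smul_inf_le h hv) (mem_smul.1 hv).2
  refine sup_le ?_ h1
  intro v hv
  have h2 := h1 (smul_mem' (x := g) hv)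
  have h3 := s'.inv g⁻¹ _ h2
  rwa [inv_smul_smul] at h3

theorem index (s' : Sec U A P') (hlt : P' < P) :
    Nat.card A * Nat.card ↥(P' ⊓ fx U A) ≤ Nat.card ↥(A ⊓ pCore 2 Y) * Nat.card ↥(P ⊓ fx U A) := by
  obtain ⟨g, hg⟩ := h.ti.exists_not_mem
  obtain ⟨v, hv, hvg, hv'⟩ := s.exists_smul h s' hlt (s.sup_eq h hg)
  refine s.fib h s' hg hv hvg hv' (inf_le_inf_right _ hlt.le) ?_
  intro a ha
  exact AddSubgroup.mem_inf.2 ⟨sub_mem (s.inv a v hv) hv, fun b hb => h.quad a ha b hb v⟩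

end Sec

end Cfsg.Agent.Omega.NO3b.TheoremL.Act
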