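import Cfsg.Agent.Omega.NO3b.TheoremL.Core1

/-!
# THEOREM L (#18749, helper344), part 4: simple sections and the irreducibility of `M` on `C_N(A)`

`Hyp.sections` : an inclusion-closed family `I` of `Y`-invariant subgroups between `Z` and `W` such that
`|P / P'| ≤ |A : A ∩ O|²` for all `I`-simple sections;
`Hyp.irr` : an `M`-invariant subgroup of `W ∩ C`, not in `Z`, has order at least `|A : A ∩ O|` modulo `Z`.
-/

set_option autoImplicit false
set_option linter.unusedSectionVars false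

namespace Cfsg.Agent.Omega.NO3b.TheoremL.Core2

open Cfsg.Agent.Omega.FF.Basic (fx mem_fx fx_anti card_sup_inf card_le eq_of_card_le card_fib EA mm mm_bot cj mem_cj
  mem_cj_of isPGroup_cj card_cj smul_mem_fx_cj mem_fx_cj card_smul fx_bot)
open Cfsg.Agent.Omega.NO3b.Exit.TT (cf mem_cf nf mem_nf mem_smul smul_mem' nf_smul le_cf card_smul' cf_conj nf_conj
  quad' card_pow two_mul_le_of_pow mm_pow)
open Cfsg.Agent.Omega.NO3b.TheoremL.Act
open Cfsg.Agent.Omega.NO3b.TheoremL.Core1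
open Cfsg.Agent.Omega.NO3b.TheoremL.RingRel (ring_rel)
open Cfsg.Agent.Omega.MinFF (TI)
open Cfsg (pCore)
open scoped Pointwise

variable {Y : Type*} [Group Y] [Finite Y] {U : Type*} [AddCommGroup U] [Finite U] [DistribMulAction Y U]
  {A M : Subgroup Y} {V : AddSubgroup U}

/-- a family of `Y`-invariant subgroups with small simple sections -/
structure Fam (A : Subgroup Y) (V : AddSubgroup U) (I : AddSubgroup U → Prop) : Prop where
  top : I (W Y V)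
  bot : I (fx U (⊤ : Subgroup Y))
  sec : ∀ P, I P → Sec U A P
  le : ∀ P, I P → P ≤ W Y V
  small : ∀ P' P, I P' → I P → P' < P → (∀ R, I R → P' ≤ R → R ≤ P → R = P' ∨ R = P) →
    Nat.card P * (Nat.card ↥(A ⊓ pCore 2 Y) * Nat.card ↥(A ⊓ pCore 2 Y)) ≤
      Nat.card P' * (Nat.card A * Nat.card A)

/-- `|W : C_W(A)| |C_A(W)| ≤ |A|` -/
theorem w_le (h : Hyp A M V) : Nat.card (W Y V) * (Nat.card ↥(A ⊓ cf Y (W Y V)) * Nat.card ↥(A ⊓ cf Y (W Y V))) ≤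
    Nat.card A * Nat.card A * Nat.card (fx U (⊤ : Subgroup Y)) := by
  have h1 := h.mm_le (inf_le_left : A ⊓ cf Y (W Y V) ≤ A)
  have h2 : W Y V ⊔ fx U A ≤ fx U (A ⊓ cf Y (W Y V)) := sup_le (le_cf.1 inf_le_right) (fx_anti inf_le_left)
  have h3 := card_sup_inf (W Y V) (fx U A)
  have h4 := card_le h2
  have h5 := h.secW.card h.toQ
  rw [mm, mm] at h1
  have pC : 0 < Nat.card (fx U A) := Nat.card_pos
  have pW : 0 < Nat.card (W Y V) := Nat.card_pos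
  set s := Nat.card ↥(A ⊓ cf Y (W Y V))
  set a := Nat.card A
  set c := Nat.card (fx U A)
  set w := Nat.card (W Y V)
  set wc := Nat.card ↥(W Y V ⊓ fx U A)
  set z := Nat.card (fx U (⊤ : Subgroup Y))
  have h6 : w * s ≤ a * wc := by
    refine Nat.le_of_mul_le_mul_right ?_ pC
    calc w * s * c = s * (w * c) := by ring
      _ = s * (Nat.card ↥(W Y V ⊔ fx U A) * wc) := by rw [h3]
      _ = s * Nat.card ↥(W Y V ⊔ fx U A) * wc := by ring
      _ ≤ s * Nat.card (fx U (A ⊓ cf Y (W Y V))) * wc := Nat.mul_le_mul_right _ (Nat.mul_le_mul_left _ h4)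
      _ ≤ a * c * wc := Nat.mul_le_mul_right _ h1
      _ = a * wc * c := by ring
  refine Nat.le_of_mul_le_mul_left ?_ pW
  calc w * (w * (s * s)) = (w * s) * (w * s) := by ring
    _ ≤ (a * wc) * (a * wc) := Nat.mul_le_mul h6 h6
    _ = a * a * (wc * wc) := by ring
    _ = a * a * (w * z) := by rw [h5]
    _ = w * (a * a * z) := by ring

/-- the hypotheses of `ring_rel` for `W` -/
theorem ring_W (h : Hyp A M V) (hne : A ⊓ pCore 2 Y ≠ ⊥) :
    ∃ I : AddSubgroup U → Prop, I (W Y V) ∧ I (fx U (⊤ : Subgroup Y)) ∧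
      (∀ P, I P → fx U (⊤ : Subgroup Y) ≤ P ∧ P ≤ W Y V) ∧ (∀ P, I P → ∀ y : Y, ∀ v ∈ P, y • v ∈ P) ∧
      (∀ P' P, I P' → I P → P' < P → (∀ R, I R → P' ≤ R → R ≤ P → R = P' ∨ R = P) →
        Nat.card P * (Nat.card (QQ A) * Nat.card (fx U (⊤ : Subgroup Y))) ≤
          Nat.card P' * (Nat.card (W Y V) * Nat.card ↥(QQ A ⊓ cf Y (W Y V)))) := by
  obtain ⟨I, h1, h2, h3, h4, h5⟩ := ring_rel (W := W Y V) (Z := fx U (⊤ : Subgroup Y)) (Q := QQ A) h.two (Z_le_W V)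
    (fun t ht w hw => h.comm_QQ ht hw) (fun t _ z hz => Q.Z_smul hz t) (fun w hw hf => h.inf_fx_le hne ⟨hw, hf⟩)
    (fun B hB hBc => h.nfW _ B le_rfl hB hBc)
  exact ⟨I, h1, h2, h3, fun P hP y v hv => h4 P hP y (fun w hw => W_inv V y hw) (fun z hz => Q.Z_smul hz y)
    (fun t ht => Hyp.QQ_conj ht y) v hv, h5⟩

/-- the family `I` -/
theorem sections (h : Hyp A M V) : ∃ I : AddSubgroup U → Prop, Fam A V I := by
  have hw := w_le h
  have pZ : 0 < Nat.card (fx U (⊤ : Subgroup Y)) := Nat.card_pos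
  by_cases hne : A ⊓ pCore 2 Y = ⊥
  · refine ⟨fun P => Sec U A P ∧ P ≤ W Y V, ⟨h.secW, le_rfl⟩, ⟨h.secZ, Z_le_W V⟩, fun P hP => hP.1, fun P hP => hP.2, ?_⟩
    intro P' P hP' hP _ _
    rw [hne, Subgroup.card_bot, one_mul, mul_one]
    have h1 : 1 ≤ Nat.card ↥(A ⊓ cf Y (W Y V)) := Nat.card_pos
    calc Nat.card P ≤ Nat.card (W Y V) := card_le hP.2
      _ = Nat.card (W Y V) * (1 * 1) := by ring
      _ ≤ Nat.card (W Y V) * (Nat.card ↥(A ⊓ cf Y (W Y V)) * Nat.card ↥(A ⊓ cf Y (W Y V))) :=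
        Nat.mul_le_mul_left _ (Nat.mul_le_mul h1 h1)
      _ ≤ Nat.card A * Nat.card A * Nat.card (fx U (⊤ : Subgroup Y)) := hw
      _ ≤ Nat.card A * Nat.card A * Nat.card P' := Nat.mul_le_mul_left _ (card_le hP'.1.Z_le)
      _ = _ := by ring
  · obtain ⟨I, h1, h2, h3, h4, h5⟩ := ring_W h hne
    refine ⟨I, h1, h2, fun P hP => ⟨(h3 P hP).1, (h3 P hP).2.trans h.secW.le_D, h4 P hP⟩, fun P hP => (h3 P hP).2, ?_⟩
    intro P' P hP' hP hlt hmax
    have h6 := h5 P' P hP' hP hlt hmax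
    have h7 := h.theta (B := A ⊓ pCore 2 Y) Hyp.A₁_le fun b hb a ha => h.ea.comm ha hb.1
    have h8 : Nat.card ↥(A ⊓ pCore 2 Y ⊓ cf Y (W Y V)) ≤ Nat.card ↥(A ⊓ cf Y (W Y V)) :=
      Subgroup.card_le_of_le (inf_le_inf_right _ inf_le_left)
    have pK : 0 < Nat.card ↥(QQ A ⊓ cf Y (W Y V)) := Nat.card_pos
    set a := Nat.card A
    set a1 := Nat.card ↥(A ⊓ pCore 2 Y)
    set s := Nat.card ↥(A ⊓ cf Y (W Y V))
    set s1 := Nat.card ↥(A ⊓ pCore 2 Y ⊓ cf Y (W Y V))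
    set k := Nat.card ↥(QQ A ⊓ cf Y (W Y V))
    set q := Nat.card (QQ A)
    set z := Nat.card (fx U (⊤ : Subgroup Y))
    set w := Nat.card (W Y V)
    set p := Nat.card P
    set p' := Nat.card P'
    have h9 : a1 * a1 * k ≤ q * (s * s) := h7.trans (Nat.mul_le_mul_left _ (Nat.mul_le_mul h8 h8))
    refine Nat.le_of_mul_le_mul_right ?_ (Nat.mul_pos pK pZ)
    calc p * (a1 * a1) * (k * z) = (p * z) * (a1 * a1 * k) := by ring
      _ ≤ (p * z) * (q * (s * s)) := Nat.mul_le_mul_left _ h9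
      _ = (p * (q * z)) * (s * s) := by ring
      _ ≤ (p' * (w * k)) * (s * s) := Nat.mul_le_mul_right _ h6
      _ = (p' * k) * (w * (s * s)) := by ring
      _ ≤ (p' * k) * (a * a * z) := Nat.mul_le_mul_left _ hw
      _ = p' * (a * a) * (k * z) := by ring

theorem le_of_sq {a b : ℕ} (h : a * a ≤ b * b) : a ≤ b := by
  by_contra hc
  push Not at hc
  have := Nat.mul_self_lt_mul_self hc
  omega

/-- **`M` is irreducible on `C_N(A)`** -/
theorem irr (h : Hyp A M V) {B₀ : AddSubgroup U} (hM : ∀ m ∈ M, ∀ v ∈ B₀, m • v ∈ B₀)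
    (hZ : fx U (⊤ : Subgroup Y) ≤ B₀) (hC : B₀ ≤ fx U A) (hW : B₀ ≤ W Y V) (hne : ¬ B₀ ≤ fx U (⊤ : Subgroup Y)) :
    Nat.card A * Nat.card (fx U (⊤ : Subgroup Y)) ≤ Nat.card ↥(A ⊓ pCore 2 Y) * Nat.card B₀ := by
  classical
  obtain ⟨I, f⟩ := sections h
  -- `P`
  obtain ⟨P, ⟨hIP, hPne⟩, hPmin⟩ := Set.exists_min_image {P : AddSubgroup U | I P ∧ ¬ B₀ ⊓ P ≤ fx U (⊤ : Subgroup Y)}
    (fun P => Nat.card P) (Set.toFinite _) ⟨W Y V, f.top, by rwa [inf_eq_left.2 hW]⟩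
  have sP := f.sec P hIP
  have hltZ : fx U (⊤ : Subgroup Y) < P := lt_of_le_of_ne sP.Z_le fun h0 => hPne (by rw [← h0]; exact inf_le_right)
  obtain ⟨P', ⟨hIP', hlt⟩, hPmax⟩ := Set.exists_max_image {P' : AddSubgroup U | I P' ∧ P' < P}
    (fun P => Nat.card P) (Set.toFinite _) ⟨_, f.bot, hltZ⟩
  have sP' := f.sec P' hIP'
  have hinf : B₀ ⊓ P' ≤ fx U (⊤ : Subgroup Y) := by
    by_contra hcon
    have h1 := hPmin P' ⟨hIP', hcon⟩
    exact hlt.ne (eq_of_card_le hlt.le h1)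
  have hsm := f.small P' P hIP' hIP hlt fun R hR h1 h2 => by
    rcases h2.eq_or_lt with h3 | h3
    · exact Or.inr h3
    · exact Or.inl (eq_of_card_le h1 (hPmax R ⟨hR, h3⟩)).symm
  have pZ : 0 < Nat.card (fx U (⊤ : Subgroup Y)) := Nat.card_pos
  have pA1 : 0 < Nat.card ↥(A ⊓ pCore 2 Y) := Nat.card_pos
  have cP := sP.card h.toQ
  have cP' := sP'.card h.toQ
  -- `Y`-simple
  have simple : ∀ R : AddSubgroup U, Sec U A R → P' ≤ R → R ≤ P → R ≠ P' → R = P := by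
    intro R hR h1 h2 h3
    have h4 := hR.index h.toQ sP' (lt_of_le_of_ne h1 h3.symm)
    have cR := hR.card h.toQ
    refine eq_of_card_le h2 ?_
    refine Nat.le_of_mul_le_mul_right ?_ (Nat.mul_pos (Nat.mul_pos pA1 pA1) pZ)
    calc Nat.card P * (Nat.card ↥(A ⊓ pCore 2 Y) * Nat.card ↥(A ⊓ pCore 2 Y) * Nat.card (fx U (⊤ : Subgroup Y)))
        = Nat.card P * (Nat.card ↥(A ⊓ pCore 2 Y) * Nat.card ↥(A ⊓ pCore 2 Y)) *
          Nat.card (fx U (⊤ : Subgroup Y)) := by ring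
      _ ≤ Nat.card P' * (Nat.card A * Nat.card A) * Nat.card (fx U (⊤ : Subgroup Y)) := Nat.mul_le_mul_right _ hsm
      _ = Nat.card A * Nat.card A * (Nat.card P' * Nat.card (fx U (⊤ : Subgroup Y))) := by ring
      _ = (Nat.card A * Nat.card ↥(P' ⊓ fx U A)) * (Nat.card A * Nat.card ↥(P' ⊓ fx U A)) := by rw [cP']; ring
      _ ≤ (Nat.card ↥(A ⊓ pCore 2 Y) * Nat.card ↥(R ⊓ fx U A)) * (Nat.card ↥(A ⊓ pCore 2 Y) * Nat.card ↥(R ⊓ fx U A)) :=
        Nat.mul_le_mul h4 h4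
      _ = Nat.card ↥(A ⊓ pCore 2 Y) * Nat.card ↥(A ⊓ pCore 2 Y) *
          (Nat.card ↥(R ⊓ fx U A) * Nat.card ↥(R ⊓ fx U A)) := by ring
      _ = _ := by rw [← cR]; ring
  have hPC : Nat.card ↥(P ⊓ fx U A) * Nat.card ↥(A ⊓ pCore 2 Y) ≤ Nat.card ↥(P' ⊓ fx U A) * Nat.card A := by
    apply le_of_sq
    calc Nat.card ↥(P ⊓ fx U A) * Nat.card ↥(A ⊓ pCore 2 Y) * (Nat.card ↥(P ⊓ fx U A) * Nat.card ↥(A ⊓ pCore 2 Y))
        = (Nat.card ↥(P ⊓ fx U A) * Nat.card ↥(P ⊓ fx U A)) *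
          (Nat.card ↥(A ⊓ pCore 2 Y) * Nat.card ↥(A ⊓ pCore 2 Y)) := by ring
      _ = (Nat.card P * (Nat.card ↥(A ⊓ pCore 2 Y) * Nat.card ↥(A ⊓ pCore 2 Y))) *
          Nat.card (fx U (⊤ : Subgroup Y)) := by rw [← cP]; ring
      _ ≤ (Nat.card P' * (Nat.card A * Nat.card A)) * Nat.card (fx U (⊤ : Subgroup Y)) := Nat.mul_le_mul_right _ hsm
      _ = (Nat.card P' * Nat.card (fx U (⊤ : Subgroup Y))) * (Nat.card A * Nat.card A) := by ring
      _ = _ := by rw [cP']; ring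
  set B := B₀ ⊓ P with hB
  have hBM : ∀ m ∈ M, ∀ v ∈ B, m • v ∈ B := fun m hm v hv => ⟨hM m hm v hv.1, sP.inv m v hv.2⟩
  -- `[v, A] P' ≥ P ∩ C`
  have hsurj : ∀ g : Y, g ∉ M → ∀ c₂ ∈ B, c₂ ∉ P' → ∀ c ∈ P ⊓ fx U A, ∃ a ∈ A, (a • g • c₂ - g • c₂) - c ∈ P' := by
    intro g hg c₂ hc₂ hc₂' c hc
    set v := g • c₂ with hv
    have hvP : v ∈ P := sP.inv g _ hc₂.2
    have hvg : g⁻¹ • v ∈ fx U A := by rw [hv, inv_smul_smul]; exact hC hc₂.1
    have hvP' : v ∉ P' := fun h0 => hc₂' (by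
      have := sP'.inv g⁻¹ _ h0
      rwa [hv, inv_smul_smul] at this)
    have hadd : ∀ a ∈ A, ∀ b ∈ A, (a * b) • v - v = (a • v - v) + (b • v - v) := by
      intro a ha b hb
      have h1 := h.toQ.quad b hb a ha v
      rw [smul_sub] at h1
      rw [mul_smul]
      have e : a • b • v = b • v - v + a • v := by rw [← h1]; abel
      rw [e]; abel
    let H : AddSubgroup U :=
      { carrier := {c | c ∈ P ⊓ fx U A ∧ ∃ a ∈ A, (a • v - v) - c ∈ P'}
        zero_mem' := ⟨zero_mem _, 1, A.one_mem, by rw [one_smul, sub_self, sub_zero]; exact zero_mem _⟩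
        add_mem' := by
          rintro c c' ⟨h1, a, ha, h2⟩ ⟨h1', b, hb, h2'⟩
          refine ⟨add_mem h1 h1', a * b, A.mul_mem ha hb, ?_⟩
          rw [hadd a ha b hb]
          have e : (a • v - v) + (b • v - v) - (c + c') = ((a • v - v) - c) + ((b • v - v) - c') := by abel
          rw [e]; exact add_mem h2 h2'
        neg_mem' := by
          rintro c ⟨h1, a, ha, h2⟩
          refine ⟨neg_mem h1, a⁻¹, A.inv_mem ha, ?_⟩
          have h3 := hadd a⁻¹ (A.inv_mem ha) a ha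
          rw [inv_mul_cancel, one_smul, sub_self] at h3
          have e : (a⁻¹ • v - v) = -(a • v - v) := eq_neg_of_add_eq_zero_left h3.symm
          have e2 : (a⁻¹ • v - v) - (-c) = -((a • v - v) - c) := by rw [e]; abel
          rw [e2]; exact neg_mem h2 }
    have h1 := sP.fib h.toQ sP' hg hvP hvg hvP' (H := H) (by
        intro c hc
        refine ⟨⟨hlt.le hc.1, hc.2⟩, 1, A.one_mem, ?_⟩
        rw [one_smul, sub_self, zero_sub]
        exact neg_mem hc.1) (by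
        intro a ha
        refine ⟨AddSubgroup.mem_inf.2 ⟨sub_mem (sP.inv a v hvP) hvP, fun b hb => h.toQ.quad a ha b hb v⟩, a, ha, ?_⟩
        rw [sub_self]; exact zero_mem _)
    have h2 : H = P ⊓ fx U A := by
      refine eq_of_card_le (fun c hc => hc.1) ?_
      refine Nat.le_of_mul_le_mul_left ?_ pA1
      calc Nat.card ↥(A ⊓ pCore 2 Y) * Nat.card ↥(P ⊓ fx U A)
          = Nat.card ↥(P ⊓ fx U A) * Nat.card ↥(A ⊓ pCore 2 Y) := by ring
        _ ≤ Nat.card ↥(P' ⊓ fx U A) * Nat.card A := hPC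
        _ = Nat.card A * Nat.card ↥(P' ⊓ fx U A) := by ring
        _ ≤ _ := h1
    rw [← h2] at hc
    exact hc.2
  -- the union of the conjugates of `B` modulo `P'`
  let R : AddSubgroup U :=
    { carrier := {u | ∃ y : Y, ∃ c ∈ B, u - y • c ∈ P'}
      zero_mem' := ⟨1, 0, zero_mem _, by rw [smul_zero, sub_zero]; exact zero_mem _⟩
      neg_mem' := by
        rintro u ⟨y, c, hc, h1⟩
        refine ⟨y, -c, neg_mem hc, ?_⟩
        have e : -u - y • (-c) = -(u - y • c) := by rw [smul_neg]; abel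
        rw [e]; exact neg_mem h1
      add_mem' := by
        rintro u₁ u₂ ⟨y₁, c₁, hc₁, h₁⟩ ⟨y₂, c₂, hc₂, h₂⟩
        by_cases hP' : c₂ ∈ P'
        · refine ⟨y₁, c₁, hc₁, ?_⟩
          have e : u₁ + u₂ - y₁ • c₁ = (u₁ - y₁ • c₁) + (u₂ - y₂ • c₂) + y₂ • c₂ := by abel
          rw [e]; exact add_mem (add_mem h₁ h₂) (sP'.inv y₂ _ hP')
        · by_cases hm : y₁⁻¹ * y₂ ∈ M
          · refine ⟨y₁, c₁ + (y₁⁻¹ * y₂) • c₂, add_mem hc₁ (hBM _ hm _ hc₂), ?_⟩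
            have e : u₁ + u₂ - y₁ • (c₁ + (y₁⁻¹ * y₂) • c₂) = (u₁ - y₁ • c₁) + (u₂ - y₂ • c₂) := by
              rw [smul_add, smul_smul, mul_inv_cancel_left]; abel
            rw [e]; exact add_mem h₁ h₂
          · obtain ⟨a, -, h3⟩ := hsurj _ hm c₂ hc₂ hP' c₁ ⟨hc₁.2, hC hc₁.1⟩
            refine ⟨y₁ * a * (y₁⁻¹ * y₂), c₂, hc₂, ?_⟩
            have e : u₁ + u₂ - (y₁ * a * (y₁⁻¹ * y₂)) • c₂ = (u₁ - y₁ • c₁) + (u₂ - y₂ • c₂) -
                y₁ • ((a • (y₁⁻¹ * y₂) • c₂ - (y₁⁻¹ * y₂) • c₂) - c₁) := by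
              rw [smul_sub, smul_sub, smul_smul y₁ (y₁⁻¹ * y₂), mul_inv_cancel_left, mul_smul (y₁ * a), mul_smul y₁ a]
              abel
            rw [e]; exact sub_mem (add_mem h₁ h₂) (sP'.inv y₁ _ h3) }
  have hP'R : P' ≤ R := fun u hu => ⟨1, 0, zero_mem _, by rw [smul_zero, sub_zero]; exact hu⟩
  have hRP : R ≤ P := by
    rintro u ⟨y, c, hc, h1⟩
    have e : u = (u - y • c) + y • c := by abel
    rw [e]; exact add_mem (hlt.le h1) (sP.inv y _ hc.2)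
  have sR : Sec U A R :=
    { Z_le := sP'.Z_le.trans hP'R
      le_D := hRP.trans sP.le_D
      inv := by
        rintro y u ⟨y', c, hc, h1⟩
        refine ⟨y * y', c, hc, ?_⟩
        have e : y • u - (y * y') • c = y • (u - y' • c) := by rw [smul_sub, mul_smul]
        rw [e]; exact sP'.inv y _ h1 }
  have hRne : R ≠ P' := by
    intro h0
    apply hPne
    have h1 : B ≤ P' := by
      rw [← h0]
      intro u hu
      exact ⟨1, u, hu, by rw [one_smul, sub_self]; exact zero_mem _⟩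
    exact (le_inf inf_le_left h1).trans hinf
  have hRtop := simple R sR hP'R hRP hRne
  -- `P ∩ C ≤ B (P' ∩ C)`
  have hPC2 : P ⊓ fx U A ≤ B ⊔ (P' ⊓ fx U A) := by
    have h1 : ∀ c ∈ P ⊓ fx U A, ∃ b ∈ B, c - b ∈ P' := by
      intro c hc
      have h2 : c ∈ R := by rw [hRtop]; exact hc.1
      obtain ⟨y, c', hc', h3⟩ := h2
      by_cases hy : y ∈ M
      · exact ⟨y • c', hBM y hy c' hc', h3⟩
      · refine ⟨0, zero_mem _, ?_⟩
        rw [sub_zero]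
        have h4 : c - y • c' ∈ (P' ⊓ fx U A) ⊔ y • (P' ⊓ fx U A) := by rw [sP'.sup_eq h.toQ hy]; exact h3
        obtain ⟨d₁, hd₁, d₂, hd₂, e⟩ := AddSubgroup.mem_sup.1 h4
        rw [mem_smul] at hd₂
        have h5 : c - d₁ ∈ fx U (⊤ : Subgroup Y) := by
          apply h.toQ.inf_le hy
          · exact sub_mem hc.2 hd₁.2
          · have e2 : y⁻¹ • (c - d₁) = c' + y⁻¹ • d₂ := by
              have e3 : c - d₁ = y • c' + d₂ := by
                have : c = d₁ + d₂ + y • c' := by rw [e]; abel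
                rw [this]; abel
              rw [e3, smul_add, inv_smul_smul]
            rw [e2]; exact add_mem (hC hc'.1) hd₂.2
        have e4 : c = (c - d₁) + d₁ := by abel
        rw [e4]; exact add_mem (sP'.Z_le h5) hd₁.1
    intro c hc
    obtain ⟨b, hb, h2⟩ := h1 c hc
    have e : c = b + (c - b) := by abel
    rw [e]
    exact add_mem (AddSubgroup.mem_sup_left hb)
      (AddSubgroup.mem_sup_right (AddSubgroup.mem_inf.2 ⟨h2, sub_mem hc.2 (hC hb.1)⟩))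
  have h1 := card_sup_inf B (P' ⊓ fx U A)
  have h2 : fx U (⊤ : Subgroup Y) ≤ B ⊓ (P' ⊓ fx U A) :=
    le_inf (le_inf hZ sP.Z_le) (le_inf sP'.Z_le (Q.Z_le A))
  have h3 := card_le h2
  have h4 := card_le hPC2
  have h5 : Nat.card B ≤ Nat.card B₀ := card_le inf_le_left
  have h6 := sP.index h.toQ sP' hlt
  have pP' : 0 < Nat.card ↥(P' ⊓ fx U A) := Nat.card_pos
  refine Nat.le_of_mul_le_mul_right ?_ pP'
  calc Nat.card A * Nat.card (fx U (⊤ : Subgroup Y)) * Nat.card ↥(P' ⊓ fx U A)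
      = (Nat.card A * Nat.card ↥(P' ⊓ fx U A)) * Nat.card (fx U (⊤ : Subgroup Y)) := by ring
    _ ≤ (Nat.card ↥(A ⊓ pCore 2 Y) * Nat.card ↥(P ⊓ fx U A)) * Nat.card (fx U (⊤ : Subgroup Y)) :=
      Nat.mul_le_mul_right _ h6
    _ ≤ (Nat.card ↥(A ⊓ pCore 2 Y) * Nat.card ↥(B ⊔ (P' ⊓ fx U A))) * Nat.card ↥(B ⊓ (P' ⊓ fx U A)) :=
      Nat.mul_le_mul (Nat.mul_le_mul_left _ h4) h3
    _ = Nat.card ↥(A ⊓ pCore 2 Y) * (Nat.card ↥(B ⊔ (P' ⊓ fx U A)) * Nat.card ↥(B ⊓ (P' ⊓ fx U A))) := by ring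
    _ = Nat.card ↥(A ⊓ pCore 2 Y) * (Nat.card B * Nat.card ↥(P' ⊓ fx U A)) := by rw [h1]
    _ = Nat.card ↥(A ⊓ pCore 2 Y) * Nat.card B * Nat.card ↥(P' ⊓ fx U A) := by ring
    _ ≤ Nat.card ↥(A ⊓ pCore 2 Y) * Nat.card B₀ * Nat.card ↥(P' ⊓ fx U A) :=
      Nat.mul_le_mul_right _ (Nat.mul_le_mul_left _ h5)

end Cfsg.Agent.Omega.NO3b.TheoremL.Core2
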