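import Cfsg.Agent.Omega.NO3b.TheoremL.Core2

/-!
# THEOREM L (#18749, helper344), part 5: the theorem for a TI group

`core` : `f(A) = |U|`, `|V Z : Z| = |A|`, `C_U(A) = V Z`, `U = V^k C_U(A)` for `k ∉ M`, `A ∩ O` acts faithfully on `V^k`,
`C_U(A ∩ O) = C_U(A)` if `A ∩ O ≠ 1`, `[U, A ∩ O] ≤ Z`, `A ∩ M^k = A ∩ O`.
-/

set_option autoImplicit false
set_option linter.unusedSectionVars false

namespace Cfsg.Agent.Omega.NO3b.TheoremL.Core3

open Cfsg.Agent.Omega.FF.Basic (fx mem_fx fx_anti card_sup_inf card_le eq_of_card_le card_fib EA mm mm_bot cj mem_cj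
  mem_cj_of isPGroup_cj card_cj smul_mem_fx_cj mem_fx_cj card_smul fx_bot card_top card_le_top)
open Cfsg.Agent.Omega.NO3b.Exit.TT (cf mem_cf nf mem_nf mem_smul smul_mem' nf_smul le_cf card_smul' cf_conj nf_conj
  quad' card_pow two_mul_le_of_pow mm_pow)
open Cfsg.Agent.Omega.NO3b.TheoremL.Act
open Cfsg.Agent.Omega.NO3b.TheoremL.Core1
open Cfsg.Agent.Omega.NO3b.TheoremL.Core2
open Cfsg.Agent.Omega.NO3b.TheoremL.RingRel (ring_rel TH tau card_TH)
open Cfsg.Agent.Omega.MinFF (TI)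
open Cfsg (pCore)
open scoped Pointwise

variable {Y : Type*} [Group Y] [Finite Y] {U : Type*} [AddCommGroup U] [Finite U] [DistribMulAction Y U]
  {A M : Subgroup Y} {V : AddSubgroup U}

/-- `V Z` -/
abbrev VZ (Y : Type*) [Group Y] {U : Type*} [AddCommGroup U] [DistribMulAction Y U] (V : AddSubgroup U) :
    AddSubgroup U := V ⊔ fx U (⊤ : Subgroup Y)

theorem VZ_le_C (h : Hyp A M V) : VZ Y V ≤ fx U A := sup_le h.V_le_C (Q.Z_le A)

theorem VZ_le_W (V : AddSubgroup U) : VZ Y V ≤ W Y V := sup_le (V_le_W V) (Z_le_W V)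

theorem VZ_inv (h : Hyp A M V) {m : Y} (hm : m ∈ M) {v : U} (hv : v ∈ VZ Y V) : m • v ∈ VZ Y V := by
  obtain ⟨a, ha, b, hb, rfl⟩ := AddSubgroup.mem_sup.1 hv
  rw [smul_add, Q.Z_smul hb]
  exact add_mem (AddSubgroup.mem_sup_left (nf_smul (h.inv hm) ha)) (AddSubgroup.mem_sup_right hb)

/-- quotient groups of a subgroup -/
theorem quot_le {W Z : AddSubgroup U} {B Q : Subgroup Y} (hBQ : B ≤ Q) (hQW : ∀ t ∈ Q, ∀ w ∈ W, t • w - w ∈ Z)
    (hQZ : ∀ t ∈ Q, ∀ z ∈ Z, t • z = z) :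
    Nat.card B * Nat.card ↥(Q ⊓ cf Y W) ≤ Nat.card Q * Nat.card ↥(B ⊓ cf Y W) := by
  have hfin : Finite (W →+ Z) := Finite.of_injective (fun f : W →+ Z => (f : W → Z)) DFunLike.coe_injective
  let T₁ := TH (W := W) (Z := Z) (Q := B) (fun t ht => hQW t (hBQ ht)) (fun t ht => hQZ t (hBQ ht))
  let T := TH (W := W) (Z := Z) (Q := Q) hQW hQZ
  have hT₁ : T₁ ≤ T := by
    rintro _ ⟨t, rfl⟩
    exact ⟨⟨t, hBQ t.2⟩, rfl⟩
  have c₁ : Nat.card B = Nat.card T₁ * Nat.card ↥(B ⊓ cf Y W) := card_TH _ _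
  have c : Nat.card Q = Nat.card T * Nat.card ↥(Q ⊓ cf Y W) := card_TH _ _
  rw [c₁, c]
  calc Nat.card T₁ * Nat.card ↥(B ⊓ cf Y W) * Nat.card ↥(Q ⊓ cf Y W)
      = Nat.card T₁ * (Nat.card ↥(Q ⊓ cf Y W) * Nat.card ↥(B ⊓ cf Y W)) := by ring
    _ ≤ Nat.card T * (Nat.card ↥(Q ⊓ cf Y W) * Nat.card ↥(B ⊓ cf Y W)) := Nat.mul_le_mul_right _ (card_le hT₁)
    _ = _ := by ring

/-- NF for `V Z` -/
theorem nfVZ (h : Hyp A M V) {B : Subgroup Y} (hB : B ≤ QQ A) (hne : ¬ B ≤ cf Y (VZ Y V)) :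
    2 * (Nat.card B * Nat.card ↥(VZ Y V ⊓ fx U B)) ≤ Nat.card (VZ Y V) * Nat.card ↥(B ⊓ cf Y (VZ Y V)) := by
  have hne' : ¬ B ≤ cf Y ((1 : Y) • V) := by
    rw [one_smul]
    intro h0
    apply hne
    rw [le_cf] at h0 ⊢
    exact sup_le h0 (Q.Z_le B)
  have h1 := h.nfV 1 hB hne'
  rw [one_smul] at h1
  have h2 : B ⊓ cf Y (VZ Y V) = B ⊓ cf Y V := by
    apply le_antisymm
    · rintro b ⟨hb, hb'⟩
      exact ⟨hb, fun v hv => hb' v (AddSubgroup.mem_sup_left hv)⟩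
    · rintro b ⟨hb, hb'⟩
      refine ⟨hb, fun v hv => ?_⟩
      obtain ⟨x, hx, z, hz, rfl⟩ := AddSubgroup.mem_sup.1 hv
      rw [smul_add, hb' x hx, Q.Z_smul hz]
  have h3 : VZ Y V ⊓ fx U B = (V ⊓ fx U B) ⊔ fx U (⊤ : Subgroup Y) := by
    apply le_antisymm
    · rintro v ⟨hv, hvB⟩
      obtain ⟨x, hx, z, hz, rfl⟩ := AddSubgroup.mem_sup.1 hv
      refine add_mem (AddSubgroup.mem_sup_left ⟨hx, ?_⟩) (AddSubgroup.mem_sup_right hz)
      have e : x = (x + z) - z := by abel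
      have h7 : (x + z) - z ∈ fx U B := sub_mem hvB (Q.Z_le B hz)
      rwa [← e] at h7
    · exact sup_le (inf_le_inf_right _ le_sup_left) (le_inf le_sup_right (Q.Z_le B))
  have h4 := card_sup_inf (V ⊓ fx U B) (fx U (⊤ : Subgroup Y))
  have h5 := card_sup_inf V (fx U (⊤ : Subgroup Y))
  have h6 : V ⊓ fx U B ⊓ fx U (⊤ : Subgroup Y) = V ⊓ fx U (⊤ : Subgroup Y) := by
    rw [inf_assoc, inf_eq_right.2 (Q.Z_le B)]
  rw [h6] at h4
  rw [h2, h3]
  have p : 0 < Nat.card ↥(V ⊓ fx U (⊤ : Subgroup Y)) := Nat.card_pos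
  refine Nat.le_of_mul_le_mul_right ?_ p
  calc 2 * (Nat.card B * Nat.card ↥((V ⊓ fx U B) ⊔ fx U (⊤ : Subgroup Y))) * Nat.card ↥(V ⊓ fx U (⊤ : Subgroup Y))
      = 2 * (Nat.card B * (Nat.card ↥((V ⊓ fx U B) ⊔ fx U (⊤ : Subgroup Y)) *
        Nat.card ↥(V ⊓ fx U (⊤ : Subgroup Y)))) := by ring
    _ = 2 * (Nat.card B * Nat.card ↥(V ⊓ fx U B)) * Nat.card (fx U (⊤ : Subgroup Y)) := by rw [h4]; ring
    _ ≤ Nat.card V * Nat.card ↥(B ⊓ cf Y V) * Nat.card (fx U (⊤ : Subgroup Y)) := Nat.mul_le_mul_right _ h1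
    _ = (Nat.card V * Nat.card (fx U (⊤ : Subgroup Y))) * Nat.card ↥(B ⊓ cf Y V) := by ring
    _ = (Nat.card (VZ Y V) * Nat.card ↥(V ⊓ fx U (⊤ : Subgroup Y))) * Nat.card ↥(B ⊓ cf Y V) := by rw [h5]
    _ = _ := by ring

/-- the lower bound for `|V Z : Z|` -/
theorem lower (h : Hyp A M V) (k : Y) :
    Nat.card A * Nat.card (fx U (⊤ : Subgroup Y)) ≤
      Nat.card (VZ Y V) * Nat.card ↥(A ⊓ pCore 2 Y ⊓ cf Y (k • V)) := by
  have hVZ : ¬ VZ Y V ≤ fx U (⊤ : Subgroup Y) := fun h0 => h.nz (le_sup_left.trans h0)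
  have pZ : 0 < Nat.card (fx U (⊤ : Subgroup Y)) := Nat.card_pos
  have pA1 : 0 < Nat.card ↥(A ⊓ pCore 2 Y) := Nat.card_pos
  by_cases hne : A ⊓ pCore 2 Y = ⊥
  · have h1 := irr h (B₀ := VZ Y V) (fun m hm v hv => VZ_inv h hm hv) le_sup_right (VZ_le_C h) (VZ_le_W V) hVZ
    rw [hne, Subgroup.card_bot, one_mul] at h1
    have h2 : 1 ≤ Nat.card ↥(A ⊓ pCore 2 Y ⊓ cf Y (k • V)) := Nat.card_pos
    calc _ ≤ Nat.card (VZ Y V) := h1
      _ = Nat.card (VZ Y V) * 1 := (mul_one _).symm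
      _ ≤ _ := Nat.mul_le_mul_left _ h2
  · classical
    have hQW : ∀ t ∈ QQ A, ∀ w ∈ VZ Y V, t • w - w ∈ fx U (⊤ : Subgroup Y) := fun t ht w hw =>
      h.comm_QQ ht (VZ_le_W V hw)
    have hQZ : ∀ t ∈ QQ A, ∀ z ∈ fx U (⊤ : Subgroup Y), t • z = z := fun t _ z hz => Q.Z_smul hz t
    obtain ⟨I, i1, i2, i3, i4, i5⟩ := ring_rel (W := VZ Y V) (Z := fx U (⊤ : Subgroup Y)) (Q := QQ A) h.two le_sup_right
      hQW hQZ (fun w hw hf => h.inf_fx_le hne ⟨VZ_le_W V hw, hf⟩) (fun B hB hBc => nfVZ h hB hBc)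
    have hlt0 : fx U (⊤ : Subgroup Y) < VZ Y V := lt_of_le_of_ne le_sup_right fun h0 => hVZ h0.ge
    obtain ⟨P, ⟨hIP, hlt⟩, hPmin⟩ := Set.exists_min_image {P : AddSubgroup U | I P ∧ fx U (⊤ : Subgroup Y) < P}
      (fun P => Nat.card P) (Set.toFinite _) ⟨VZ Y V, i1, hlt0⟩
    have h1 := i5 _ P i2 hIP hlt fun R hR h1 h2 => by
      rcases h1.eq_or_lt with h3 | h3
      · exact Or.inl h3.symm
      · exact Or.inr (eq_of_card_le h2 (hPmin R ⟨hR, h3⟩))
    have hPle := (i3 P hIP).2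
    have h2 := irr h (B₀ := P) (fun m hm v hv => i4 P hIP m (fun w hw => VZ_inv h hm hw)
      (fun z hz => Q.Z_smul hz m) (fun t ht => Hyp.QQ_conj ht m) v hv) hlt.le (hPle.trans (VZ_le_C h))
      (hPle.trans (VZ_le_W V)) (fun h0 => hlt.not_ge h0)
    -- `k`
    have hB' : cj k⁻¹ (A ⊓ pCore 2 Y) ≤ QQ A := by
      intro t ht
      rw [mem_cj, inv_inv] at ht
      have h1 := Hyp.QQ_conj (Hyp.A₁_le ht) k
      have e : k⁻¹ * (k * t * k⁻¹) * k = t := by group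
      rwa [e] at h1
    have h3 := quot_le hB' hQW hQZ
    rw [card_cj] at h3
    have h4 : Nat.card ↥(cj k⁻¹ (A ⊓ pCore 2 Y) ⊓ cf Y (VZ Y V)) = Nat.card ↥(A ⊓ pCore 2 Y ⊓ cf Y (k • V)) := by
      have e3 : cj k⁻¹ (A ⊓ pCore 2 Y) ⊓ cf Y (VZ Y V) = cj k⁻¹ (A ⊓ pCore 2 Y ⊓ cf Y (k • V)) := by
        ext a
        rw [mem_cj, inv_inv, Subgroup.mem_inf, Subgroup.mem_inf (x := k * a * k⁻¹), mem_cj, inv_inv, cf_conj]
        have e : k⁻¹ * (k * a * k⁻¹) * k = a := by group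
        rw [e]
        refine and_congr_right fun _ => ?_
        constructor
        · intro h5 v hv
          exact h5 v (AddSubgroup.mem_sup_left hv)
        · intro h5 v hv
          obtain ⟨x, hx, z, hz, rfl⟩ := AddSubgroup.mem_sup.1 hv
          rw [smul_add, h5 x hx, Q.Z_smul hz]
      rw [e3, card_cj]
    rw [h4] at h3
    have pK : 0 < Nat.card ↥(QQ A ⊓ cf Y (VZ Y V)) := Nat.card_pos
    have pQ : 0 < Nat.card (QQ A) := Nat.card_pos
    set a := Nat.card A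
    set a1 := Nat.card ↥(A ⊓ pCore 2 Y)
    set z := Nat.card (fx U (⊤ : Subgroup Y))
    set q := Nat.card (QQ A)
    set c := Nat.card ↥(QQ A ⊓ cf Y (VZ Y V))
    set e := Nat.card ↥(A ⊓ pCore 2 Y ⊓ cf Y (k • V))
    set w := Nat.card (VZ Y V)
    set p := Nat.card P
    -- `h1 : p (q z) ≤ z (w c)`, `h2 : a z ≤ a1 p`, `h3 : a1 c ≤ q e`
    have h5 : p * q ≤ w * c := by
      refine Nat.le_of_mul_le_mul_right ?_ pZ
      calc p * q * z = p * (q * z) := by ring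
        _ ≤ z * (w * c) := h1
        _ = w * c * z := by ring
    refine Nat.le_of_mul_le_mul_right ?_ (Nat.mul_pos (Nat.mul_pos pA1 pK) pQ)
    calc a * z * (a1 * c * q) ≤ (a1 * p) * (a1 * c * q) := Nat.mul_le_mul_right _ h2
      _ = (a1 * a1 * c) * (p * q) := by ring
      _ ≤ (a1 * a1 * c) * (w * c) := Nat.mul_le_mul_left _ h5
      _ = (a1 * w * c) * (a1 * c) := by ring
      _ ≤ (a1 * w * c) * (q * e) := Nat.mul_le_mul_left _ h3
      _ = w * e * (a1 * c * q) := by ring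

/-- the conclusions of THEOREM L for a TI group -/
structure Out (A M : Subgroup Y) (V : AddSubgroup U) : Prop where
  mm_eq : mm U A = Nat.card U
  card : Nat.card (VZ Y V) = Nat.card A * Nat.card (fx U (⊤ : Subgroup Y))
  C_eq : fx U A = VZ Y V
  sup : ∀ k, k ∉ M → k • V ⊔ fx U A = ⊤
  inf : ∀ k, k ∉ M → k • V ⊓ fx U A ≤ fx U (⊤ : Subgroup Y)
  cf : ∀ k, k ∉ M → A ⊓ pCore 2 Y ⊓ cf Y (k • V) = ⊥
  fx_eq : A ⊓ pCore 2 Y ≠ ⊥ → fx U (A ⊓ pCore 2 Y) = fx U A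
  comm : ∀ t ∈ A ⊓ pCore 2 Y, ∀ u : U, t • u - u ∈ fx U (⊤ : Subgroup Y)
  nf : ∀ k, k ∉ M → A ⊓ MulAut.conj k • M = A ⊓ pCore 2 Y

theorem core (h : Hyp A M V) : Out A M V := by
  classical
  set Z := fx U (⊤ : Subgroup Y) with hZ
  have pZ : 0 < Nat.card Z := Nat.card_pos
  have pC : 0 < Nat.card (fx U A) := Nat.card_pos
  have pA : 0 < Nat.card A := Nat.card_pos
  have key : ∀ k, k ∉ M → A ⊓ pCore 2 Y ⊓ cf Y (k • V) = ⊥ ∧
      Nat.card (VZ Y V) = Nat.card A * Nat.card Z ∧ mm U A = Nat.card U ∧ (k • VZ Y V) ⊔ fx U A = ⊤ := by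
    intro k hk
    set E := A ⊓ pCore 2 Y ⊓ cf Y (k • V) with hE
    have h1 := lower h k
    rw [← hE] at h1
    have h2 : (k • VZ Y V) ⊔ fx U A ≤ fx U E := by
      refine sup_le ?_ (fx_anti (inf_le_left.trans inf_le_left))
      intro v hv
      rw [mem_smul] at hv
      obtain ⟨x, hx, z, hz, e⟩ := AddSubgroup.mem_sup.1 hv
      have e2 : v = k • x + z := by
        rw [← smul_inv_smul k v, ← e, smul_add, Q.Z_smul hz]
      rw [e2]
      exact add_mem (le_cf.1 (inf_le_right : E ≤ _) (smul_mem' hx)) (Q.Z_le E hz)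
    have h3 : (k • VZ Y V) ⊓ fx U A ≤ Z := by
      rintro v ⟨hv, hvA⟩
      exact h.toQ.inf_le hk hvA (VZ_le_C h (mem_smul.1 hv))
    have h4 := card_sup_inf (k • VZ Y V) (fx U A)
    rw [card_smul'] at h4
    have h5 := card_le h3
    have h6 := card_le h2
    -- `|E| |V Z| |C| ≤ |E| |fx E| |Z|`
    have h7 : Nat.card (VZ Y V) * Nat.card (fx U A) ≤ Nat.card ↥((k • VZ Y V) ⊔ fx U A) * Nat.card Z := by
      rw [← h4]; exact Nat.mul_le_mul_left _ h5
    have h8 : mm U A ≤ mm U E := by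
      rw [mm, mm]
      refine Nat.le_of_mul_le_mul_right ?_ pZ
      calc Nat.card A * Nat.card (fx U A) * Nat.card Z = (Nat.card A * Nat.card Z) * Nat.card (fx U A) := by ring
        _ ≤ (Nat.card (VZ Y V) * Nat.card E) * Nat.card (fx U A) := Nat.mul_le_mul_right _ h1
        _ = Nat.card E * (Nat.card (VZ Y V) * Nat.card (fx U A)) := by ring
        _ ≤ Nat.card E * (Nat.card ↥((k • VZ Y V) ⊔ fx U A) * Nat.card Z) := Nat.mul_le_mul_left _ h7
        _ ≤ Nat.card E * (Nat.card (fx U E) * Nat.card Z) :=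
          Nat.mul_le_mul_left _ (Nat.mul_le_mul_right _ h6)
        _ = _ := by ring
    have hEA : E < A := lt_of_le_of_lt inf_le_left h.A₁_lt
    have hE0 : E = ⊥ := by
      by_contra h0
      exact absurd (h.min E hEA h0) (not_lt.2 h8)
    rw [hE0, mm_bot] at h8
    have hmm : mm U A = Nat.card U := le_antisymm h8 h.off
    rw [hE0, Subgroup.card_bot, mul_one] at h1
    have h9 := card_le_top ((k • VZ Y V) ⊔ fx U A)
    have h10 : Nat.card ↥((k • VZ Y V) ⊔ fx U A) = Nat.card U := by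
      apply le_antisymm h9
      refine Nat.le_of_mul_le_mul_right ?_ pZ
      calc Nat.card U * Nat.card Z = Nat.card A * Nat.card Z * Nat.card (fx U A) := by rw [← hmm, mm]; ring
        _ ≤ Nat.card (VZ Y V) * Nat.card (fx U A) := Nat.mul_le_mul_right _ h1
        _ ≤ _ := h7
    have h11 : Nat.card (VZ Y V) = Nat.card A * Nat.card Z := by
      apply le_antisymm _ h1
      refine Nat.le_of_mul_le_mul_right ?_ pC
      calc Nat.card (VZ Y V) * Nat.card (fx U A) ≤ Nat.card ↥((k • VZ Y V) ⊔ fx U A) * Nat.card Z := h7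
        _ = Nat.card A * Nat.card (fx U A) * Nat.card Z := by rw [h10, ← hmm, mm]
        _ = _ := by ring
    exact ⟨hE0, h11, hmm, eq_of_card_le le_top (by rw [h10, card_top])⟩
  obtain ⟨g, hg⟩ := h.ti.exists_not_mem
  obtain ⟨-, h1, h2, h3⟩ := key g hg
  -- `D = U`
  have hD : Act.D U A = ⊤ := by
    rw [eq_top_iff, ← h3]
    refine sup_le ?_ Q.C_le_D
    refine le_trans ?_ (Q.smul_C_le_D g)
    exact AddSubgroup.pointwise_smul_le_pointwise_smul_iff.2 (VZ_le_C h)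
  have sT : Sec U A (⊤ : AddSubgroup U) := ⟨le_top, hD.ge, fun _ _ _ => trivial⟩
  have h4 := sT.card h.toQ
  rw [top_inf_eq, card_top, ← h2, mm] at h4
  have h5 : Nat.card (fx U A) = Nat.card A * Nat.card Z := by
    refine Nat.eq_of_mul_eq_mul_right pC ?_
    rw [← h4]; ring
  have hC : fx U A = VZ Y V := (eq_of_card_le (VZ_le_C h) (by rw [h1, h5])).symm
  have hsup : ∀ k, k ∉ M → k • V ⊔ fx U A = ⊤ := by
    intro k hk
    rw [eq_top_iff, ← (key k hk).2.2.2]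
    refine sup_le ?_ le_sup_right
    intro v hv
    rw [mem_smul] at hv
    obtain ⟨x, hx, z, hz, e⟩ := AddSubgroup.mem_sup.1 hv
    have e2 : v = k • x + z := by
      rw [← smul_inv_smul k v, ← e, smul_add, Q.Z_smul hz]
    rw [e2]
    exact add_mem (AddSubgroup.mem_sup_left (smul_mem' hx)) (AddSubgroup.mem_sup_right (Q.Z_le A hz))
  have hWt : W Y V = ⊤ := by
    rw [eq_top_iff, ← hsup g hg, hC]
    exact sup_le (smul_le_W V g) (VZ_le_W V)
  refine ⟨h2, h1, hC, hsup, ?_, fun k hk => (key k hk).1, ?_, ?_, ?_⟩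
  · intro k hk v hv
    exact h.toQ.inf_le hk hv.2 (h.V_le_C (mem_smul.1 hv.1))
  · -- `C_U(A ∩ O) = C_U(A)`
    intro hne
    refine le_antisymm ?_ (fx_anti inf_le_left)
    obtain ⟨I, i1, i2, i3, i4, i5⟩ := ring_W h hne
    have hWZ : ¬ W Y V ≤ Z := fun h0 => h.nz ((V_le_W V).trans h0)
    have hlt0 : Z < W Y V := lt_of_le_of_ne (Z_le_W V) fun h0 => hWZ h0.ge
    obtain ⟨P, ⟨hIP, hlt⟩, hPmin⟩ := Set.exists_min_image {P : AddSubgroup U | I P ∧ Z < P}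
      (fun P => Nat.card P) (Set.toFinite _) ⟨W Y V, i1, hlt0⟩
    have j1 := i5 _ P i2 hIP hlt fun R hR h1 h2 => by
      rcases h1.eq_or_lt with h3 | h3
      · exact Or.inl h3.symm
      · exact Or.inr (eq_of_card_le h2 (hPmin R ⟨hR, h3⟩))
    have sP : Sec U A P := ⟨(i3 P hIP).1, by rw [hD]; exact le_top, i4 P hIP⟩
    have j2 := sP.index h.toQ h.secZ hlt
    have j3 : Z ⊓ fx U A = Z := inf_eq_left.2 (Q.Z_le A)
    rw [← hZ, j3] at j2
    have j4 := sP.card h.toQ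
    have hcf : cf Y (W Y V) = ⊥ := by
      rw [Subgroup.eq_bot_iff_forall]
      intro y hy
      apply h.faith
      intro u
      exact hy u (by rw [hWt]; trivial)
    rw [hcf, inf_bot_eq, Subgroup.card_bot, mul_one, hWt, card_top, ← h2, mm, h5] at j1
    have pP : 0 < Nat.card P := Nat.card_pos
    -- `|Q| ≤ |A ∩ O|²`
    have j5 : Nat.card (QQ A) ≤ Nat.card ↥(A ⊓ pCore 2 Y) * Nat.card ↥(A ⊓ pCore 2 Y) := by
      refine Nat.le_of_mul_le_mul_right ?_ (Nat.mul_pos pP (Nat.mul_pos pZ pZ))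
      calc Nat.card (QQ A) * (Nat.card P * (Nat.card Z * Nat.card Z))
          = (Nat.card P * (Nat.card (QQ A) * Nat.card Z)) * Nat.card Z := by ring
        _ ≤ (Nat.card Z * (Nat.card A * (Nat.card A * Nat.card Z))) * Nat.card Z := Nat.mul_le_mul_right _ j1
        _ = (Nat.card A * Nat.card Z) * (Nat.card A * Nat.card Z) * Nat.card Z := by ring
        _ ≤ (Nat.card ↥(A ⊓ pCore 2 Y) * Nat.card ↥(P ⊓ fx U A)) *
            (Nat.card ↥(A ⊓ pCore 2 Y) * Nat.card ↥(P ⊓ fx U A)) * Nat.card Z :=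
          Nat.mul_le_mul_right _ (Nat.mul_le_mul j2 j2)
        _ = Nat.card ↥(A ⊓ pCore 2 Y) * Nat.card ↥(A ⊓ pCore 2 Y) *
            ((Nat.card ↥(P ⊓ fx U A) * Nat.card ↥(P ⊓ fx U A)) * Nat.card Z) := by ring
        _ = _ := by rw [← j4]; ring
    -- `C_Q(A) = A ∩ O`
    set K : Subgroup Y := QQ A ⊓ Subgroup.centralizer (A : Set Y) with hK
    have j6 := h.theta (B := K) inf_le_left fun b hb a ha => (Subgroup.mem_centralizer_iff.1 hb.2 a ha)
    rw [hcf, inf_bot_eq, inf_bot_eq, Subgroup.card_bot, mul_one, mul_one] at j6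
    have j7 : A ⊓ pCore 2 Y ≤ K := le_inf Hyp.A₁_le fun t ht => Subgroup.mem_centralizer_iff.2 fun a ha =>
      h.ea.comm ha ht.1
    have j8 : A ⊓ pCore 2 Y = K := Subgroup.eq_of_le_of_card_ge j7 (le_of_sq (by
      calc _ ≤ Nat.card (QQ A) * 1 := j6
        _ = Nat.card (QQ A) := mul_one _
        _ ≤ _ := j5))
    intro w hw
    obtain ⟨a, ha, haO⟩ := SetLike.not_le_iff_exists.1 h.ti.not_le_pCore
    have hcomm : ∀ t ∈ QQ A, ∀ u : U, t • u - u ∈ Z := fun t ht u => h.comm_QQ ht (by rw [hWt]; trivial)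
    have hai : ∀ t ∈ QQ A, ∀ b ∈ A, ∀ u : U, (b * t * b⁻¹) • u - u = t • b⁻¹ • u - b⁻¹ • u := by
      intro t ht b _ u
      have e : (b * t * b⁻¹) • u - u = b • (t • b⁻¹ • u - b⁻¹ • u) := by
        rw [smul_sub, smul_inv_smul, mul_smul, mul_smul]
      rw [e, Q.Z_smul (hcomm t ht _)]
    have hn : (QQ A).Normal := Hyp.QQ_normal
    -- `[w, a] ∈ C_U(Q)`
    have j9 : a⁻¹ • w - w ∈ fx U (QQ A) := by
      intro t ht
      have haI : a⁻¹ ∈ A := A.inv_mem ha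
      -- `c = a t a⁻¹ t⁻¹` is in `K`
      have hcQ : a * t * a⁻¹ * t⁻¹ ∈ QQ A := (QQ A).mul_mem (hn.conj_mem t ht a) ((QQ A).inv_mem ht)
      have hτ : ∀ u : U, (a * t * a⁻¹ * t⁻¹) • u - u = t • (a⁻¹ • u - u) - (a⁻¹ • u - u) := by
        intro u
        have e1 : (a * t * a⁻¹ * t⁻¹) • u = (a * t * a⁻¹) • (t⁻¹ • u) := by rw [mul_smul (a * t * a⁻¹)]
        have e2 : t⁻¹ • u = u - (t • u - u) := by
          have h7 := Q.Z_smul (hcomm t ht u) t⁻¹
          rw [smul_sub, inv_smul_smul] at h7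
          have : t⁻¹ • u = u - (u - t⁻¹ • u) := by abel
          rw [this, h7]
        have e3 := hai t ht a ha u
        have e4 : (a * t * a⁻¹) • (t • u - u) = t • u - u := Q.Z_smul (hcomm t ht u) _
        rw [e1, e2, smul_sub, e4]
        have e5 : (a * t * a⁻¹) • u = u + (t • a⁻¹ • u - a⁻¹ • u) := by rw [← e3]; abel
        rw [e5, smul_sub]; abel
      have hcK : a * t * a⁻¹ * t⁻¹ ∈ K := by
        refine ⟨hcQ, Subgroup.mem_centralizer_iff.2 fun b hb => ?_⟩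
        have h6 : b * (a * t * a⁻¹ * t⁻¹) * b⁻¹ = a * t * a⁻¹ * t⁻¹ := by
          have h7 : (a * t * a⁻¹ * t⁻¹)⁻¹ * (b * (a * t * a⁻¹ * t⁻¹) * b⁻¹) = 1 := by
            apply h.faith
            intro u
            rw [mul_smul, inv_smul_eq_iff]
            have e1 := hai _ hcQ b hb u
            have e2 := hτ (b⁻¹ • u)
            have e3 := hτ u
            have e4 : a⁻¹ • b⁻¹ • u - b⁻¹ • u = a⁻¹ • u - u := by
              have h8 := h.toQ.quad _ haI _ (A.inv_mem hb) u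
              have h9 : a⁻¹ • b⁻¹ • u = b⁻¹ • a⁻¹ • u := by
                rw [smul_smul, smul_smul, h.ea.comm haI (A.inv_mem hb)]
              rw [h9, ← smul_sub]; exact h8
            rw [e4] at e2
            have e5 : (b * (a * t * a⁻¹ * t⁻¹) * b⁻¹) • u - u = (a * t * a⁻¹ * t⁻¹) • u - u := by
              rw [e1, e2, e3]
            exact sub_left_injective e5
          exact (inv_mul_eq_one.1 h7).symm
        have h8 : b * (a * t * a⁻¹ * t⁻¹) = a * t * a⁻¹ * t⁻¹ * b := by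
          calc b * (a * t * a⁻¹ * t⁻¹) = (b * (a * t * a⁻¹ * t⁻¹) * b⁻¹) * b := by group
            _ = _ := by rw [h6]
        exact h8
      rw [← j8] at hcK
      have h9 := hw _ hcK
      have h10 := hτ w
      rw [h9, sub_self] at h10
      exact (sub_eq_zero.1 h10.symm)
    have j10 : a⁻¹ • w - w ∈ Z := h.inf_fx_le hne ⟨by rw [hWt]; trivial, j9⟩
    exact h.toQ.mem_C (A.inv_mem ha) (fun h0 => haO (by
      have := (pCore 2 Y).inv_mem h0
      rwa [inv_inv] at this)) (by rw [hD]; trivial) j10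
  · intro t ht u
    exact h.comm_A₁ ht (by rw [hWt]; trivial)
  · intro k hk
    apply le_antisymm
    · exact le_inf inf_le_left (h.toQ.inf_core hk)
    · refine le_inf inf_le_left ?_
      intro t ht
      have hn : (pCore 2 Y).Normal := Lib.Cores.pCore_normal 2
      rw [MinFF.mem_cj]
      apply h.toQ.core_le
      have := hn.conj_mem t ht.2 k⁻¹
      rwa [inv_inv] at this

end Cfsg.Agent.Omega.NO3b.TheoremL.Core3
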