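import Mathlib

/-!
# THEOREM L (#18749, helper344), (4): the ring trick

`b : W × Θ → Z` a biadditive pairing of finite elementary abelian 2-groups, nondegenerate on both sides, such that
`2 |E| |ann E| ≤ |W|` for `0 ≠ E ≤ Θ`.  Then `|P / P'| |Θ| ≤ |W|` for every chief factor `P / P'` of `W` under the ring
of adjoint pairs of `b`.

Proof: `R` the ring of adjoint pairs, `e` a primitive idempotent of `R`, `G e` the group of units of `eRe`.  The
elements of `eRe` are nilpotent or units, so `G e` acts on `eM - 0` with stabilizers which are 2-groups, for every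
finite `R`-module `M`, and transitively on `eN - 0` for a simple `N`.  Hence with `l` = odd part of `|G e|`:
`l ∣ |eM| - 1`, `|eN| ≤ l + 1`; so `|eW| > |Θe|` implies `|eW| ≥ |Θe| |eN|`.
-/

set_option autoImplicit false

namespace Cfsg.Agent.Omega.NO3b.TheoremL.Ring

open MulOpposite

section ring

variable {R : Type*} [Ring R]

theorem exists_idem [Finite R] (x : R) : ∃ n, 0 < n ∧ x ^ n * x ^ n = x ^ n := by
  obtain ⟨i, j, hne, hij⟩ := Finite.exists_ne_map_eq_of_infinite (fun n : ℕ => x ^ n)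
  wlog hlt : i < j generalizing i j
  · exact this j i hne.symm hij.symm (lt_of_le_of_ne (not_lt.1 hlt) hne.symm)
  obtain ⟨p, rfl⟩ := Nat.exists_eq_add_of_lt hlt
  have hij' : x ^ i = x ^ (i + p + 1) := hij
  have h1 : ∀ n, i ≤ n → x ^ (n + (p + 1)) = x ^ n := by
    intro n hn
    obtain ⟨m, rfl⟩ := Nat.exists_eq_add_of_le hn
    have e1 : i + m + (p + 1) = (i + p + 1) + m := by ring
    rw [e1, pow_add, ← hij', ← pow_add]
  have h2 : ∀ k n, i ≤ n → x ^ (n + k * (p + 1)) = x ^ n := by
    intro k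
    induction k with
    | zero => intro n _; rw [zero_mul, add_zero]
    | succ k ih =>
      intro n hn
      have e1 : n + (k + 1) * (p + 1) = (n + k * (p + 1)) + (p + 1) := by ring
      rw [e1, h1 _ (by omega), ih n hn]
  refine ⟨(i + 1) * (p + 1), by positivity, ?_⟩
  rw [← pow_add]
  exact h2 (i + 1) _ (by nlinarith)

theorem one_add_pow (h : ∀ x : R, x + x = 0) (x : R) (k : ℕ) : (1 + x) ^ (2 ^ k) = 1 + x ^ (2 ^ k) := by
  induction k with
  | zero => rw [pow_zero, pow_one, pow_one]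
  | succ k ih =>
    rw [pow_succ, pow_mul, ih, pow_mul]
    have e : (1 + x ^ 2 ^ k) ^ 2 = 1 + (x ^ 2 ^ k + x ^ 2 ^ k) + (x ^ 2 ^ k) ^ 2 := by noncomm_ring
    rw [e, h, add_zero]

/-- `e` has no proper idempotent below it -/
def Pr (e : R) : Prop := ∀ f : R, f * f = f → e * f = f → f * e = f → f = 0 ∨ f = e

/-- the units of `eRe`, as units `u` of `R` with `u - 1 ∈ eRe` -/
def G (e : R) : Subgroup Rˣ where
  carrier := {u | e * ((u : R) - 1) = (u : R) - 1 ∧ ((u : R) - 1) * e = (u : R) - 1}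
  one_mem' := by simp
  mul_mem' := by
    rintro a b ⟨h1, h2⟩ ⟨h3, h4⟩
    have e1 : ((a * b : Rˣ) : R) - 1 = ((a : R) - 1) * ((b : R) - 1) + ((a : R) - 1) + ((b : R) - 1) := by
      push_cast; noncomm_ring
    constructor
    · rw [e1, mul_add, mul_add, ← mul_assoc, h1, h3]
    · rw [e1, add_mul, add_mul, mul_assoc, h2, h4]
  inv_mem' := by
    rintro a ⟨h1, h2⟩
    have e1 : ((a⁻¹ : Rˣ) : R) - 1 = -(((a : R) - 1) * ((a⁻¹ : Rˣ) : R)) := by
      rw [sub_mul, one_mul, Units.mul_inv]; abel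
    have e2 : ((a⁻¹ : Rˣ) : R) - 1 = -(((a⁻¹ : Rˣ) : R) * ((a : R) - 1)) := by
      rw [mul_sub, mul_one, Units.inv_mul]; abel
    constructor
    · rw [e1, mul_neg, ← mul_assoc, h1]
    · rw [e2, neg_mul, mul_assoc, h2]

theorem mem_G {e : R} {u : Rˣ} : u ∈ G e ↔ e * ((u : R) - 1) = (u : R) - 1 ∧ ((u : R) - 1) * e = (u : R) - 1 := Iff.rfl

/-- an element of `eRe` is nilpotent or a unit of `eRe` -/
theorem nil_or_unit [Finite R] {e : R} (he : Pr e) {x : R} (h1 : e * x = x) (h2 : x * e = x) :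
    (∃ n, x ^ n = 0) ∨ ∃ y : R, e * y = y ∧ y * e = y ∧ x * y = e ∧ y * x = e := by
  obtain ⟨n, hn, hidem⟩ := exists_idem x
  obtain ⟨m, rfl⟩ := Nat.exists_eq_add_of_lt hn
  rw [zero_add] at hidem hn
  have h3 : e * x ^ (m + 1) = x ^ (m + 1) := by rw [pow_succ', ← mul_assoc, h1]
  have h4 : x ^ (m + 1) * e = x ^ (m + 1) := by rw [pow_succ, mul_assoc, h2]
  rcases he _ hidem h3 h4 with h5 | h5
  · exact Or.inl ⟨m + 1, h5⟩
  · right
    have hee : e * e = e := by rw [← h5]; exact hidem
    refine ⟨x ^ m * e, ?_, ?_, ?_, ?_⟩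
    · rcases Nat.eq_zero_or_pos m with rfl | hm
      · rw [pow_zero, one_mul, hee]
      · obtain ⟨k, rfl⟩ := Nat.exists_eq_add_of_lt hm
        rw [zero_add, ← mul_assoc, pow_succ', ← mul_assoc, h1]
    · rw [mul_assoc, hee]
    · rw [← mul_assoc, ← pow_succ', h5, hee]
    · rw [mul_assoc, h1, ← pow_succ, h5]

section act

variable {M : Type*} [AddCommGroup M] [Module R M]

/-- `eM` -/
def ran (M : Type*) [AddCommGroup M] [Module R M] (e : R) : AddSubgroup M where
  carrier := {m | e • m = m}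
  zero_mem' := smul_zero _
  add_mem' := fun {a b} ha hb => by
    show e • (a + b) = a + b
    rw [smul_add]
    have h1 : e • a = a := ha
    have h2 : e • b = b := hb
    rw [h1, h2]
  neg_mem' := fun {a} ha => by
    show e • (-a) = -a
    have h1 : e • a = a := ha
    rw [smul_neg, h1]

theorem mem_ran {e : R} {m : M} : m ∈ ran M e ↔ e • m = m := Iff.rfl

theorem G_smul {e : R} {u : Rˣ} (hu : u ∈ G e) {m : M} (hm : e • m = m) : e • (u : R) • m = (u : R) • m := by
  have h1 : (u : R) • m = ((u : R) - 1) • m + m := by rw [sub_smul, one_smul]; abel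
  rw [h1, smul_add, smul_smul, hu.1, hm]

/-- `G e` acts on `eM - 0` -/
instance act (e : R) : MulAction (G e) {m : M // e • m = m ∧ m ≠ 0} where
  smul u m := ⟨((u : Rˣ) : R) • (m : M), G_smul u.2 m.2.1, fun h => m.2.2 (by
    have := congrArg (fun x => (((u : Rˣ)⁻¹ : Rˣ) : R) • x) h
    simp only [smul_smul, Units.inv_mul, one_smul, smul_zero] at this
    exact this)⟩
  one_smul m := by
    apply Subtype.ext
    show ((1 : Rˣ) : R) • (m : M) = m
    rw [Units.val_one, one_smul]
  mul_smul u v m := by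
    apply Subtype.ext
    show (((u : Rˣ) * (v : Rˣ) : Rˣ) : R) • (m : M) = ((u : Rˣ) : R) • ((v : Rˣ) : R) • (m : M)
    rw [Units.val_mul, mul_smul]

theorem coe_act {e : R} (u : G e) (m : {m : M // e • m = m ∧ m ≠ 0}) :
    ((u • m : {m : M // e • m = m ∧ m ≠ 0}) : M) = ((u : Rˣ) : R) • (m : M) := rfl

theorem stab [Finite R] (h : ∀ x : R, x + x = 0) {e : R} (he : Pr e) (m : {m : M // e • m = m ∧ m ≠ 0}) :
    IsPGroup 2 (MulAction.stabilizer (G e) m) := by
  rintro ⟨u, hu⟩
  have h1 : ((u : Rˣ) : R) • (m : M) = m := by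
    have := congrArg Subtype.val (MulAction.mem_stabilizer_iff.1 hu)
    exact this
  have h2 : (((u : Rˣ) : R) - 1) • (m : M) = 0 := by rw [sub_smul, one_smul, h1, sub_self]
  rcases nil_or_unit he u.2.1 u.2.2 with ⟨n, hn⟩ | ⟨y, hy1, hy2, hy3, hy4⟩
  · refine ⟨n, ?_⟩
    apply Subtype.ext
    apply Subtype.ext
    apply Units.ext
    show ((u : Rˣ) : R) ^ 2 ^ n = 1
    have h3 : ((u : Rˣ) : R) = 1 + (((u : Rˣ) : R) - 1) := by abel
    rw [h3, one_add_pow h, pow_eq_zero_of_le Nat.lt_two_pow_self.le hn, add_zero]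
  · exfalso
    apply m.2.2
    calc (m : M) = e • (m : M) := m.2.1.symm
      _ = y • (((u : Rˣ) : R) - 1) • (m : M) := by rw [smul_smul, hy4]
      _ = 0 := by rw [h2, smul_zero]

end act

/-- the odd part of `|G e|` -/
noncomputable def odd (e : R) : ℕ := ordCompl[2] (Nat.card (G e))

theorem dvd_of_stab {Γ Ω : Type*} [Group Γ] [Finite Γ] [Finite Ω] [MulAction Γ Ω]
    (h : ∀ x : Ω, IsPGroup 2 (MulAction.stabilizer Γ x)) : ordCompl[2] (Nat.card Γ) ∣ Nat.card Ω := by
  classical
  have : Fintype Γ := Fintype.ofFinite _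
  have : Fintype Ω := Fintype.ofFinite _
  have hf : Fact (Nat.Prime 2) := ⟨Nat.prime_two⟩
  have key : ∀ x : Ω, ordCompl[2] (Nat.card Γ) ∣ Nat.card (MulAction.orbit Γ x) := by
    intro x
    obtain ⟨n, hn⟩ := IsPGroup.iff_card.1 (h x)
    have h1 : Nat.card (MulAction.orbit Γ x) * Nat.card (MulAction.stabilizer Γ x) = Nat.card Γ := by
      rw [← Nat.card_prod]
      exact Nat.card_congr (MulAction.orbitProdStabilizerEquivGroup Γ x)
    rw [hn] at h1
    have h2 : ordCompl[2] (Nat.card Γ) ∣ Nat.card (MulAction.orbit Γ x) * 2 ^ n := by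
      rw [h1]; exact Nat.ordCompl_dvd _ _
    refine Nat.Coprime.dvd_of_dvd_mul_right ?_ h2
    exact (Nat.coprime_ordCompl Nat.prime_two Nat.card_pos.ne').symm.pow_right n
  have h3 : Nat.card Ω = ∑ ω : MulAction.orbitRel.Quotient Γ Ω, Nat.card (MulAction.orbit Γ ω.out) := by
    rw [← Nat.card_sigma]
    exact Nat.card_congr (MulAction.selfEquivSigmaOrbits Γ Ω)
  rw [h3]
  exact Finset.dvd_sum fun ω _ => key _

theorem card_ran {M : Type*} [AddCommGroup M] [Module R M] [Finite M] (e : R) :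
    Nat.card (ran M e) = Nat.card {m : M // e • m = m ∧ m ≠ 0} + 1 := by
  classical
  have : Fintype M := Fintype.ofFinite _
  have h1 : Nat.card (ran M e) = Nat.card (Option {m : M // e • m = m ∧ m ≠ 0}) := by
    refine Nat.card_congr ⟨fun m => if h : (m : M) = 0 then none else some ⟨m, m.2, h⟩,
      fun o => o.elim ⟨0, smul_zero _⟩ fun m => ⟨m, m.2.1⟩, ?_, ?_⟩
    · intro m
      by_cases h : (m : M) = 0
      · simp only [h, dite_true]
        exact Subtype.ext h.symm
      · simp only [h, dite_false]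
        rfl
    · intro o
      cases o with
      | none => simp
      | some m => simp [m.2.2]
  rw [h1, Finite.card_option]

/-- `l ∣ |eM| - 1` -/
theorem odd_dvd [Finite R] (h : ∀ x : R, x + x = 0) {e : R} (he : Pr e) (M : Type*) [AddCommGroup M] [Module R M]
    [Finite M] : odd e ∣ Nat.card (ran M e) - 1 := by
  rw [card_ran, Nat.add_sub_cancel]
  exact dvd_of_stab (stab h he)

/-- `|eN| ≤ l + 1` for a simple module -/
theorem card_simple [Finite R] {e : R} (he : Pr e) (hee : e * e = e) (N : Type*) [AddCommGroup N] [Module R N]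
    [Finite N] (h2 : ∀ n : N, n + n = 0) [IsSimpleModule R N] : Nat.card (ran N e) ≤ odd e + 1 := by
  have hodd : 0 < odd e := Nat.ordCompl_pos _ Nat.card_pos.ne'
  by_cases hne : Nonempty {m : N // e • m = m ∧ m ≠ 0}
  swap
  · have h3 : Nat.card {m : N // e • m = m ∧ m ≠ 0} = 0 := by
      rw [Nat.card_eq_zero]; exact Or.inl (not_nonempty_iff.1 hne)
    rw [card_ran, h3]; omega
  obtain ⟨v⟩ := hne
  -- transitivity
  have htr : MulAction.orbit (G e) v = Set.univ := by
    rw [Set.eq_univ_iff_forall]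
    intro w
    have hgen : ∀ (a b : N), a ≠ 0 → ∃ r : R, r • a = b := by
      intro a b ha
      have h3 : Submodule.span R {a} = ⊤ := by
        rcases eq_bot_or_eq_top (Submodule.span R {a}) with h4 | h4
        · exfalso
          rw [Submodule.span_singleton_eq_bot] at h4
          exact ha h4
        · exact h4
      have h4 : b ∈ Submodule.span R {a} := by rw [h3]; trivial
      exact Submodule.mem_span_singleton.1 h4
    obtain ⟨r, hr⟩ := hgen v w v.2.2
    obtain ⟨s, hs⟩ := hgen w v w.2.2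
    have hv := v.2.1
    have hw := w.2.1
    set a := e * r * e with ha
    set b := e * s * e with hb
    have ea : e * a = a := by rw [ha, ← mul_assoc, ← mul_assoc, hee]
    have ae : a * e = a := by rw [ha, mul_assoc, hee]
    have eb : e * b = b := by rw [hb, ← mul_assoc, ← mul_assoc, hee]
    have be : b * e = b := by rw [hb, mul_assoc, hee]
    have hav : a • (v : N) = w := by rw [ha, mul_smul, mul_smul, hv, hr, hw]
    have hbw : b • (w : N) = v := by rw [hb, mul_smul, mul_smul, hw, hs, hv]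
    have hv0 : ∀ n : ℕ, (b * a) ^ n • (v : N) = v := by
      intro n
      induction n with
      | zero => rw [pow_zero, one_smul]
      | succ n ih => rw [pow_succ, mul_smul, mul_smul, hav, hbw, ih]
    -- `ba` is a unit
    obtain ⟨y, -, -, -, hy⟩ : ∃ y : R, e * y = y ∧ y * e = y ∧ (b * a) * y = e ∧ y * (b * a) = e := by
      rcases nil_or_unit he (x := b * a) (by rw [← mul_assoc, eb]) (by rw [mul_assoc, ae]) with ⟨n, hn⟩ | h4
      · exfalso
        apply v.2.2
        rw [← hv0 n, hn, zero_smul]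
      · exact h4
    obtain ⟨z, ez, ze, haz, hza⟩ : ∃ z : R, e * z = z ∧ z * e = z ∧ a * z = e ∧ z * a = e := by
      rcases nil_or_unit he ea ae with ⟨n, hn⟩ | h4
      · exfalso
        have h5 : ∀ n : ℕ, (y * b) ^ n * a ^ n * e = e := by
          intro n
          induction n with
          | zero => rw [pow_zero, pow_zero, one_mul, one_mul]
          | succ n ih =>
            have h6 : (y * b) ^ (n + 1) * a ^ (n + 1) * e = (y * b) ^ n * (y * (b * a)) * a ^ n * e := by
              rw [pow_succ, pow_succ' a]; noncomm_ring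
            rw [h6, hy]
            rcases Nat.eq_zero_or_pos n with h7 | h7
            · subst h7; rw [pow_zero, pow_zero, one_mul, mul_one, hee]
            · obtain ⟨k, rfl⟩ := Nat.exists_eq_add_of_lt h7
              have h8 : e * a ^ (0 + k + 1) = a ^ (0 + k + 1) := by rw [pow_succ', ← mul_assoc, ea]
              rw [mul_assoc _ e, h8]; exact ih
        have h6 := h5 n
        rw [hn, mul_zero, zero_mul] at h6
        apply v.2.2
        calc (v : N) = e • (v : N) := hv.symm
          _ = (0 : R) • (v : N) := congrArg (fun x : R => x • (v : N)) h6.symm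
          _ = 0 := zero_smul _ _
      · exact h4
    have hu1 : (a + (1 - e)) * (z + (1 - e)) = 1 := by
      have h5 : (a + (1 - e)) * (z + (1 - e)) = a * z + (a - a * e) + (z - e * z) + (1 - e - e + e * e) := by
        noncomm_ring
      rw [h5, haz, ae, ez, hee]; abel
    have hu2 : (z + (1 - e)) * (a + (1 - e)) = 1 := by
      have h5 : (z + (1 - e)) * (a + (1 - e)) = z * a + (z - z * e) + (a - e * a) + (1 - e - e + e * e) := by
        noncomm_ring
      rw [h5, hza, ze, ea, hee]; abel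
    let u : Rˣ := ⟨a + (1 - e), z + (1 - e), hu1, hu2⟩
    have hu : u ∈ G e := by
      show e * ((a + (1 - e)) - 1) = (a + (1 - e)) - 1 ∧ ((a + (1 - e)) - 1) * e = (a + (1 - e)) - 1
      have h5 : a + (1 - e) - 1 = a - e := by abel
      rw [h5, mul_sub, sub_mul, ea, ae, hee]
      exact ⟨rfl, rfl⟩
    refine ⟨⟨u, hu⟩, ?_⟩
    apply Subtype.ext
    show (a + (1 - e)) • (v : N) = w
    rw [add_smul, sub_smul, one_smul, hv, sub_self, add_zero, hav]
  set n := Nat.card {m : N // e • m = m ∧ m ≠ 0} with hn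
  have h3 : n ∣ Nat.card (G e) := by
    have h4 : Nat.card (MulAction.orbit (G e) v) = n := by
      rw [htr]; exact Nat.card_congr (Equiv.Set.univ _)
    rw [← h4, ← Nat.card_congr (MulAction.orbitProdStabilizerEquivGroup (G e) v), Nat.card_prod]
    exact Dvd.intro _ rfl
  have h4 : Nat.Coprime n 2 := by
    have h5 := card_ran (M := N) e
    rw [← hn] at h5
    have h6 : IsPGroup 2 (Multiplicative (ran N e)) := by
      intro x
      refine ⟨1, ?_⟩
      apply Multiplicative.toAdd.injective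
      apply Subtype.ext
      rw [pow_one, toAdd_pow, two_nsmul]
      exact h2 _
    have hf : Fact (Nat.Prime 2) := ⟨Nat.prime_two⟩
    obtain ⟨k, hk⟩ := IsPGroup.iff_card.1 h6
    have hk' : Nat.card (ran N e) = 2 ^ k := hk
    have hn0 : 0 < n := by
      have : Nonempty {m : N // e • m = m ∧ m ≠ 0} := ⟨v⟩
      exact Nat.card_pos
    rw [Nat.coprime_comm, Nat.coprime_two_left, ← Nat.not_even_iff_odd]
    intro h7
    have h8 : k ≠ 0 := by
      rintro rfl
      rw [pow_zero] at hk'
      omega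
    have h9 : Even (Nat.card (ran N e)) := by rw [hk']; exact (Nat.even_pow.2 ⟨even_two, h8⟩)
    rw [h5, Nat.even_add_one] at h9
    exact h9 h7
  have h5 : n ∣ odd e := by
    have h6 : ordProj[2] (Nat.card (G e)) * ordCompl[2] (Nat.card (G e)) = Nat.card (G e) :=
      Nat.ordProj_mul_ordCompl_eq_self _ _
    rw [← h6] at h3
    exact Nat.Coprime.dvd_of_dvd_mul_left (h4.pow_right _) h3
  rw [card_ran]
  have := Nat.le_of_dvd hodd h5
  omega

theorem Pr.op {e : R} (he : Pr e) : Pr (MulOpposite.op e) := by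
  intro f h1 h2 h3
  have h4 := he (unop f) (by rw [← unop_mul, h1]) (by rw [← unop_op e, ← unop_mul, h3])
    (by rw [← unop_op e, ← unop_mul, h2])
  rcases h4 with h5 | h5
  · left; rw [← op_unop f, h5, op_zero]
  · right; rw [← op_unop f, h5]

theorem odd_op (e : R) : odd (MulOpposite.op e) = odd e := by
  have h1 : Nat.card (G (MulOpposite.op e)) = Nat.card (G e) := by
    refine Nat.card_congr (Equiv.subtypeEquiv (Units.opEquiv.toEquiv.trans MulOpposite.opEquiv.symm) fun u => ?_)
    show MulOpposite.op e * ((u : Rᵐᵒᵖ) - 1) = (u : Rᵐᵒᵖ) - 1 ∧ ((u : Rᵐᵒᵖ) - 1) * MulOpposite.op e = (u : Rᵐᵒᵖ) - 1 ↔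
      e * (unop (u : Rᵐᵒᵖ) - 1) = unop (u : Rᵐᵒᵖ) - 1 ∧ (unop (u : Rᵐᵒᵖ) - 1) * e = unop (u : Rᵐᵒᵖ) - 1
    constructor
    · rintro ⟨h2, h3⟩
      have h2' := congrArg unop h2
      have h3' := congrArg unop h3
      exact ⟨by simpa using h3', by simpa using h2'⟩
    · rintro ⟨h2, h3⟩
      exact ⟨unop_injective (by simpa using h3), unop_injective (by simpa using h2)⟩
  rw [odd, odd, h1]

theorem card_split {M : Type*} [AddCommGroup M] [Module R M] {f g : R} (hf : f * f = f) (hg : g * g = g)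
    (hfg : f * g = 0) (hgf : g * f = 0) : Nat.card (ran M (f + g)) = Nat.card (ran M f) * Nat.card (ran M g) := by
  rw [← Nat.card_prod]
  refine Nat.card_congr ⟨fun m => (⟨f • (m : M), ?_⟩, ⟨g • (m : M), ?_⟩), fun x => ⟨x.1 + x.2, ?_⟩, ?_, ?_⟩
  · show f • f • (m : M) = f • (m : M)
    rw [smul_smul, hf]
  · show g • g • (m : M) = g • (m : M)
    rw [smul_smul, hg]
  · show (f + g) • ((x.1 : M) + x.2) = x.1 + x.2
    have h1 : f • (x.1 : M) = x.1 := x.1.2
    have h2 : g • (x.2 : M) = x.2 := x.2.2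
    have h3 : g • (x.1 : M) = 0 := by rw [← h1, smul_smul, hgf, zero_smul]
    have h4 : f • (x.2 : M) = 0 := by rw [← h2, smul_smul, hfg, zero_smul]
    rw [add_smul, smul_add, smul_add, h1, h2, h3, h4, zero_add, add_zero]
  · intro m
    apply Subtype.ext
    have h1 : (f + g) • (m : M) = m := m.2
    show f • (m : M) + g • (m : M) = m
    rw [← add_smul, h1]
  · intro x
    have h1 : f • (x.1 : M) = x.1 := x.1.2
    have h2 : g • (x.2 : M) = x.2 := x.2.2
    have h3 : g • (x.1 : M) = 0 := by rw [← h1, smul_smul, hgf, zero_smul]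
    have h4 : f • (x.2 : M) = 0 := by rw [← h2, smul_smul, hfg, zero_smul]
    apply Prod.ext
    · apply Subtype.ext
      show f • ((x.1 : M) + x.2) = x.1
      rw [smul_add, h1, h4, add_zero]
    · apply Subtype.ext
      show g • ((x.1 : M) + x.2) = x.2
      rw [smul_add, h2, h3, zero_add]

theorem arith {a b l n : ℕ} (hl : Nat.Coprime l 2) (hab : 2 ^ b < 2 ^ a) (ha : l ∣ 2 ^ a - 1) (hb : l ∣ 2 ^ b - 1)
    (hn : n ≤ l + 1) : 2 ^ b * n ≤ 2 ^ a := by
  have h1 := (Nat.pow_lt_pow_iff_right (by norm_num : 1 < 2)).1 hab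
  obtain ⟨c, rfl⟩ := Nat.exists_eq_add_of_lt h1
  have h2 : l ∣ (2 ^ (b + c + 1) - 1) - (2 ^ b - 1) := Nat.dvd_sub ha hb
  have p1 : 0 < 2 ^ b := by positivity
  have h3 : (2 ^ (b + c + 1) - 1) - (2 ^ b - 1) = 2 ^ b * (2 ^ (c + 1) - 1) := by
    have e1 : 2 ^ (b + c + 1) = 2 ^ b * 2 ^ (c + 1) := by rw [← pow_add]; ring_nf
    rw [e1, Nat.mul_sub, mul_one]
    omega
  rw [h3] at h2
  have h4 : l ∣ 2 ^ (c + 1) - 1 := Nat.Coprime.dvd_of_dvd_mul_left (hl.pow_right _) h2
  have h5 : 2 ≤ 2 ^ (c + 1) := by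
    calc 2 = 2 ^ 1 := rfl
      _ ≤ 2 ^ (c + 1) := Nat.pow_le_pow_right (by norm_num) (by omega)
  have h6 := Nat.le_of_dvd (by omega) h4
  have e1 : 2 ^ (b + c + 1) = 2 ^ b * 2 ^ (c + 1) := by rw [← pow_add]; ring_nf
  rw [e1]
  exact Nat.mul_le_mul_left _ (by omega)

theorem card_two_pow {M : Type*} [AddCommGroup M] [Finite M] (h2 : ∀ m : M, m + m = 0) : ∃ k, Nat.card M = 2 ^ k := by
  have h6 : IsPGroup 2 (Multiplicative M) := by
    intro x
    refine ⟨1, ?_⟩
    apply Multiplicative.toAdd.injective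
    rw [pow_one, toAdd_pow, two_nsmul]
    exact h2 _
  have hf : Fact (Nat.Prime 2) := ⟨Nat.prime_two⟩
  obtain ⟨k, hk⟩ := IsPGroup.iff_card.1 h6
  exact ⟨k, hk⟩

/-- the inequality for an idempotent -/
theorem main [Finite R] (h : ∀ x : R, x + x = 0) (W Θ N : Type*) [AddCommGroup W] [Module R W] [Finite W]
    [AddCommGroup Θ] [Module Rᵐᵒᵖ Θ] [Finite Θ] [AddCommGroup N] [Module R N] [Finite N] [IsSimpleModule R N]
    (hW : ∀ w : W, w + w = 0) (hΘ : ∀ w : Θ, w + w = 0) (hN : ∀ w : N, w + w = 0)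
    (h1 : ∀ e : R, e * e = e → ran Θ (op e) ≠ ⊥ → Nat.card (ran Θ (op e)) < Nat.card (ran W e))
    (h2 : ∀ e : R, e * e = e → ran Θ (op e) = ⊥ → ran N e = ⊥) :
    ∀ n : ℕ, ∀ e : R, e * e = e → Nat.card {x : R // e * x = x ∧ x * e = x} ≤ n →
      Nat.card (ran Θ (op e)) * Nat.card (ran N e) ≤ Nat.card (ran W e) := by
  intro n
  have hfin : Finite Rᵐᵒᵖ := Finite.of_equiv R MulOpposite.opEquiv
  induction n with
  | zero =>
    intro e he hn
    exfalso
    have : Nonempty {x : R // e * x = x ∧ x * e = x} := ⟨⟨0, by simp, by simp⟩⟩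
    have : 0 < Nat.card {x : R // e * x = x ∧ x * e = x} := Nat.card_pos
    omega
  | succ n ih =>
    intro e he hn
    by_cases hp : Pr e
    · by_cases h3 : ran Θ (op e) = ⊥
      · rw [h2 e he h3, h3, AddSubgroup.card_bot, AddSubgroup.card_bot]
        exact Nat.card_pos
      · have h4 := h1 e he h3
        obtain ⟨a, ha⟩ := card_two_pow (M := ran W e) fun m => Subtype.ext (hW _)
        obtain ⟨b, hb⟩ := card_two_pow (M := ran Θ (op e)) fun m => Subtype.ext (hΘ _)
        have h5 := odd_dvd h hp W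
        have h6 := odd_dvd (R := Rᵐᵒᵖ) (fun x => unop_injective (h _)) hp.op Θ
        rw [odd_op] at h6
        have h7 := card_simple hp he N hN
        rw [ha] at h4 h5 ⊢
        rw [hb] at h4 h6 ⊢
        exact arith (Nat.coprime_ordCompl Nat.prime_two Nat.card_pos.ne').symm h4 h5 h6 h7
    · rw [Pr] at hp
      push Not at hp
      obtain ⟨f, hf, hef, hfe, hf0, hfne⟩ := hp
      set g := e - f with hg
      have hgg : g * g = g := by
        have : g * g = e * e - e * f - f * e + f * f := by rw [hg]; noncomm_ring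
        rw [this, he, hef, hfe, hf, hg]; abel
      have hfg : f * g = 0 := by rw [hg, mul_sub, hfe, hf, sub_self]
      have hgf : g * f = 0 := by rw [hg, sub_mul, hef, hf, sub_self]
      have heg : e * g = g := by rw [hg, mul_sub, he, hef]
      have hge : g * e = g := by rw [hg, sub_mul, he, hfe]
      have hadd : e = f + g := by rw [hg]; abel
      have key : ∀ k : R, e * k = k → k * e = k → k ≠ e →
          Nat.card {x : R // k * x = x ∧ x * k = x} ≤ n := by
        intro k hek hke hne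
        have h3 : Nat.card {x : R // k * x = x ∧ x * k = x} < Nat.card {x : R // e * x = x ∧ x * e = x} := by
          have h4 : {x : R | k * x = x ∧ x * k = x} ⊂ {x : R | e * x = x ∧ x * e = x} := by
            refine ⟨fun x hx => ⟨?_, ?_⟩, fun h5 => hne ?_⟩
            · rw [← hx.1, ← mul_assoc, hek]
            · rw [← hx.2, mul_assoc, hke]
            · have h6 := (h5 (show e ∈ {x : R | e * x = x ∧ x * e = x} from ⟨he, he⟩)).1
              rw [hke] at h6
              exact h6
          exact Set.ncard_lt_ncard h4 (Set.toFinite _)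
        omega
      have h3 := ih f hf (key f hef hfe hfne)
      have h4 := ih g hgg (key g heg hge (fun h5 => hf0 (by
        have : f = e - g := by rw [hg]; abel
        rw [this, h5, sub_self])))
      rw [hadd, card_split hf hgg hfg hgf, card_split hf hgg hfg hgf, op_add,
        card_split (R := Rᵐᵒᵖ) (f := op f) (g := op g) (unop_injective hf) (unop_injective hgg) (unop_injective hgf)
          (unop_injective hfg)]
      calc _ = (Nat.card (ran Θ (op f)) * Nat.card (ran N f)) * (Nat.card (ran Θ (op g)) * Nat.card (ran N g)) := by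
            ring
        _ ≤ _ := Nat.mul_le_mul h3 h4

end ring

section pairing

variable {W Θ Z : Type*} [AddCommGroup W] [AddCommGroup Θ] [AddCommGroup Z]

/-- annihilator -/
def ann (b : W →+ Θ →+ Z) (E : AddSubgroup Θ) : AddSubgroup W where
  carrier := {w | ∀ θ ∈ E, b w θ = 0}
  zero_mem' := fun θ _ => by rw [map_zero, AddMonoidHom.zero_apply]
  add_mem' := fun {x y} hx hy θ hθ => by rw [map_add, AddMonoidHom.add_apply, hx θ hθ, hy θ hθ, add_zero]
  neg_mem' := fun {x} hx θ hθ => by rw [map_neg, AddMonoidHom.neg_apply, hx θ hθ, neg_zero]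

theorem mem_ann {b : W →+ Θ →+ Z} {E : AddSubgroup Θ} {w : W} : w ∈ ann b E ↔ ∀ θ ∈ E, b w θ = 0 := Iff.rfl

/-- invariant under all adjoint pairs -/
def Inv (b : W →+ Θ →+ Z) (P : AddSubgroup W) : Prop :=
  ∀ (f : W →+ W) (g : Θ →+ Θ), (∀ w θ, b (f w) θ = b w (g θ)) → ∀ w ∈ P, f w ∈ P

/-- the ring of adjoint pairs -/
def Adj (b : W →+ Θ →+ Z) : Subring (AddMonoid.End W × (AddMonoid.End Θ)ᵐᵒᵖ) where
  carrier := {x | ∀ w θ, b (x.1 w) θ = b w ((unop x.2) θ)}
  one_mem' := fun w θ => rfl
  zero_mem' := fun w θ => by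
    show b (0 : W) θ = b w (0 : Θ)
    rw [map_zero, map_zero, AddMonoidHom.zero_apply]
  mul_mem' := fun {x y} hx hy w θ => by
    show b (x.1 (y.1 w)) θ = b w ((unop y.2) ((unop x.2) θ))
    rw [hx, hy]
  add_mem' := fun {x y} hx hy w θ => by
    show b (x.1 w + y.1 w) θ = b w ((unop x.2) θ + (unop y.2) θ)
    rw [map_add, AddMonoidHom.add_apply, map_add, hx, hy]
  neg_mem' := fun {x} hx w θ => by
    show b (-(x.1 w)) θ = b w (-((unop x.2) θ))
    rw [map_neg, AddMonoidHom.neg_apply, map_neg, hx]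

/-- `W` as a module -/
@[reducible] def modW (b : W →+ Θ →+ Z) : Module (Adj b) W :=
  Module.compHom W ((RingHom.fst (AddMonoid.End W) (AddMonoid.End Θ)ᵐᵒᵖ).comp (Adj b).subtype)

/-- the ring hom for `Θ` -/
def homT (b : W →+ Θ →+ Z) : (Adj b)ᵐᵒᵖ →+* AddMonoid.End Θ where
  toFun x := unop ((unop x : Adj b) : AddMonoid.End W × (AddMonoid.End Θ)ᵐᵒᵖ).2
  map_one' := rfl
  map_mul' := fun _ _ => rfl
  map_zero' := rfl
  map_add' := fun _ _ => rfl

/-- `Θ` as a module -/
@[reducible] def modT (b : W →+ Θ →+ Z) : Module (Adj b)ᵐᵒᵖ Θ := Module.compHom Θ (homT b)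

theorem ring_trick [Finite W] [Finite Θ] (b : W →+ Θ →+ Z) (hW : ∀ w : W, w + w = 0) (hΘ : ∀ θ : Θ, θ + θ = 0)
    (hL : ∀ w, (∀ θ, b w θ = 0) → w = 0) (_hR : ∀ θ, (∀ w, b w θ = 0) → θ = 0)
    (nf : ∀ E : AddSubgroup Θ, E ≠ ⊥ → 2 * (Nat.card E * Nat.card (ann b E)) ≤ Nat.card W)
    {P P' : AddSubgroup W} (hP : Inv b P) (hP' : Inv b P') (hlt : P' < P)
    (hmax : ∀ Q : AddSubgroup W, Inv b Q → P' ≤ Q → Q ≤ P → Q = P' ∨ Q = P) :
    Nat.card P * Nat.card Θ ≤ Nat.card P' * Nat.card W := by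
  let _ := modW b
  let _ := modT b
  have hfin : Finite (Adj b) := by
    have h1 : Finite (AddMonoid.End W) := Finite.of_injective (fun f : AddMonoid.End W => (f : W → W)) DFunLike.coe_injective
    have h2 : Finite (AddMonoid.End Θ) := Finite.of_injective (fun f : AddMonoid.End Θ => (f : Θ → Θ)) DFunLike.coe_injective
    have h3 : Finite (AddMonoid.End Θ)ᵐᵒᵖ := Finite.of_equiv _ MulOpposite.opEquiv
    infer_instance
  have hsW : ∀ (r : Adj b) (w : W), r • w = (r : AddMonoid.End W × (AddMonoid.End Θ)ᵐᵒᵖ).1 w := fun _ _ => rfl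
  have hsT : ∀ (r : Adj b) (θ : Θ), (op r) • θ = (unop (r : AddMonoid.End W × (AddMonoid.End Θ)ᵐᵒᵖ).2) θ := fun _ _ => rfl
  have hadj : ∀ (r : Adj b) (w : W) (θ : Θ), b (r • w) θ = b w ((op r) • θ) := fun r w θ => r.2 w θ
  have h2R : ∀ x : Adj b, x + x = 0 := by
    intro x
    apply Subtype.ext
    apply Prod.ext
    · apply AddMonoidHom.ext
      intro w
      exact hW _
    · apply unop_injective
      apply AddMonoidHom.ext
      intro w
      exact hΘ _
  let PS : Submodule (Adj b) W := { P with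
    smul_mem' := fun r w hw => hP r.1.1 (unop r.1.2) r.2 w hw }
  let PS' : Submodule (Adj b) W := { P' with
    smul_mem' := fun r w hw => hP' r.1.1 (unop r.1.2) r.2 w hw }
  have hcov : PS' ⋖ PS := by
    refine ⟨hlt, fun Q h1 h2 => ?_⟩
    have h3 : Inv b Q.toAddSubgroup := fun f g hfg w hw =>
      Q.smul_mem (⟨(f, op g), hfg⟩ : Adj b) hw
    rcases hmax Q.toAddSubgroup h3 h1.le h2.le with h4 | h4
    · exact h1.ne (SetLike.ext fun w => (SetLike.ext_iff.1 h4 w).symm)
    · exact h2.ne (SetLike.ext fun w => (SetLike.ext_iff.1 h4 w))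
  have hsimple := (covBy_iff_quot_is_simple hcov.le).1 hcov
  set N := PS ⧸ Submodule.comap PS.subtype PS' with hN
  have hfinN : Finite N := Finite.of_surjective _ (Submodule.mkQ_surjective _)
  have key := main h2R W Θ N hW hΘ (by
      intro n
      obtain ⟨x, rfl⟩ := Submodule.mkQ_surjective _ n
      rw [← map_add]
      have : x + x = 0 := Subtype.ext (hW _)
      rw [this, map_zero]) ?_ ?_ _ 1 (mul_one 1) le_rfl
  · -- conclusion
    have e1 : ∀ (M : Type _) [AddCommGroup M] [Module (Adj b) M], Nat.card (ran M (1 : Adj b)) = Nat.card M := by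
      intro M _ _
      refine Nat.card_congr ⟨fun m => m, fun m => ⟨m, one_smul _ _⟩, fun _ => rfl, fun _ => rfl⟩
    have e2 : Nat.card (ran Θ (op (1 : Adj b))) = Nat.card Θ := by
      refine Nat.card_congr ⟨fun m => m, fun m => ⟨m, one_smul _ _⟩, fun _ => rfl, fun _ => rfl⟩
    rw [e1 W, e1 N, e2] at key
    have e3 : Nat.card P = Nat.card P' * Nat.card N := by
      have h1 := Submodule.card_eq_card_quotient_mul_card (Submodule.comap PS.subtype PS')
      have h2 : Nat.card (Submodule.comap PS.subtype PS') = Nat.card P' := by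
        refine Nat.card_congr ⟨fun m => ⟨m, m.2⟩, fun m => ⟨⟨m, hlt.le m.2⟩, m.2⟩, fun _ => rfl, fun _ => rfl⟩
      rw [h2] at h1
      exact h1
    calc Nat.card P * Nat.card Θ = Nat.card P' * (Nat.card Θ * Nat.card N) := by rw [e3]; ring
      _ ≤ _ := Nat.mul_le_mul_left _ key
  · intro e he hne
    have h1 := nf (ran Θ (op e)) hne
    have hann : ∀ w : W, w ∈ ann b (ran Θ (op e)) ↔ e • w = 0 := by
      intro w
      constructor
      · intro hw
        apply hL
        intro θ
        rw [hadj]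
        apply hw
        show op e • op e • θ = op e • θ
        rw [smul_smul, ← op_mul, he]
      · intro hw θ hθ
        have h4 : op e • θ = θ := hθ
        rw [← h4, ← hadj, hw, map_zero, AddMonoidHom.zero_apply]
    have h3 : Nat.card W = Nat.card (ran W e) * Nat.card (ann b (ran Θ (op e))) := by
      rw [← Nat.card_prod]
      refine Nat.card_congr ⟨fun w => (⟨e • w, ?_⟩, ⟨w - e • w, ?_⟩), fun x => x.1 + x.2, ?_, ?_⟩
      · show e • e • w = e • w
        rw [smul_smul, he]
      · rw [hann, smul_sub, smul_smul, he, sub_self]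
      · intro w
        show e • w + (w - e • w) = w
        abel
      · intro x
        have h4 : e • (x.1 : W) = x.1 := x.1.2
        have h5 : e • (x.2 : W) = 0 := (hann _).1 x.2.2
        have h6 : e • ((x.1 : W) + x.2) = x.1 := by rw [smul_add, h4, h5, add_zero]
        apply Prod.ext
        · exact Subtype.ext h6
        · apply Subtype.ext
          show (x.1 : W) + x.2 - e • ((x.1 : W) + x.2) = x.2
          rw [h6]; abel
    have p1 : 0 < Nat.card (ann b (ran Θ (op e))) := Nat.card_pos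
    have p2 : 0 < Nat.card (ran Θ (op e)) := Nat.card_pos
    rw [h3, ← mul_assoc] at h1
    have := Nat.le_of_mul_le_mul_right h1 p1
    omega
  · intro e he h0
    have h1 : ∀ θ : Θ, op e • θ = 0 := by
      intro θ
      have h2 : op e • θ ∈ ran Θ (op e) := by
        show op e • op e • θ = op e • θ
        rw [smul_smul, ← op_mul, he]
      rwa [h0] at h2
    have h3 : ∀ w : W, e • w = 0 := fun w => hL _ fun θ => by rw [hadj, h1, map_zero]
    rw [eq_bot_iff]
    intro n hn
    obtain ⟨x, rfl⟩ := Submodule.mkQ_surjective _ n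
    have h4 : e • x = 0 := Subtype.ext (h3 x)
    have h5 : e • Submodule.mkQ (Submodule.comap PS.subtype PS') x = Submodule.mkQ (Submodule.comap PS.subtype PS') x := hn
    rw [← map_smul, h4, map_zero] at h5
    rw [← h5]
    exact AddSubgroup.zero_mem _

end pairing

end Cfsg.Agent.Omega.NO3b.TheoremL.Ring
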