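import Cfsg.Agent.Omega.NO3b.TheoremL.RingTrick

/-!
# The ring trick for a pairing (helper344, bb OMEGA 18749 (4), (5))

`β : W × T → Z` a nondegenerate pairing of finite abelian groups such that `2 |B| |B^⊥| ≤ |W|` for all
`1 ≠ B ≤ T`.  An endomorphism `a` of `W` is *adjoint* if `β (a w) t = β w (b t)` for some endomorphism `b` of `T`.
If `W ≠ 0` there is a subgroup `N ≠ 0` of `W`, invariant under all adjoint endomorphisms, with `|T| |N| ≤ |W|`.
In the case of equality for all such `N` the group `W` has a chain of invariant subgroups with factors isomorphic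
to `N`.

Author: helper705 (text: helper344).
-/

set_option linter.unusedSectionVars false

namespace Cfsg.Agent.Omega.NO3b.TheoremL.RingTrick

open MulOpposite

/-! ### left and right modules -/

/-- `|e M|` is a power of `q` -/
theorem Prim.c_pow' {R : Type*} [Ring R] [Finite R] {e : R} (h : Prim e) {q : ℕ}
    (hq : Nat.card R = Nat.card {r : R // IsNilpotent (e * r * e)} * q) :
    ∀ (n : ℕ) (M : Type*) [AddCommGroup M] [Module R M] [Finite M], Nat.card M = n → ∃ k, c e M = q ^ k := by
  intro n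
  induction n using Nat.strong_induction_on with
  | _ n ih =>
    intro M _ _ _ hM
    rcases IsAtomic.eq_bot_or_exists_atom_le (⊤ : Submodule R M) with h1 | ⟨S, hS, _⟩
    · refine ⟨0, ?_⟩
      rw [pow_zero]
      apply c_eq_one
      intro m
      have : m ∈ (⊤ : Submodule R M) := trivial
      rw [h1, Submodule.mem_bot] at this
      rw [this, smul_zero]
    · have hS' : IsSimpleModule R S := isSimpleModule_iff_isAtom.2 hS
      have hfin : Finite (M ⧸ S) := Finite.of_surjective _ S.mkQ_surjective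
      have h2 : Nat.card (M ⧸ S) < n := by
        have h3 := Submodule.card_eq_card_quotient_mul_card S
        have h4 : 1 < Nat.card S := by
          have : Nontrivial S := IsSimpleModule.nontrivial R S
          exact Finite.one_lt_card
        rw [← hM, h3]
        have h5 : 0 < Nat.card (M ⧸ S) := Nat.card_pos
        nlinarith
      obtain ⟨k, hk⟩ := ih _ h2 (M ⧸ S) rfl
      rw [c_sub h.idem S, hk]
      by_cases h6 : ∃ v : S, e • v ≠ 0
      · have h7 := h.card_eq h6
        have h8 : c e S = q := by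
          rw [hq] at h7
          refine (Nat.eq_of_mul_eq_mul_left ?_ h7).symm
          have : Nonempty {r : R // IsNilpotent (e * r * e)} :=
            ⟨⟨0, by rw [mul_zero, zero_mul]; exact IsNilpotent.zero⟩⟩
          exact Nat.card_pos
        exact ⟨k + 1, by rw [h8, pow_succ, mul_comm]⟩
      · push Not at h6
        exact ⟨k, by rw [c_eq_one h6, one_mul]⟩

theorem nilp_op {R : Type*} [Ring R] (a : R) : IsNilpotent (op a) ↔ IsNilpotent a := by
  constructor
  · rintro ⟨n, hn⟩
    exact ⟨n, op_injective (by rw [op_pow, hn, op_zero])⟩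
  · rintro ⟨n, hn⟩
    exact ⟨n, by rw [← op_pow, hn, op_zero]⟩

theorem Prim.op {R : Type*} [Ring R] {e : R} (h : Prim e) : Prim (MulOpposite.op e) where
  idem := by rw [← op_mul, h.idem]
  ne := fun e0 => h.ne (op_injective (by rw [e0, op_zero]))
  prim := by
    intro f hf h1 h2
    have hf' : f = MulOpposite.op f.unop := rfl
    rw [hf'] at hf h1 h2 ⊢
    rw [← op_mul] at hf h1 h2
    rcases h.prim f.unop (op_injective hf) (op_injective h2) (op_injective h1) with h3 | h3
    · left; rw [h3, op_zero]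
    · right; rw [h3]

theorem card_nilp_op {R : Type*} [Ring R] (e : R) :
    Nat.card {r : Rᵐᵒᵖ // IsNilpotent (op e * r * op e)} = Nat.card {r : R // IsNilpotent (e * r * e)} := by
  symm
  refine Nat.card_congr (Equiv.subtypeEquiv opEquiv fun r => ?_)
  change _ ↔ IsNilpotent (op e * op r * op e)
  rw [← op_mul, ← op_mul, nilp_op, mul_assoc]

section right

variable {R : Type*} [Ring R] [Finite R] {W T N : Type*} [AddCommGroup W] [Module R W] [Finite W] [AddCommGroup T]
  [Module Rᵐᵒᵖ T] [Finite T] [AddCommGroup N] [Module R N] [Finite N] [IsSimpleModule R N]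
  (hNT : ∀ r : R, (∀ t : T, op r • t = 0) → ∀ n : N, r • n = 0)
  (h : ∀ r : R, (∃ t : T, op r • t ≠ 0) → 2 * c (op r) T ≤ c r W)

include hNT h

theorem right_prim {e : R} (he : Prim e) : c (op e) T * c e N ≤ c e W := by
  by_cases h1 : ∃ t : T, op e • t ≠ 0
  · by_cases h2 : ∃ n : N, e • n ≠ 0
    · have hop : Finite Rᵐᵒᵖ := Finite.of_injective unop unop_injective
      have hq : Nat.card Rᵐᵒᵖ = Nat.card {r : Rᵐᵒᵖ // IsNilpotent (op e * r * op e)} * c e N := by
        rw [card_nilp_op, ← he.card_eq h2]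
        exact Nat.card_congr opEquiv.symm
      obtain ⟨a, ha⟩ := he.op.c_pow' hq _ T rfl
      obtain ⟨b, hb⟩ := he.c_pow h2 _ W rfl
      have h3 := h e h1
      have h4 := two_le_c h2
      rw [ha, hb] at h3 ⊢
      rw [← pow_succ]
      apply Nat.pow_le_pow_right (by omega)
      by_contra h5
      have h6 : c e N ^ b ≤ c e N ^ a := Nat.pow_le_pow_right (by omega) (by omega)
      have h7 : 0 < c e N ^ a := by positivity
      omega
    · push Not at h2
      rw [c_eq_one h2, mul_one]
      have h3 := h e h1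
      omega
  · push Not at h1
    rw [c_eq_one h1, c_eq_one (hNT e h1), mul_one]
    exact c_pos e

theorem right_idem : ∀ (n : ℕ) (e : R), c e R = n → e * e = e → c (op e) T * c e N ≤ c e W := by
  intro n
  induction n using Nat.strong_induction_on with
  | _ n ih =>
    intro e hn he
    by_cases hp : Prim e
    · exact right_prim hNT h hp
    by_cases h0 : e = 0
    · subst h0
      rw [c_eq_one (fun m => by rw [op_zero, zero_smul]), c_eq_one (fun m => zero_smul R m), mul_one]
      exact c_pos 0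
    obtain ⟨f, hf, h1, h2, h3, h4⟩ : ∃ f : R, f * f = f ∧ e * f = f ∧ f * e = f ∧ f ≠ 0 ∧ f ≠ e := by
      by_contra hcon
      apply hp
      refine ⟨he, h0, fun f hf h1 h2 => ?_⟩
      by_contra h3
      push Not at h3
      exact hcon ⟨f, hf, h1, h2, h3.1, h3.2⟩
    have hg : (e - f) * (e - f) = e - f := by
      rw [mul_sub, sub_mul, sub_mul, he, hf, h1, h2]; abel
    have hfg : f * (e - f) = 0 := by rw [mul_sub, h2, hf, sub_self]
    have hgf : (e - f) * f = 0 := by rw [sub_mul, h1, hf, sub_self]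
    have h5 : c e R = c f R * c (e - f) R := by
      conv_lhs => rw [show e = f + (e - f) by abel]
      exact c_add hf hg hfg hgf
    have hT : c (op e) T = c (op f) T * c (op (e - f)) T := by
      conv_lhs => rw [show e = f + (e - f) by abel, op_add]
      exact c_add (by rw [← op_mul, hf]) (by rw [← op_mul, hg]) (by rw [← op_mul, hgf, op_zero])
        (by rw [← op_mul, hfg, op_zero])
    have hN : c e N = c f N * c (e - f) N := by
      conv_lhs => rw [show e = f + (e - f) by abel]
      exact c_add hf hg hfg hgf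
    have hW : c e W = c f W * c (e - f) W := by
      conv_lhs => rw [show e = f + (e - f) by abel]
      exact c_add hf hg hfg hgf
    have h6 : 2 ≤ c f R := two_le_c ⟨1, by rw [smul_eq_mul, mul_one]; exact h3⟩
    have h7 : 2 ≤ c (e - f) R := two_le_c ⟨1, by rw [smul_eq_mul, mul_one]; exact sub_ne_zero.2 h4.symm⟩
    have h8 := ih (c f R) (by rw [← hn, h5]; nlinarith) f rfl hf
    have h9 := ih (c (e - f) R) (by rw [← hn, h5]; nlinarith) (e - f) rfl hg
    rw [hT, hN, hW]
    calc c (op f) T * c (op (e - f)) T * (c f N * c (e - f) N) =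
        (c (op f) T * c f N) * (c (op (e - f)) T * c (e - f) N) := by ring
      _ ≤ _ := Nat.mul_le_mul h8 h9

/-- **the ring trick**, right module version -/
theorem right_trick : Nat.card T * Nat.card N ≤ Nat.card W := by
  have h1 := right_idem hNT h _ (1 : R) rfl (mul_one 1)
  rwa [op_one, c_one, c_one, c_one] at h1

theorem right_eq_idem (heq : Nat.card W = Nat.card T * Nat.card N) {e : R} (he : e * e = e) :
    c e W = c (op e) T * c e N := by
  have hg : (1 - e) * (1 - e) = 1 - e := by
    rw [mul_sub, sub_mul, sub_mul, he, one_mul, one_mul, mul_one]; abel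
  have heg : e * (1 - e) = 0 := by rw [mul_sub, he, mul_one, sub_self]
  have hge : (1 - e) * e = 0 := by rw [sub_mul, he, one_mul, sub_self]
  have hW : Nat.card W = c e W * c (1 - e) W := by
    rw [← c_one (R := R) (M := W), show (1 : R) = e + (1 - e) by abel]
    conv_rhs => rw [show e + (1 - e) - e = 1 - e by abel]
    exact c_add he hg heg hge
  have hT : Nat.card T = c (op e) T * c (op (1 - e)) T := by
    rw [← c_one (R := Rᵐᵒᵖ) (M := T), ← op_one, show (1 : R) = e + (1 - e) by abel, op_add]
    conv_rhs => rw [show e + (1 - e) - e = 1 - e by abel]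
    exact c_add (by rw [← op_mul, he]) (by rw [← op_mul, hg]) (by rw [← op_mul, hge, op_zero])
      (by rw [← op_mul, heg, op_zero])
  have hN : Nat.card N = c e N * c (1 - e) N := by
    rw [← c_one (R := R) (M := N), show (1 : R) = e + (1 - e) by abel]
    conv_rhs => rw [show e + (1 - e) - e = 1 - e by abel]
    exact c_add he hg heg hge
  have h1 := right_idem hNT h _ e rfl he
  have h2 := right_idem hNT h _ (1 - e) rfl hg
  rw [hW, hT, hN] at heq
  apply le_antisymm _ h1
  have h3 : c e W * c (1 - e) W = (c (op e) T * c e N) * (c (op (1 - e)) T * c (1 - e) N) := by rw [heq]; ring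
  have h4 : c e W * c (1 - e) W ≤ (c (op e) T * c e N) * c (1 - e) W := by
    rw [h3]; exact Nat.mul_le_mul_left _ h2
  exact Nat.le_of_mul_le_mul_right h4 (c_pos _)

/-- equality: every simple factor of `W` is isomorphic to `N` -/
theorem right_eq_iso (heq : Nat.card W = Nat.card T * Nat.card N) {S : Type*} [AddCommGroup S] [Module R S]
    [IsSimpleModule R S] (hSW : ∀ r : R, (∀ w : W, r • w = 0) → ∀ s : S, r • s = 0) :
    Nonempty (S ≃ₗ[R] N) := by
  have hSn : Nontrivial S := IsSimpleModule.nontrivial R S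
  obtain ⟨s, hs⟩ := exists_ne (0 : S)
  obtain ⟨e, he, -, -, v₀, hv₀⟩ := exists_prim (S := S) _ (1 : R) rfl (mul_one 1) ⟨s, by rwa [one_smul]⟩
  have hW : ∃ w : W, e • w ≠ 0 := by
    by_contra hcon
    push Not at hcon
    exact hv₀ (hSW e hcon v₀)
  have h1 := right_eq_idem hNT h heq he.idem
  have h2 := two_le_c hW
  have hM : ∃ t : T, op e • t ≠ 0 := by
    by_contra hcon
    push Not at hcon
    rw [c_eq_one hcon, c_eq_one (hNT e hcon)] at h1
    omega
  have h3 := h e hM
  have hN : ∃ n : N, e • n ≠ 0 := by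
    by_contra hcon
    push Not at hcon
    rw [c_eq_one hcon, mul_one] at h1
    have hpos : 0 < c (op e) T := c_pos _
    omega
  exact iso_of_prim he ⟨v₀, hv₀⟩ hN

end right

/-! ### pairings -/

section pair

variable {W T Z : Type*} [AddCommGroup W] [AddCommGroup T] [AddCommGroup Z] (β : W →+ T →+ Z)

/-- `b` is an adjoint of `a` -/
def Adj (a : AddMonoid.End W) (b : AddMonoid.End T) : Prop := ∀ w t, β (a w) t = β w (b t)

/-- the ring of adjoint pairs -/
def AdjR : Subring (AddMonoid.End W × (AddMonoid.End T)ᵐᵒᵖ) where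
  carrier := {p | Adj β p.1 p.2.unop}
  mul_mem' := by
    intro p q hp hq w t
    change β (p.1 (q.1 w)) t = β w (q.2.unop (p.2.unop t))
    rw [hp, hq]
  one_mem' := fun w t => rfl
  add_mem' := by
    intro p q hp hq w t
    change β (p.1 w + q.1 w) t = β w (p.2.unop t + q.2.unop t)
    rw [map_add, map_add, AddMonoidHom.add_apply, hp, hq]
  zero_mem' := by
    intro w t
    change β (0 : W) t = β w (0 : T)
    rw [map_zero, map_zero]; rfl
  neg_mem' := by
    intro p hp w t
    change β (-(p.1 w)) t = β w (-(p.2.unop t))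
    rw [map_neg, map_neg, AddMonoidHom.neg_apply, hp]

/-- `W` is a left module -/
@[reducible] def modW : Module (AdjR β) W :=
  Module.compHom W ((RingHom.fst (AddMonoid.End W) (AddMonoid.End T)ᵐᵒᵖ).comp (AdjR β).subtype)

/-- the action on `T` -/
def rhoT : (AdjR β)ᵐᵒᵖ →+* AddMonoid.End T where
  toFun r := r.unop.1.2.unop
  map_one' := rfl
  map_mul' _ _ := rfl
  map_zero' := rfl
  map_add' _ _ := rfl

/-- `T` is a right module -/
@[reducible] def modT : Module (AdjR β)ᵐᵒᵖ T := Module.compHom T (rhoT β)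

attribute [local instance] modW modT

theorem smulW (r : AdjR β) (w : W) : r • w = r.1.1 w := rfl

theorem smulT (r : AdjR β) (t : T) : op r • t = r.1.2.unop t := rfl

variable [Finite W] [Finite T]

instance finite_AdjR : Finite (AdjR β) := by
  have h1 : Finite (AddMonoid.End W) := DFunLike.finite (AddMonoid.End W)
  have h2 : Finite (AddMonoid.End T) := DFunLike.finite (AddMonoid.End T)
  have h3 : Finite (AddMonoid.End T)ᵐᵒᵖ := Finite.of_injective unop unop_injective
  exact Finite.of_injective (fun r : AdjR β => r.1) Subtype.val_injective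

variable (hl : ∀ w, (∀ t, β w t = 0) → w = 0)
  (NF : ∀ B : AddSubgroup T, B ≠ ⊥ → 2 * Nat.card B * Nat.card {w : W // ∀ b ∈ B, β w b = 0} ≤ Nat.card W)

include hl

theorem faithful {r : AdjR β} (h : ∀ t : T, op r • t = 0) : r = 0 := by
  have h1 : r.1.2 = 0 := by
    apply unop_injective
    ext t
    exact h t
  have h2 : r.1.1 = 0 := by
    ext w
    apply hl
    intro t
    have h3 := r.2 w t
    rw [h3, h1]
    change β w (0 : T) = 0
    rw [map_zero]
  exact Subtype.ext (Prod.ext h2 h1)

include NF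

theorem two_mul_le (r : AdjR β) (hr : ∃ t : T, op r • t ≠ 0) : 2 * c (op r) T ≤ c r W := by
  set B : AddSubgroup T := (mu (op r) T).range with hB
  have hB0 : B ≠ ⊥ := by
    obtain ⟨t, ht⟩ := hr
    intro h0
    apply ht
    have h1 : op r • t ∈ B := ⟨t, rfl⟩
    rwa [h0, AddSubgroup.mem_bot] at h1
  have h1 := NF B hB0
  have h2 : Nat.card {w : W // ∀ b ∈ B, β w b = 0} = Nat.card (mu r W).ker := by
    refine Nat.card_congr (Equiv.subtypeEquivRight fun w => ?_)
    change _ ↔ r • w = 0
    constructor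
    · intro h3
      apply hl
      intro t
      rw [smulW, r.2 w t]
      exact h3 _ ⟨t, rfl⟩
    · rintro h3 _ ⟨t, rfl⟩
      change β w (op r • t) = 0
      rw [smulT, ← r.2 w t, ← smulW, h3, map_zero]; rfl
  have h3 : Nat.card W = c r W * Nat.card (mu r W).ker := by
    have h4 := (mu r W).ker.card_mul_index
    rw [AddSubgroup.index_ker] at h4
    rw [← h4, c, mul_comm]
  rw [h2, h3] at h1
  exact Nat.le_of_mul_le_mul_right h1 Nat.card_pos

/-- every invariant minimal subgroup works -/
theorem le_of_simple {N : Type*} [AddCommGroup N] [Module (AdjR β) N] [Finite N] [IsSimpleModule (AdjR β) N] :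
    Nat.card T * Nat.card N ≤ Nat.card W :=
  right_trick (fun r hr n => by rw [faithful β hl hr, zero_smul]) (two_mul_le β hl NF)

/-- **the ring trick for a pairing** -/
theorem exists_le [Nontrivial W] : ∃ N : AddSubgroup W, N ≠ ⊥ ∧
    (∀ a b, Adj β a b → ∀ n ∈ N, a n ∈ N) ∧ Nat.card T * Nat.card N ≤ Nat.card W := by
  rcases IsAtomic.eq_bot_or_exists_atom_le (⊤ : Submodule (AdjR β) W) with h1 | ⟨S, hS, _⟩
  · exfalso
    obtain ⟨w, hw⟩ := exists_ne (0 : W)
    apply hw
    have : w ∈ (⊤ : Submodule (AdjR β) W) := trivial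
    rwa [h1, Submodule.mem_bot] at this
  · have hS' : IsSimpleModule (AdjR β) S := isSimpleModule_iff_isAtom.2 hS
    refine ⟨S.toAddSubgroup, ?_, ?_, ?_⟩
    · intro h0
      apply hS.1
      rw [eq_bot_iff]
      intro x hx
      have h2 : x ∈ S.toAddSubgroup := hx
      rw [h0, AddSubgroup.mem_bot] at h2
      rw [Submodule.mem_bot]; exact h2
    · intro a b hab n hn
      exact S.smul_mem (⟨(a, op b), hab⟩ : AdjR β) hn
    · exact le_of_simple β hl NF (N := S)

/-- **equality** -/
theorem eq_chain [Nontrivial W] {q : ℕ}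
    (hq : ∀ N : AddSubgroup W, N ≠ ⊥ → (∀ a b, Adj β a b → ∀ n ∈ N, a n ∈ N) → q ≤ Nat.card N)
    (heq : Nat.card W = Nat.card T * q) :
    ∃ N : AddSubgroup W, ∃ hN : (∀ a b, Adj β a b → ∀ n ∈ N, a n ∈ N), Nat.card N = q ∧
      ∀ B : AddSubgroup W, (∀ a b, Adj β a b → ∀ n ∈ B, a n ∈ B) → B ≠ ⊤ →
        ∃ C : AddSubgroup W, ∃ hC : (∀ a b, Adj β a b → ∀ n ∈ C, a n ∈ C), B ≤ C ∧
          ∃ f : C →+ N, Function.Surjective f ∧ (∀ x, f x = 0 ↔ x.1 ∈ B) ∧
            ∀ a b (hab : Adj β a b) (x : C), f ⟨a x.1, hC a b hab x.1 x.2⟩ = ⟨a (f x).1, hN a b hab _ (f x).2⟩ := by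
  rcases IsAtomic.eq_bot_or_exists_atom_le (⊤ : Submodule (AdjR β) W) with h1 | ⟨S, hS, _⟩
  · exfalso
    obtain ⟨w, hw⟩ := exists_ne (0 : W)
    apply hw
    have : w ∈ (⊤ : Submodule (AdjR β) W) := trivial
    rwa [h1, Submodule.mem_bot] at this
  have hS' : IsSimpleModule (AdjR β) S := isSimpleModule_iff_isAtom.2 hS
  have hSinv : ∀ a b, Adj β a b → ∀ n ∈ S.toAddSubgroup, a n ∈ S.toAddSubgroup :=
    fun a b hab n hn => S.smul_mem (⟨(a, op b), hab⟩ : AdjR β) hn
  have hS0 : S.toAddSubgroup ≠ ⊥ := by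
    intro h0
    apply hS.1
    rw [eq_bot_iff]
    intro x hx
    have h2 : x ∈ S.toAddSubgroup := hx
    rw [h0, AddSubgroup.mem_bot] at h2
    rw [Submodule.mem_bot]; exact h2
  have h2 := le_of_simple β hl NF (N := S)
  have h3 : q ≤ Nat.card S := hq _ hS0 hSinv
  have h4 : Nat.card S = q := by
    rw [heq] at h2
    exact le_antisymm (Nat.le_of_mul_le_mul_left h2 Nat.card_pos) h3
  refine ⟨S.toAddSubgroup, hSinv, h4, fun B hB hBt => ?_⟩
  -- `B` as a submodule
  let B' : Submodule (AdjR β) W :=
    { B with smul_mem' := fun r x hx => hB r.1.1 r.1.2.unop r.2 x hx }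
  have hB't : B' ≠ ⊤ := by
    intro h5
    apply hBt
    rw [eq_top_iff]
    intro x _
    have : x ∈ B' := by rw [h5]; trivial
    exact this
  rcases IsAtomic.eq_bot_or_exists_atom_le (⊤ : Submodule (AdjR β) (W ⧸ B')) with h5 | ⟨A, hA, _⟩
  · exfalso
    apply hB't
    rw [eq_top_iff]
    intro x _
    have h6 : B'.mkQ x ∈ (⊤ : Submodule (AdjR β) (W ⧸ B')) := trivial
    rwa [h5, Submodule.mem_bot, Submodule.mkQ_apply, Submodule.Quotient.mk_eq_zero] at h6
  have hA' : IsSimpleModule (AdjR β) A := isSimpleModule_iff_isAtom.2 hA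
  obtain ⟨g⟩ := right_eq_iso (R := AdjR β) (W := W) (T := T) (N := S)
    (fun r hr n => by rw [faithful β hl hr, zero_smul]) (two_mul_le β hl NF) (by rw [h4]; exact heq)
    (S := A) (fun r hr s => by
      ext1
      obtain ⟨y, hy⟩ := B'.mkQ_surjective s.1
      change r • s.1 = 0
      rw [← hy, ← map_smul, hr y, map_zero])
  let C : Submodule (AdjR β) W := A.comap B'.mkQ
  have hCinv : ∀ a b, Adj β a b → ∀ n ∈ C.toAddSubgroup, a n ∈ C.toAddSubgroup :=
    fun a b hab n hn => C.smul_mem (⟨(a, op b), hab⟩ : AdjR β) hn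
  let φ : C →ₗ[AdjR β] A := B'.mkQ.restrict (p := C) (q := A) (fun x hx => hx)
  let F : C →ₗ[AdjR β] S := g.toLinearMap.comp φ
  refine ⟨C.toAddSubgroup, hCinv, ?_, F.toAddMonoidHom, ?_, ?_, ?_⟩
  · intro x hx
    change B'.mkQ x ∈ A
    have h6 : B'.mkQ x = 0 := by
      rw [Submodule.mkQ_apply, Submodule.Quotient.mk_eq_zero]; exact hx
    rw [h6]; exact A.zero_mem
  · intro y
    obtain ⟨z, hz⟩ := g.surjective y
    obtain ⟨x, hx⟩ := B'.mkQ_surjective z.1
    have hxC : x ∈ C := by
      change B'.mkQ x ∈ A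
      rw [hx]; exact z.2
    refine ⟨⟨x, hxC⟩, ?_⟩
    change g (φ ⟨x, hxC⟩) = y
    rw [← hz]
    congr 1
    ext1
    exact hx
  · intro x
    change g (φ x) = 0 ↔ _
    rw [LinearEquiv.map_eq_zero_iff]
    constructor
    · intro h6
      have h7 : B'.mkQ x.1 = 0 := congrArg Subtype.val h6
      rw [Submodule.mkQ_apply, Submodule.Quotient.mk_eq_zero] at h7
      exact h7
    · intro h6
      ext1
      change B'.mkQ x.1 = 0
      rw [Submodule.mkQ_apply, Submodule.Quotient.mk_eq_zero]
      exact h6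
  · intro a b hab x
    have h6 := F.map_smul (⟨(a, op b), hab⟩ : AdjR β) x
    exact h6

end pair

end Cfsg.Agent.Omega.NO3b.TheoremL.RingTrick
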