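import Mathlib

/-!
# The ring trick (helper344, bb OMEGA 18749 (4))

`R` a finite ring, `W`, `M` finite `R`-modules such that `2 |r M| ≤ |r W|` whenever `r M ≠ 0`.  Then
`|M| |N| ≤ |W|` for every simple `R`-module `N` killed by the annihilator of `M`.  In the case of equality every
simple module killed by the annihilator of `W` is isomorphic to `N`.

Author: helper705 (text: helper344).
-/

set_option linter.unusedSectionVars false

namespace Cfsg.Agent.Omega.NO3b.TheoremL.RingTrick

variable {R : Type*} [Ring R]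

/-- multiplication by `r` -/
def mu (r : R) (M : Type*) [AddCommGroup M] [Module R M] : M →+ M := DistribSMul.toAddMonoidHom M r

/-- `|r M|` -/
noncomputable def c (r : R) (M : Type*) [AddCommGroup M] [Module R M] : ℕ := Nat.card (mu r M).range

section

variable {M : Type*} [AddCommGroup M] [Module R M]

@[simp] theorem mu_apply (r : R) (m : M) : mu r M m = r • m := rfl

theorem mem_range {r : R} {m : M} : m ∈ (mu r M).range ↔ ∃ x, r • x = m := Iff.rfl

theorem c_one [Finite M] : c (1 : R) M = Nat.card M := by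
  have h : (mu (1 : R) M).range = ⊤ := by
    rw [eq_top_iff]
    intro x _
    exact ⟨x, one_smul R x⟩
  rw [c, h]
  exact AddSubgroup.card_top

theorem c_pos [Finite M] (r : R) : 0 < c r M := Nat.card_pos

theorem c_eq_one {r : R} (h : ∀ m : M, r • m = 0) : c r M = 1 := by
  have h1 : (mu r M).range = ⊥ := by
    rw [eq_bot_iff]
    rintro _ ⟨x, rfl⟩
    exact h x
  rw [c, h1]
  exact AddSubgroup.card_bot

theorem two_le_c [Finite M] {r : R} (h : ∃ m : M, r • m ≠ 0) : 2 ≤ c r M := by
  obtain ⟨m, hm⟩ := h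
  have : Nontrivial (mu r M).range := ⟨⟨⟨r • m, m, rfl⟩, 0, fun e => hm (congrArg Subtype.val e)⟩⟩
  exact Finite.one_lt_card

/-- orthogonal idempotents -/
theorem c_add [Finite M] {f g : R} (hf : f * f = f) (hg : g * g = g) (hfg : f * g = 0) (hgf : g * f = 0) :
    c (f + g) M = c f M * c g M := by
  rw [c, c, c, ← Nat.card_prod]
  symm
  refine Nat.card_congr (Equiv.ofBijective
    (fun p : (mu f M).range × (mu g M).range => (⟨p.1.1 + p.2.1, ?_⟩ : (mu (f + g) M).range)) ⟨?_, ?_⟩)
  · obtain ⟨⟨_, x, rfl⟩, ⟨_, y, rfl⟩⟩ := p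
    refine ⟨f • x + g • y, ?_⟩
    change (f + g) • (f • x + g • y) = f • x + g • y
    rw [smul_add, add_smul, add_smul, smul_smul, smul_smul, smul_smul, smul_smul, hf, hg, hfg, hgf,
      zero_smul, zero_smul, add_zero, zero_add]
  · rintro ⟨⟨_, x, rfl⟩, ⟨_, y, rfl⟩⟩ ⟨⟨_, x', rfl⟩, ⟨_, y', rfl⟩⟩ h
    have h1 : f • x + g • y = f • x' + g • y' := congrArg Subtype.val h
    have h2 : f • x = f • x' := by
      have := congrArg (fun m => f • m) h1
      simp only [smul_add, smul_smul, hf, hfg, zero_smul, add_zero] at this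
      exact this
    have h3 : g • y = g • y' := by
      rw [h2] at h1
      exact add_left_cancel h1
    exact Prod.ext (Subtype.ext h2) (Subtype.ext h3)
  · rintro ⟨_, x, rfl⟩
    refine ⟨⟨⟨f • x, x, rfl⟩, ⟨g • x, x, rfl⟩⟩, ?_⟩
    ext1
    exact (add_smul f g x).symm

/-- submodules and quotients -/
theorem c_sub [Finite M] {e : R} (he : e * e = e) (S : Submodule R M) : c e M = c e S * c e (M ⧸ S) := by
  let φ : (mu e M).range →+ M ⧸ S := (S.mkQ.toAddMonoidHom).comp (mu e M).range.subtype
  have h1 : Nat.card (mu e M).range = Nat.card φ.ker * Nat.card φ.range := by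
    rw [← AddSubgroup.index_ker φ]
    exact φ.ker.card_mul_index.symm
  have h2 : Nat.card φ.range = c e (M ⧸ S) := by
    rw [c]
    congr 2
    apply le_antisymm
    · rintro _ ⟨⟨_, x, rfl⟩, rfl⟩
      exact ⟨S.mkQ x, rfl⟩
    · rintro _ ⟨y, rfl⟩
      obtain ⟨x, rfl⟩ := S.mkQ_surjective y
      exact ⟨⟨e • x, x, rfl⟩, rfl⟩
  have h3 : Nat.card φ.ker = c e S := by
    rw [c]
    have hk : ∀ z : (mu e M).range, z ∈ φ.ker ↔ z.1 ∈ S := by
      intro z
      change S.mkQ z.1 = 0 ↔ _
      rw [Submodule.mkQ_apply, Submodule.Quotient.mk_eq_zero]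
    have hr : ∀ z : M, z ∈ (mu e M).range → ∀ hz : z ∈ S, (⟨z, hz⟩ : S) ∈ (mu e S).range := by
      rintro _ ⟨x, rfl⟩ hz
      refine ⟨⟨e • x, hz⟩, ?_⟩
      ext1
      change e • (e • x) = e • x
      rw [smul_smul, he]
    refine Nat.card_congr
      { toFun := fun z => ⟨⟨z.1.1, (hk z.1).1 z.2⟩, hr _ z.1.2 _⟩
        invFun := fun z => ⟨⟨z.1.1, ?_⟩, ?_⟩
        left_inv := fun z => rfl
        right_inv := fun z => rfl }
    · obtain ⟨x, hx⟩ := z.2
      exact ⟨x.1, congrArg Subtype.val hx⟩
    · exact (hk _).2 z.1.2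
  rw [c, h1, h2, h3]

end

/-- `e` is a primitive idempotent -/
structure Prim (e : R) : Prop where
  idem : e * e = e
  ne : e ≠ 0
  prim : ∀ f : R, f * f = f → e * f = f → f * e = f → f = 0 ∨ f = e

theorem exists_idem [Finite R] (a : R) : ∃ k, 0 < k ∧ a ^ k * a ^ k = a ^ k := by
  obtain ⟨m, n, hmn, h⟩ : ∃ m n : ℕ, m < n ∧ a ^ m = a ^ n := by
    have := Finite.exists_ne_map_eq_of_infinite (fun n : ℕ => a ^ n)
    obtain ⟨m, n, hne, h⟩ := this
    rcases lt_or_gt_of_ne hne with h1 | h1
    · exact ⟨m, n, h1, h⟩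
    · exact ⟨n, m, h1, h.symm⟩
  -- `a ^ m = a ^ (m + d)`
  obtain ⟨d, hd, rfl⟩ : ∃ d, 0 < d ∧ n = m + d := ⟨n - m, by omega, by omega⟩
  have h1 : ∀ j, m ≤ j → a ^ (j + d) = a ^ j := by
    intro j hj
    obtain ⟨i, rfl⟩ := Nat.exists_eq_add_of_le hj
    rw [show m + i + d = i + (m + d) by ring, pow_add, ← h, ← pow_add]
    congr 1; ring
  have h2 : ∀ t j, m ≤ j → a ^ (j + t * d) = a ^ j := by
    intro t
    induction t with
    | zero => intro j _; simp
    | succ t ih =>
      intro j hj
      rw [show j + (t + 1) * d = (j + t * d) + d by ring, h1 _ (by omega), ih j hj]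
  refine ⟨(m + 1) * d, by positivity, ?_⟩
  rw [← pow_add]
  apply h2
  nlinarith

/-! ### simple modules and primitive idempotents -/

theorem Prim.pow [Finite R] {e a : R} (h : Prim e) (h1 : e * a = a) (h2 : a * e = a) (ha : ¬ IsNilpotent a) :
    ∃ k, 0 < k ∧ a ^ k = e := by
  obtain ⟨k, hk, hi⟩ := exists_idem a
  obtain ⟨j, rfl⟩ : ∃ j, k = j + 1 := ⟨k - 1, by omega⟩
  refine ⟨j + 1, hk, ?_⟩
  rcases h.prim _ hi (by rw [pow_succ', ← mul_assoc, h1]) (by rw [pow_succ, mul_assoc, h2]) with h3 | h3
  · exact absurd ⟨_, h3⟩ ha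
  · exact h3

section simple

variable {S : Type*} [AddCommGroup S] [Module R S] [IsSimpleModule R S]

theorem exists_smul {v : S} (hv : v ≠ 0) (w : S) : ∃ b : R, b • v = w := by
  obtain ⟨b, hb⟩ := IsSimpleModule.toSpanSingleton_surjective R hv w
  exact ⟨b, hb⟩

theorem pow_smul_eq {a : R} {v : S} (h : a • v = v) (n : ℕ) : a ^ n • v = v := by
  induction n with
  | zero => rw [pow_zero, one_smul]
  | succ n ih => rw [pow_succ, mul_smul, h, ih]

theorem not_nilp {a : R} {v : S} (hv : v ≠ 0) (h : a • v = v) : ¬ IsNilpotent a := by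
  rintro ⟨n, hn⟩
  apply hv
  rw [← pow_smul_eq h n, hn, zero_smul]

theorem Prim.smul_iff [Finite R] {e a : R} (h : Prim e) (h1 : e * a = a) (h2 : a * e = a) {v : S}
    (hv : v ≠ 0) (hev : e • v = v) : a • v = 0 ↔ IsNilpotent a := by
  constructor
  · intro h3
    by_contra h4
    obtain ⟨k, hk, h5⟩ := h.pow h1 h2 h4
    obtain ⟨j, rfl⟩ : ∃ j, k = j + 1 := ⟨k - 1, by omega⟩
    apply hv
    rw [← hev, ← h5, pow_succ, mul_smul, h3, smul_zero]
  · rintro ⟨n, hn⟩
    by_contra h3
    obtain ⟨b, hb⟩ := exists_smul (R := R) h3 v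
    have h4 : (e * b * a) • v = v := by rw [mul_assoc, mul_smul, mul_smul, hb, hev]
    obtain ⟨k, hk, h5⟩ := h.pow (a := e * b * a) (by rw [← mul_assoc, ← mul_assoc, h.idem])
      (by rw [mul_assoc, h2]) (not_nilp hv h4)
    obtain ⟨j, rfl⟩ : ∃ j, k = j + 1 := ⟨k - 1, by omega⟩
    -- `d * a = e`
    obtain ⟨d, hd⟩ : ∃ d, d * a = e := ⟨(e * b * a) ^ j * (e * b), by rw [mul_assoc, ← pow_succ, h5]⟩
    have h6 : ∀ i, d ^ (i + 1) * a ^ (i + 1) = e := by
      intro i
      induction i with
      | zero => rw [zero_add, pow_one, pow_one, hd]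
      | succ i ih =>
        rw [pow_succ d, pow_succ' a, mul_assoc, ← mul_assoc d, hd]
        have : e * a ^ (i + 1) = a ^ (i + 1) := by rw [pow_succ', ← mul_assoc, h1]
        rw [this, ih]
    apply h.ne
    rw [← h6 n, pow_succ a, hn, zero_mul, mul_zero]

/-- `|R| = |{r | e r e nilpotent}| |e S|` -/
theorem Prim.card_eq [Finite R] [Finite S] {e : R} (h : Prim e) (hS : ∃ v : S, e • v ≠ 0) :
    Nat.card R = Nat.card {r : R // IsNilpotent (e * r * e)} * c e S := by
  obtain ⟨v₀, hv₀⟩ := hS
  set v := e • v₀ with hv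
  have hev : e • v = v := by rw [hv, smul_smul, h.idem]
  let g : R →+ S :=
    { toFun := fun r => (e * r * e) • v
      map_zero' := by rw [mul_zero, zero_mul, zero_smul]
      map_add' := fun r s => by rw [mul_add, add_mul, add_smul] }
  have h1 : Nat.card R = Nat.card g.ker * Nat.card g.range := by
    rw [← AddSubgroup.index_ker g]
    exact g.ker.card_mul_index.symm
  have h2 : g.range = (mu e S).range := by
    apply le_antisymm
    · rintro _ ⟨r, rfl⟩
      refine ⟨r • v, ?_⟩
      change e • (r • v) = (e * r * e) • v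
      rw [mul_smul, hev, mul_smul]
    · rintro _ ⟨x, rfl⟩
      obtain ⟨r, hr⟩ := exists_smul (R := R) hv₀ x
      refine ⟨r, ?_⟩
      change (e * r * e) • v = e • x
      rw [mul_smul, hev, mul_smul, hr]
  have h3 : Nat.card g.ker = Nat.card {r : R // IsNilpotent (e * r * e)} := by
    refine Nat.card_congr (Equiv.subtypeEquivRight fun r => ?_)
    change (e * r * e) • v = 0 ↔ _
    exact h.smul_iff (by rw [← mul_assoc, ← mul_assoc, h.idem]) (by rw [mul_assoc, h.idem]) hv₀ hev
  rw [h1, h2, h3, c]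

end simple

/-- `|e S|` is the same for all simple `S` with `e S ≠ 0` -/
theorem Prim.c_eq [Finite R] {e : R} (h : Prim e) {S N : Type*} [AddCommGroup S] [Module R S]
    [IsSimpleModule R S] [AddCommGroup N] [Module R N] [IsSimpleModule R N] [Finite S] [Finite N]
    (hS : ∃ v : S, e • v ≠ 0) (hN : ∃ v : N, e • v ≠ 0) : c e S = c e N := by
  have h1 := h.card_eq hS
  have h2 := h.card_eq hN
  rw [h1] at h2
  refine Nat.eq_of_mul_eq_mul_left ?_ h2
  have : Nonempty {r : R // IsNilpotent (e * r * e)} := ⟨⟨0, by rw [mul_zero, zero_mul]; exact IsNilpotent.zero⟩⟩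
  exact Nat.card_pos

/-- `|e M|` is a power of `|e N|` -/
theorem Prim.c_pow [Finite R] {e : R} (h : Prim e) {N : Type*} [AddCommGroup N] [Module R N]
    [IsSimpleModule R N] [Finite N] (hN : ∃ v : N, e • v ≠ 0) :
    ∀ (n : ℕ) (M : Type*) [AddCommGroup M] [Module R M] [Finite M], Nat.card M = n → ∃ k, c e M = c e N ^ k := by
  intro n
  induction n using Nat.strong_induction_on with
  | _ n ih =>
    intro M _ _ _ hM
    rcases IsAtomic.eq_bot_or_exists_atom_le (⊤ : Submodule R M) with h1 | ⟨S, hS, _⟩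
    · refine ⟨0, ?_⟩
      rw [pow_zero]
      apply c_eq_one
      intro m
      have : m ∈ (⊤ : Submodule R M) := trivial
      rw [h1, Submodule.mem_bot] at this
      rw [this, smul_zero]
    · have hS' : IsSimpleModule R S := isSimpleModule_iff_isAtom.2 hS
      have hfin : Finite (M ⧸ S) := Finite.of_surjective _ S.mkQ_surjective
      have h2 : Nat.card (M ⧸ S) < n := by
        have h3 := Submodule.card_eq_card_quotient_mul_card S
        have h4 : 1 < Nat.card S := by
          have : Nontrivial S := IsSimpleModule.nontrivial R S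
          exact Finite.one_lt_card
        rw [← hM, h3]
        have h5 : 0 < Nat.card (M ⧸ S) := Nat.card_pos
        nlinarith
      obtain ⟨k, hk⟩ := ih _ h2 (M ⧸ S) rfl
      rw [c_sub h.idem S, hk]
      by_cases h6 : ∃ v : S, e • v ≠ 0
      · exact ⟨k + 1, by rw [h.c_eq h6 hN, pow_succ, mul_comm]⟩
      · push Not at h6
        exact ⟨k, by rw [c_eq_one h6, one_mul]⟩

/-- every idempotent which is non-zero on `S` contains a primitive one -/
theorem exists_prim [Finite R] {S : Type*} [AddCommGroup S] [Module R S] :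
    ∀ (n : ℕ) (e : R), c e R = n → e * e = e → (∃ v : S, e • v ≠ 0) →
      ∃ f : R, Prim f ∧ e * f = f ∧ f * e = f ∧ ∃ v : S, f • v ≠ 0 := by
  intro n
  induction n using Nat.strong_induction_on with
  | _ n ih =>
    intro e hn he hS
    by_cases hp : Prim e
    · exact ⟨e, hp, he, he, hS⟩
    have h0 : e ≠ 0 := by
      rintro rfl
      obtain ⟨v, hv⟩ := hS
      exact hv (zero_smul R v)
    obtain ⟨f, hf, h1, h2, h3, h4⟩ : ∃ f : R, f * f = f ∧ e * f = f ∧ f * e = f ∧ f ≠ 0 ∧ f ≠ e := by
      by_contra hcon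
      apply hp
      refine ⟨he, h0, fun f hf h1 h2 => ?_⟩
      by_contra h3
      push Not at h3
      exact hcon ⟨f, hf, h1, h2, h3.1, h3.2⟩
    have hg : (e - f) * (e - f) = e - f := by
      rw [mul_sub, sub_mul, sub_mul, he, hf, h1, h2]; abel
    have hfg : f * (e - f) = 0 := by rw [mul_sub, h2, hf, sub_self]
    have hgf : (e - f) * f = 0 := by rw [sub_mul, h1, hf, sub_self]
    have h5 : c e R = c f R * c (e - f) R := by
      conv_lhs => rw [show e = f + (e - f) by abel]
      exact c_add hf hg hfg hgf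
    have h6 : 2 ≤ c f R := two_le_c ⟨1, by rw [smul_eq_mul, mul_one]; exact h3⟩
    have h7 : 2 ≤ c (e - f) R := two_le_c ⟨1, by rw [smul_eq_mul, mul_one]; exact sub_ne_zero.2 h4.symm⟩
    by_cases h8 : ∃ v : S, f • v ≠ 0
    · obtain ⟨k, hk, h9, h10, h11⟩ := ih (c f R) (by rw [← hn, h5]; nlinarith) f rfl hf h8
      exact ⟨k, hk, by rw [← h9, ← mul_assoc, h1], by rw [← h10, mul_assoc, h2], h11⟩
    · push Not at h8
      have h9 : ∃ v : S, (e - f) • v ≠ 0 := by
        obtain ⟨v, hv⟩ := hS
        refine ⟨v, ?_⟩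
        rw [sub_smul, h8 v, sub_zero]
        exact hv
      obtain ⟨k, hk, h10, h11, h12⟩ := ih (c (e - f) R) (by rw [← hn, h5]; nlinarith) (e - f) rfl hg h9
      refine ⟨k, hk, ?_, ?_, h12⟩
      · rw [← h10, ← mul_assoc, mul_sub, he, h1]
      · rw [← h11, mul_assoc, sub_mul, he, h2]

/-- two simple modules on which the primitive idempotent `e` is non-zero are isomorphic -/
theorem iso_of_prim [Finite R] {e : R} (he : Prim e) {S N : Type*} [AddCommGroup S] [Module R S]
    [IsSimpleModule R S] [AddCommGroup N] [Module R N] [IsSimpleModule R N]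
    (hS : ∃ v : S, e • v ≠ 0) (hN : ∃ v : N, e • v ≠ 0) : Nonempty (S ≃ₗ[R] N) := by
  obtain ⟨v₀, hv₀⟩ := hS
  obtain ⟨u₀, hu₀⟩ := hN
  -- the kernels of `r ↦ r v` and `r ↦ r u` are the same
  have hev : e • (e • v₀) = e • v₀ := by rw [smul_smul, he.idem]
  have heu : e • (e • u₀) = e • u₀ := by rw [smul_smul, he.idem]
  have hk : ∀ r : R, r • (e • v₀) = 0 ↔ r • (e • u₀) = 0 := by
    intro r
    constructor
    · intro h4
      by_contra h5
      obtain ⟨b, hb⟩ := exists_smul (R := R) h5 (e • u₀)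
      have h6 : (e * (b * r) * e) • (e • u₀) = e • u₀ := by
        rw [mul_smul, heu, mul_smul, mul_smul, hb, heu]
      have h7 : (e * (b * r) * e) • (e • v₀) = 0 := by
        rw [mul_smul, hev, mul_smul, mul_smul, h4, smul_zero, smul_zero]
      exact not_nilp hu₀ h6 ((he.smul_iff (by rw [← mul_assoc, ← mul_assoc, he.idem])
        (by rw [mul_assoc, he.idem]) hv₀ hev).1 h7)
    · intro h4
      by_contra h5
      obtain ⟨b, hb⟩ := exists_smul (R := R) h5 (e • v₀)
      have h6 : (e * (b * r) * e) • (e • v₀) = e • v₀ := by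
        rw [mul_smul, hev, mul_smul, mul_smul, hb, hev]
      have h7 : (e * (b * r) * e) • (e • u₀) = 0 := by
        rw [mul_smul, heu, mul_smul, mul_smul, h4, smul_zero, smul_zero]
      exact not_nilp hv₀ h6 ((he.smul_iff (by rw [← mul_assoc, ← mul_assoc, he.idem])
        (by rw [mul_assoc, he.idem]) hu₀ heu).1 h7)
  let ψ : R →ₗ[R] S := LinearMap.toSpanSingleton R S (e • v₀)
  let χ : R →ₗ[R] N := LinearMap.toSpanSingleton R N (e • u₀)
  have hψ : Function.Surjective ψ := IsSimpleModule.toSpanSingleton_surjective R hv₀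
  have hχ : Function.Surjective χ := IsSimpleModule.toSpanSingleton_surjective R hu₀
  have hker : LinearMap.ker ψ = LinearMap.ker χ := by
    ext r
    exact hk r
  exact ⟨(ψ.quotKerEquivOfSurjective hψ).symm.trans
    ((Submodule.quotEquivOfEq _ _ hker).trans (χ.quotKerEquivOfSurjective hχ))⟩

/-! ### the trick -/

section main

variable [Finite R] {W M N : Type*} [AddCommGroup W] [Module R W] [Finite W] [AddCommGroup M] [Module R M]
  [Finite M] [AddCommGroup N] [Module R N] [Finite N] [IsSimpleModule R N]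
  (hNM : ∀ r : R, (∀ m : M, r • m = 0) → ∀ n : N, r • n = 0)
  (h : ∀ r : R, (∃ m : M, r • m ≠ 0) → 2 * c r M ≤ c r W)

include hNM h

theorem trick_prim {e : R} (he : Prim e) : c e M * c e N ≤ c e W := by
  by_cases h1 : ∃ m : M, e • m ≠ 0
  · by_cases h2 : ∃ n : N, e • n ≠ 0
    · obtain ⟨a, ha⟩ := he.c_pow h2 _ M rfl
      obtain ⟨b, hb⟩ := he.c_pow h2 _ W rfl
      have h3 := h e h1
      have h4 := two_le_c h2
      rw [ha, hb] at h3 ⊢
      rw [← pow_succ]
      apply Nat.pow_le_pow_right (by omega)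
      by_contra h5
      have h6 : c e N ^ b ≤ c e N ^ a := Nat.pow_le_pow_right (by omega) (by omega)
      have h7 : 0 < c e N ^ a := by positivity
      omega
    · push Not at h2
      rw [c_eq_one h2, mul_one]
      have h3 := h e h1
      omega
  · push Not at h1
    rw [c_eq_one h1, c_eq_one (hNM e h1), mul_one]
    exact c_pos e

theorem trick_idem : ∀ (n : ℕ) (e : R), c e R = n → e * e = e → c e M * c e N ≤ c e W := by
  intro n
  induction n using Nat.strong_induction_on with
  | _ n ih =>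
    intro e hn he
    by_cases hp : Prim e
    · exact trick_prim hNM h hp
    by_cases h0 : e = 0
    · subst h0
      rw [c_eq_one (fun m => zero_smul R m), c_eq_one (fun m => zero_smul R m), mul_one]
      exact c_pos 0
    obtain ⟨f, hf, h1, h2, h3, h4⟩ : ∃ f : R, f * f = f ∧ e * f = f ∧ f * e = f ∧ f ≠ 0 ∧ f ≠ e := by
      by_contra hcon
      apply hp
      refine ⟨he, h0, fun f hf h1 h2 => ?_⟩
      by_contra h3
      push Not at h3
      exact hcon ⟨f, hf, h1, h2, h3.1, h3.2⟩
    have hg : (e - f) * (e - f) = e - f := by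
      rw [mul_sub, sub_mul, sub_mul, he, hf, h1, h2]; abel
    have hfg : f * (e - f) = 0 := by rw [mul_sub, h2, hf, sub_self]
    have hgf : (e - f) * f = 0 := by rw [sub_mul, h1, hf, sub_self]
    have h5 : c e R = c f R * c (e - f) R := by
      conv_lhs => rw [show e = f + (e - f) by abel]
      exact c_add hf hg hfg hgf
    have hM : c e M = c f M * c (e - f) M := by
      conv_lhs => rw [show e = f + (e - f) by abel]
      exact c_add hf hg hfg hgf
    have hN : c e N = c f N * c (e - f) N := by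
      conv_lhs => rw [show e = f + (e - f) by abel]
      exact c_add hf hg hfg hgf
    have hW : c e W = c f W * c (e - f) W := by
      conv_lhs => rw [show e = f + (e - f) by abel]
      exact c_add hf hg hfg hgf
    have h6 : 2 ≤ c f R := two_le_c ⟨1, by rw [smul_eq_mul, mul_one]; exact h3⟩
    have h7 : 2 ≤ c (e - f) R := two_le_c ⟨1, by rw [smul_eq_mul, mul_one]; exact sub_ne_zero.2 h4.symm⟩
    have h8 := ih (c f R) (by rw [← hn, h5]; nlinarith) f rfl hf
    have h9 := ih (c (e - f) R) (by rw [← hn, h5]; nlinarith) (e - f) rfl hg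
    rw [hM, hN, hW]
    calc c f M * c (e - f) M * (c f N * c (e - f) N) = (c f M * c f N) * (c (e - f) M * c (e - f) N) := by ring
      _ ≤ _ := Nat.mul_le_mul h8 h9

/-- **the ring trick** -/
theorem trick : Nat.card M * Nat.card N ≤ Nat.card W := by
  have h1 := trick_idem hNM h _ (1 : R) rfl (mul_one 1)
  rwa [c_one, c_one, c_one] at h1

/-- equality: the idempotents -/
theorem eq_idem (heq : Nat.card W = Nat.card M * Nat.card N) {e : R} (he : e * e = e) :
    c e W = c e M * c e N := by
  have hg : (1 - e) * (1 - e) = 1 - e := by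
    rw [mul_sub, sub_mul, sub_mul, he, one_mul, one_mul, mul_one]; abel
  have heg : e * (1 - e) = 0 := by rw [mul_sub, he, mul_one, sub_self]
  have hge : (1 - e) * e = 0 := by rw [sub_mul, he, one_mul, sub_self]
  have hW : Nat.card W = c e W * c (1 - e) W := by
    rw [← c_one (R := R) (M := W), show (1 : R) = e + (1 - e) by abel]
    conv_rhs => rw [show e + (1 - e) - e = 1 - e by abel]
    exact c_add he hg heg hge
  have hM : Nat.card M = c e M * c (1 - e) M := by
    rw [← c_one (R := R) (M := M), show (1 : R) = e + (1 - e) by abel]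
    conv_rhs => rw [show e + (1 - e) - e = 1 - e by abel]
    exact c_add he hg heg hge
  have hN : Nat.card N = c e N * c (1 - e) N := by
    rw [← c_one (R := R) (M := N), show (1 : R) = e + (1 - e) by abel]
    conv_rhs => rw [show e + (1 - e) - e = 1 - e by abel]
    exact c_add he hg heg hge
  have h1 := trick_idem hNM h _ e rfl he
  have h2 := trick_idem hNM h _ (1 - e) rfl hg
  rw [hW, hM, hN] at heq
  apply le_antisymm _ h1
  have h3 : c e W * c (1 - e) W = (c e M * c e N) * (c (1 - e) M * c (1 - e) N) := by rw [heq]; ring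
  have h4 : c e W * c (1 - e) W ≤ (c e M * c e N) * c (1 - e) W := by
    rw [h3]; exact Nat.mul_le_mul_left _ h2
  exact Nat.le_of_mul_le_mul_right h4 (c_pos _)

/-- equality: every simple factor of `W` is isomorphic to `N` -/
theorem eq_iso (heq : Nat.card W = Nat.card M * Nat.card N) {S : Type*} [AddCommGroup S] [Module R S]
    [IsSimpleModule R S] (hSW : ∀ r : R, (∀ w : W, r • w = 0) → ∀ s : S, r • s = 0) :
    Nonempty (S ≃ₗ[R] N) := by
  have hSn : Nontrivial S := IsSimpleModule.nontrivial R S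
  obtain ⟨s, hs⟩ := exists_ne (0 : S)
  obtain ⟨e, he, -, -, v₀, hv₀⟩ := exists_prim (S := S) _ (1 : R) rfl (mul_one 1) ⟨s, by rwa [one_smul]⟩
  have hW : ∃ w : W, e • w ≠ 0 := by
    by_contra hcon
    push Not at hcon
    exact hv₀ (hSW e hcon v₀)
  have h1 := eq_idem hNM h heq he.idem
  have h2 := two_le_c hW
  have hM : ∃ m : M, e • m ≠ 0 := by
    by_contra hcon
    push Not at hcon
    rw [c_eq_one hcon, c_eq_one (hNM e hcon)] at h1
    omega
  have h3 := h e hM
  have hN : ∃ n : N, e • n ≠ 0 := by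
    by_contra hcon
    push Not at hcon
    rw [c_eq_one hcon, mul_one] at h1
    have := c_pos (M := M) e
    omega
  exact iso_of_prim he ⟨v₀, hv₀⟩ hN

end main

universe v

/-- if every simple factor is isomorphic to `N`, the order is a power of `|N|` -/
theorem card_pow {N : Type*} [AddCommGroup N] [Module R N] [Finite N] :
    ∀ (n : ℕ) (X : Type v) [AddCommGroup X] [Module R X] [Finite X], Nat.card X = n →
      (∀ (S : Type v) [AddCommGroup S] [Module R S] [IsSimpleModule R S],
        (∀ r : R, (∀ x : X, r • x = 0) → ∀ s : S, r • s = 0) → Nonempty (S ≃ₗ[R] N)) →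
      ∃ k, Nat.card X = Nat.card N ^ k := by
  intro n
  induction n using Nat.strong_induction_on with
  | _ n ih =>
    intro M _ _ _ hM hS
    rcases IsAtomic.eq_bot_or_exists_atom_le (⊤ : Submodule R M) with h1 | ⟨S, hSa, _⟩
    · refine ⟨0, ?_⟩
      rw [pow_zero]
      have : Subsingleton M := by
        refine ⟨fun x y => ?_⟩
        have hx : x ∈ (⊤ : Submodule R M) := trivial
        have hy : y ∈ (⊤ : Submodule R M) := trivial
        rw [h1, Submodule.mem_bot] at hx hy
        rw [hx, hy]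
      exact Nat.card_unique
    · have hS' : IsSimpleModule R S := isSimpleModule_iff_isAtom.2 hSa
      have hfin : Finite (M ⧸ S) := Finite.of_surjective _ S.mkQ_surjective
      have h3 := Submodule.card_eq_card_quotient_mul_card S
      have h4 : 1 < Nat.card S := by
        have : Nontrivial S := IsSimpleModule.nontrivial R S
        exact Finite.one_lt_card
      have h2 : Nat.card (M ⧸ S) < n := by
        rw [← hM, h3]
        have h5 : 0 < Nat.card (M ⧸ S) := Nat.card_pos
        nlinarith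
      obtain ⟨k, hk⟩ := ih _ h2 (M ⧸ S) rfl (by
        intro S' _ _ _ h5
        apply hS S'
        intro r hr
        apply h5
        intro x
        obtain ⟨y, rfl⟩ := S.mkQ_surjective x
        rw [← map_smul, hr y, map_zero])
      obtain ⟨f⟩ := hS S (by
        intro r hr s
        ext1
        exact hr s.1)
      refine ⟨k + 1, ?_⟩
      rw [h3, hk, Nat.card_congr f.toEquiv, pow_succ]
      ring

end Cfsg.Agent.Omega.NO3b.TheoremL.RingTrick
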